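import Cfsg.Agent.OrthField.Main
import Cfsg.Agent.Geo.OrthLagrangianPair
import Cfsg.Agent.Elusive.ExtField

/-!
The matrix form: the normaliser of a self-adjoint field of prime degree is maximal in `Ω`.
-/

set_option autoImplicit false
set_option linter.unusedSectionVars false
set_option linter.style.haveILetI false

namespace CfsgLib.OrthField

open QuadraticMap CfsgLib.Forms CfsgLib.Quad Module Cfsg.Geo
open scoped Matrix

variable {F : Type*} [Field F] [Fintype F] {ι : Type} [Fintype ι] [DecidableEq ι]

theorem two_ne_of_odd_card (hodd : Odd (Fintype.card F)) : (2 : F) ≠ 0 := fun h => by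
  haveI : CharP F 2 := CharTwo.of_one_ne_zero_of_two_eq_zero one_ne_zero h
  exact (Nat.not_even_iff_odd.2 hodd)
    (Nat.even_iff.2 (FiniteField.even_card_of_char_two (ringChar.eq F 2)))

/-- From eight dimensions on; in eight dimensions there is no totally singular four-space. -/
theorem normalizer_maximal_of_eight {r : ℕ} (h2 : (2 : F) ≠ 0) (hn : 8 ≤ Fintype.card ι)
    (Q : QuadraticForm F (ι → F)) (hQ : (polarBilin Q).Nondegenerate) (hr : r.Prime)
    (hk3 : ∀ k, Fintype.card ι = r * k → 3 ≤ k)
    (hno : Fintype.card ι = 8 → ∀ T : Submodule F (ι → F), (∀ x ∈ T, Q x = 0) → finrank F T < 4)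
    (K : Subalgebra F (Matrix ι ι F)) (hK : IsFieldSubalgebra r K)
    (hsa : IsSelfAdjointFor (polar ⇑Q) K) :
    IsMaximalIn (omegaGL ⇑Q) (subalgebraNormalizer K ⊓ omegaGL ⇑Q) := by
  classical
  have : Nonempty ι := Fintype.card_pos_iff.1 (by omega)
  letI : CommRing K :=
    { (inferInstance : Ring K) with
      mul_comm := fun x y => Subtype.ext (hK.comm x x.2 y y.2) }
  have hf : IsField K :=
    { exists_pair_ne := ⟨0, 1, fun h => zero_ne_one (congrArg Subtype.val h)⟩
      mul_comm := mul_comm
      mul_inv_cancel := fun {x} hx => by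
        obtain ⟨y, hy, hxy⟩ := hK.inv x x.2 fun e => hx (Subtype.ext e)
        exact ⟨⟨y, hy⟩, Subtype.ext hxy⟩ }
  letI : Field K := hf.toField
  have : Finite (Matrix ι ι F) := Finite.of_equiv (ι → ι → F) Matrix.of
  have : Finite K := Finite.of_injective _ Subtype.val_injective
  let V := ι → F
  letI : Module K V :=
    { smul := fun k v => (k : Matrix ι ι F) *ᵥ v
      one_smul := fun v => Matrix.one_mulVec v
      mul_smul := fun k l v => (Matrix.mulVec_mulVec v _ _).symm
      smul_zero := fun k => Matrix.mulVec_zero _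
      smul_add := fun k v w => Matrix.mulVec_add _ v w
      add_smul := fun k l v => Matrix.add_mulVec _ _ v
      zero_smul := fun v => Matrix.zero_mulVec v }
  have hsm : ∀ (k : K) (v : V), k • v = (k : Matrix ι ι F) *ᵥ v := fun k v => rfl
  have : IsScalarTower F K V := ⟨fun a k v => Matrix.smul_mulVec a _ v⟩
  have : Finite V := Pi.finite
  have : Module.Finite K V := Module.Finite.of_finite
  have hsk : ∀ (k : K) (x y : V), polar Q (k • x) y = polar Q x (k • y) := fun k x y => hsa k k.2 x y
  -- the form over the larger field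
  let L : V → V → Module.Dual F K := fun x y =>
    { toFun := fun k => polar Q (k • x) y
      map_add' := fun k l => by rw [add_smul]; exact polar_add_left _ _ _ _
      map_smul' := fun a k => by rw [smul_assoc]; exact polar_smul_left _ _ _ _ }
  let e := LinearMap.BilinForm.toDual (Algebra.traceForm F K) (traceForm_nondegenerate F K)
  let B₀ : V → V → K := fun x y => e.symm (L x y)
  have hB : ∀ x y (k : K), Algebra.trace F K (k * B₀ x y) = polar Q (k • x) y := fun x y k => by
    have h : e (B₀ x y) k = polar Q (k • x) y := by rw [e.apply_symm_apply]; rfl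
    rw [mul_comm]
    exact h
  let B : V →ₗ[K] V →ₗ[K] K := LinearMap.mk₂ K B₀
    (fun x x' y => eq_of_trace (F := F) fun k => by
      rw [mul_add, map_add, hB, hB, hB, smul_add]; exact polar_add_left _ _ _ _)
    (fun c x y => eq_of_trace (F := F) fun k => by rw [smul_eq_mul, ← mul_assoc, hB, hB, mul_smul])
    (fun x y y' => eq_of_trace (F := F) fun k => by
      rw [mul_add, map_add, hB, hB, hB]; exact polar_add_right _ _ _ _)
    (fun c x y => eq_of_trace (F := F) fun k => by
      rw [smul_eq_mul, ← mul_assoc, hB, hB, ← hsk c, ← mul_smul, mul_comm c k])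
  have hBsymm : ∀ x y, B y x = B x y := fun x y => eq_of_trace (F := F) fun k => by
    show Algebra.trace F K (k * B₀ y x) = Algebra.trace F K (k * B₀ x y)
    rw [hB, hB, hsk, polar_comm]
  have hB' : ∀ x y, Algebra.trace F K (B x y) = polar Q x y := fun x y => by
    have h := hB x y 1
    rwa [one_mul, one_smul] at h
  have h2K : (2 : K) ≠ 0 := fun h => h2 ((algebraMap F K).injective (by rw [map_ofNat, map_zero, h]))
  let P : QuadraticForm K V := LinearMap.BilinMap.toQuadraticMap ((2 : K)⁻¹ • B)
  have hP : ∀ v, P v = (2 : K)⁻¹ * B v v := fun v => rfl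
  have hPpol : ∀ x y, polar P x y = B x y := fun x y => by
    simp only [polar, hP, map_add, LinearMap.add_apply]
    rw [hBsymm x y]
    field_simp
    ring
  have hVrank : finrank F V = Fintype.card ι := Module.finrank_pi F
  have hF : Fld Q P :=
    { tr := fun v => by
        have h := hB' v v
        rw [polar_self, nsmul_eq_mul, Nat.cast_ofNat] at h
        have he : (2 : K)⁻¹ = algebraMap F K (2 : F)⁻¹ := by rw [map_inv₀, map_ofNat]
        rw [hP, he, ← Algebra.smul_def, map_smul, h, smul_eq_mul, ← mul_assoc, inv_mul_cancel₀ h2,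
          one_mul]
      ndQ := hQ
      ndP := by
        refine ⟨fun x hx => ?_, fun y hy => ?_⟩
        · by_contra hx0
          obtain ⟨y, hy⟩ := exists_polar_ne hQ hx0
          refine hy ?_
          rw [← hB', ← hPpol]
          have h := hx y
          rw [polarBilin_apply_apply] at h
          rw [h, map_zero]
        · by_contra hy0
          obtain ⟨x, hx⟩ := exists_polar_ne hQ hy0
          refine hx ?_
          rw [← hB', ← hPpol, polar_comm]
          have h := hy x
          rw [polarBilin_apply_apply] at h
          rw [h, map_zero]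
      two := h2
      prime := hK.finrank_eq.symm ▸ hr
      three := hk3 _ (by rw [← hVrank, ← Module.finrank_mul_finrank F K V, hK.finrank_eq])
      big := hVrank.symm ▸ hn
      four := fun hr2 hk u v hu hv huv hu0 => by
        by_contra hnot
        have hli : LinearIndependent K ![u, v] :=
          (LinearIndependent.pair_iff' hu0).2 fun c hc => hnot (Submodule.mem_span_singleton.2 ⟨c, hc⟩)
        set W := Submodule.span K (Set.range ![u, v])
        have hW : finrank K W = 2 := by
          rw [finrank_span_eq_card hli, Fintype.card_fin]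
        have h4 : finrank F (W.restrictScalars F) = 4 := by
          have h := Module.finrank_mul_finrank F K W
          rw [hr2, hW] at h
          exact h.symm.trans rfl
        have h8 : Fintype.card ι = 8 := by
          rw [← hVrank, ← Module.finrank_mul_finrank F K V, hr2, hk]
        refine absurd (hno h8 (W.restrictScalars F) fun x hx => ?_) (by omega)
        obtain ⟨c, rfl⟩ := (Submodule.mem_span_range_iff_exists_fun K).1 hx
        have hPx : P (∑ i, c i • ![u, v] i) = 0 := by
          rw [Fin.sum_univ_two, Matrix.cons_val_zero, Matrix.cons_val_one, Matrix.cons_val_zero, quad_add,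
            quad_smul, quad_smul, hu, hv, polar_smul_left, polar_smul_right, huv, smul_zero, smul_zero]
          ring
        have htr : Algebra.trace F K (P (∑ i, c i • ![u, v] i)) = Q (∑ i, c i • ![u, v] i) := by
          have h := hB' (∑ i, c i • ![u, v] i) (∑ i, c i • ![u, v] i)
          rw [polar_self, nsmul_eq_mul, Nat.cast_ofNat] at h
          have he : (2 : K)⁻¹ = algebraMap F K (2 : F)⁻¹ := by rw [map_inv₀, map_ofNat]
          rw [hP, he, ← Algebra.smul_def, map_smul, h, smul_eq_mul, ← mul_assoc, inv_mul_cancel₀ h2, one_mul]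
        rw [← htr, hPx, map_zero] }
  refine CfsgLib.Geo.OS.isMaximalIn_map_omega (L := hF.semiSub) (fun g _ => ?_) hF.isMaximal
  rw [hF.mem_semiSub]
  constructor
  · intro h k
    refine ⟨⟨_, (h k).1 k.2⟩, fun x => ?_⟩
    simp only [hsm, ← CfsgLib.Geo.OS.toGL_mulVec, Matrix.mulVec_mulVec, mul_assoc, Units.inv_mul,
      mul_one]
  · intro h
    refine CfsgLib.Elusive.mem_normalizer_of_conj fun k hk => ?_
    obtain ⟨k', hk'⟩ := h ⟨k, hk⟩
    suffices e : (CfsgLib.Geo.OS.toGL Q g : Matrix ι ι F) * k =
        (k' : Matrix ι ι F) * (CfsgLib.Geo.OS.toGL Q g : Matrix ι ι F) by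
      rw [e, mul_assoc, Units.mul_inv, mul_one]; exact k'.2
    refine Matrix.toLin'.injective (LinearMap.ext fun z => ?_)
    have h1 := hk' z
    simp only [hsm, ← CfsgLib.Geo.OS.toGL_mulVec] at h1
    simpa only [Matrix.toLin'_apply, ← Matrix.mulVec_mulVec] using h1

/-- The case of at least nine dimensions. -/
theorem normalizer_maximal {r : ℕ} (h2 : (2 : F) ≠ 0) (hn : 9 ≤ Fintype.card ι)
    (Q : QuadraticForm F (ι → F)) (hQ : (polarBilin Q).Nondegenerate) (hr : r.Prime)
    (hk3 : ∀ k, Fintype.card ι = r * k → 3 ≤ k)
    (K : Subalgebra F (Matrix ι ι F)) (hK : IsFieldSubalgebra r K)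
    (hsa : IsSelfAdjointFor (polar ⇑Q) K) :
    IsMaximalIn (omegaGL ⇑Q) (subalgebraNormalizer K ⊓ omegaGL ⇑Q) :=
  normalizer_maximal_of_eight h2 (le_of_lt hn) Q hQ hr hk3 (fun h => absurd h (by omega)) K hK hsa

end CfsgLib.OrthField
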