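import Cfsg.Agent.Signalizer.Basic
import Mathlib.GroupTheory.Transfer
import Mathlib.GroupTheory.Nilpotent

/-!
A self-normalising elementary abelian subgroup containing a noncyclic subgroup all of whose non-trivial
elements have their centralisers inside it is the whole group.
-/

set_option autoImplicit false
set_option linter.unusedSectionVars false

namespace CfsgLib.OrthField

open Subgroup

theorem eq_top_of_selfNormalizing {G : Type*} [Group G] [Finite G] {p : ℕ} (hp : p.Prime)
    {A E : Subgroup G} (hA : Cfsg.IsElementaryAbelian p A) (hN : normalizer (A : Set G) ≤ A)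
    (hEA : E ≤ A) (hE : p ^ 2 ≤ Nat.card E) (hC : ∀ e ∈ E, e ≠ 1 → centralizer {e} ≤ A) :
    A = ⊤ := by
  haveI := Fact.mk hp
  have hpA : IsPGroup p A := fun a => ⟨1, by rw [pow_one]; exact Subtype.ext (by simpa using hA.2 a (a.2))⟩
  obtain ⟨P, hP⟩ := hpA.exists_le_sylow
  have hAP : A = (P : Subgroup G) := by
    by_contra hne
    haveI : Group.IsNilpotent (P : Subgroup G) := P.2.isNilpotent
    have hlt : A.subgroupOf P < ⊤ := lt_top_iff_ne_top.2 fun h => hne (le_antisymm hP (fun x hx => by
      have : (⟨x, hx⟩ : (P : Subgroup G)) ∈ A.subgroupOf P := by rw [h]; exact mem_top _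
      exact this))
    obtain ⟨x, hxN, hxA⟩ := Set.exists_of_ssubset
      (SetLike.coe_ssubset_coe.2 (Group.normalizerCondition_of_isNilpotent _ hlt))
    refine hxA (show (x : G) ∈ A from hN (mem_normalizer_iff.2 fun a => ?_))
    have hx := mem_normalizer_iff.1 hxN
    constructor
    · intro ha
      exact (hx ⟨a, hP ha⟩).1 ha
    · intro ha
      have hmem : a ∈ (P : Subgroup G) := by
        have := mul_mem (mul_mem (inv_mem x.2) (hP ha)) x.2
        simpa [mul_assoc] using this
      exact (hx ⟨a, hmem⟩).2 ha
  have hle : normalizer ((P : Subgroup G) : Set G) ≤ centralizer ((P : Subgroup G) : Set G) := by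
    intro g hg
    rw [← hAP] at hg
    have hga := hN hg
    refine mem_centralizer_iff.2 fun a ha => ?_
    rw [SetLike.mem_coe, ← hAP] at ha
    exact CfsgLib.Signalizer.commute hA ha hga
  set X := (MonoidHom.transferSylow P hle).ker
  have hc := MonoidHom.ker_transferSylow_isComplement' P hle
  have hXn : A ≤ normalizer (X : Set G) := le_top.trans (Subgroup.normalizer_eq_top (H := X)).ge
  have hX : ¬ p ∣ Nat.card X := by
    show ¬ p ∣ Nat.card (MonoidHom.transferSylow P hle).ker
    exact fun h => P.not_dvd_index (hc.index_eq_card ▸ h)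
  have hXbot : X = ⊥ := le_bot_iff.1 (CfsgLib.Signalizer.le_of_forall_centralizer hA hEA hE
    (hEA.trans hXn) hX fun e he he1 => by
      rw [← hc.disjoint.eq_bot]
      exact inf_le_inf_left _ ((hC e he he1).trans hAP.le))
  rw [hAP]
  exact eq_top_of_card_eq _ (by rw [← hc.card_mul, show (MonoidHom.transferSylow P hle).ker = ⊥ from hXbot]; simp)

end CfsgLib.OrthField
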