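import Cfsg.Agent.Aschbacher.FieldMax.TracePairs
import Mathlib.FieldTheory.Finite.Basic

/-!
A linear map of a finite field of odd order over a subfield keeping the quadratic class of every element up to a
constant is a multiple of an automorphism (digit sums and power sums).
-/

set_option autoImplicit false
set_option linter.unusedSectionVars false
set_option linter.style.haveILetI false

namespace CfsgLib.OrthField

open Module Finset

/-- A non-zero digit vector divisible by `p ^ N - 1` has digit sum at least `N * (p - 1)`. -/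
theorem digits_ge (p N : ℕ) (hp : 2 ≤ p) [NeZero N] (n : Fin N → ℕ) (hn : n ≠ 0)
    (hd : p ^ N - 1 ∣ ∑ i, n i * p ^ (i : ℕ)) :
    N * (p - 1) ≤ ∑ i, n i ∧ (∑ i, n i = N * (p - 1) → ∀ i, n i = p - 1) := by
  induction hs : ∑ i, n i using Nat.strong_induction_on generalizing n with
  | _ s ih =>
    subst hs
    by_cases hbig : ∃ i, p ≤ n i
    · obtain ⟨i, hi⟩ := hbig
      have h1p : 1 ≤ p ^ N := Nat.one_le_pow _ _ (by omega)
      set n' : Fin N → ℕ := Function.update n i (n i - p) + Pi.single (i + 1) 1 with hn'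
      have hsum : ∀ c : Fin N → ℕ, ∑ j, n' j * c j + p * c i = ∑ j, n j * c j + c (i + 1) := by
        intro c
        simp only [hn', Pi.add_apply, add_mul, Finset.sum_add_distrib]
        have e1 : ∑ j, (Pi.single (i + 1) 1 : Fin N → ℕ) j * c j = c (i + 1) := by
          rw [Finset.sum_eq_single (i + 1)] <;> simp +contextual [Pi.single_apply]
        have e2 : ∑ j, Function.update n i (n i - p) j * c j + p * c i = ∑ j, n j * c j := by
          rw [← Finset.add_sum_erase _ _ (Finset.mem_univ i), ← Finset.add_sum_erase _ _ (Finset.mem_univ i),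
            Function.update_self, add_right_comm, ← add_mul, Nat.sub_add_cancel hi]
          congr 1
          exact Finset.sum_congr rfl fun j hj => by rw [Function.update_of_ne (Finset.ne_of_mem_erase hj)]
        rw [e1]
        omega
      have hS := hsum fun _ => 1
      simp only [mul_one] at hS
      have hd' : p ^ N - 1 ∣ ∑ j, n' j * p ^ (j : ℕ) := by
        have hV := hsum fun j => p ^ (j : ℕ)
        simp only [← pow_succ'] at hV
        by_cases hlast : (i : ℕ) + 1 < N
        · have : ((i + 1 : Fin N) : ℕ) = (i : ℕ) + 1 := by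
            rw [Fin.val_add, Fin.val_one', Nat.add_mod_mod, Nat.mod_eq_of_lt hlast]
          rw [this] at hV
          have : ∑ j, n' j * p ^ (j : ℕ) = ∑ j, n j * p ^ (j : ℕ) := by omega
          rwa [this]
        · have hiN : (i : ℕ) + 1 = N := by omega
          have : ((i + 1 : Fin N) : ℕ) = 0 := by
            rw [Fin.val_add, Fin.val_one', Nat.add_mod_mod, hiN, Nat.mod_self]
          rw [this, hiN, pow_zero] at hV
          have : ∑ j, n' j * p ^ (j : ℕ) = ∑ j, n j * p ^ (j : ℕ) - (p ^ N - 1) := by omega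
          rw [this]
          exact Nat.dvd_sub hd dvd_rfl
      have hne : n' ≠ 0 := fun h => by
        have h1 := congrFun h (i + 1)
        simp only [hn', Pi.add_apply, Pi.single_eq_same, Pi.zero_apply] at h1
        omega
      obtain ⟨h1, -⟩ := ih _ (by omega) n' hne hd' rfl
      exact ⟨by omega, fun h => absurd h (by omega)⟩
    · push Not at hbig
      have hgeom : ∀ m : ℕ, (p - 1) * ∑ i : Fin m, p ^ (i : ℕ) + 1 = p ^ m := by
        intro m
        induction m with
        | zero => simp
        | succ m ih' =>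
          rw [Fin.sum_univ_castSucc]
          simp only [Fin.val_castSucc, Fin.val_last]
          obtain ⟨q, rfl⟩ : ∃ q, p = q + 1 := ⟨p - 1, by omega⟩
          simp only [Nat.add_sub_cancel] at ih' ⊢
          rw [pow_succ (q + 1) m]
          linarith [ih']
      have hle : ∀ i ∈ (Finset.univ : Finset (Fin N)), n i * p ^ (i : ℕ) ≤ (p - 1) * p ^ (i : ℕ) :=
        fun i _ => Nat.mul_le_mul_right _ (by have := hbig i; omega)
      have h2 := Finset.sum_le_sum hle
      rw [← Finset.mul_sum] at h2
      have h3 := hgeom N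
      have hpos : 0 < ∑ i, n i * p ^ (i : ℕ) := by
        obtain ⟨i, hi⟩ := Function.ne_iff.1 hn
        exact lt_of_lt_of_le (Nat.mul_pos (Nat.pos_of_ne_zero hi) (pow_pos (by omega) _))
          (Finset.single_le_sum (f := fun j : Fin N => n j * p ^ (j : ℕ)) (fun j _ => Nat.zero_le _)
            (Finset.mem_univ i))
      have heq : ∑ i, n i * p ^ (i : ℕ) = (p - 1) * ∑ i : Fin N, p ^ (i : ℕ) := by
        have := Nat.le_of_dvd hpos hd
        omega
      rw [Finset.mul_sum] at heq
      have hall := (Finset.sum_eq_sum_iff_of_le hle).1 heq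
      have hval : ∀ i, n i = p - 1 := fun i =>
        Nat.eq_of_mul_eq_mul_right (pow_pos (by omega) _) (hall i (Finset.mem_univ i))
      have hsum : ∑ i, n i = N * (p - 1) := by simp [hval]
      exact ⟨hsum.ge, fun _ => hval⟩

section PowerSums

variable {K : Type*} [Field K] [Fintype K]

/-- Power sums over a finite field. -/
theorem sum_pow_eq (e : ℕ) (he : e ≠ 0) :
    ∑ x : K, x ^ e = if Fintype.card K - 1 ∣ e then -1 else 0 := by
  classical
  rw [← FiniteField.sum_pow_units K e, ← Finset.sum_erase (f := fun x : K => x ^ e) (a := (0 : K)) Finset.univ (zero_pow he)]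
  refine (Finset.sum_bij' (fun (u : Kˣ) _ => (u : K)) (fun x hx => Units.mk0 x (Finset.ne_of_mem_erase hx))
    ?_ ?_ ?_ ?_ ?_).symm
  · exact fun u _ => Finset.mem_erase.2 ⟨u.ne_zero, Finset.mem_univ _⟩
  · exact fun x _ => Finset.mem_univ _
  · exact fun u _ => Units.ext rfl
  · exact fun x _ => rfl
  · exact fun u _ => by simp

/-- The sum of a product of Frobenius images. -/
theorem sum_frob_prod {p N : ℕ} (hp : 2 ≤ p) [NeZero N] (hK : Fintype.card K = p ^ N) {ι : Type*}
    [Fintype ι] (f : ι → Fin N) (c : Fin N → ℕ)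
    (hne : (fun i => (Finset.univ.filter fun k => f k = i).card + c i) ≠ 0)
    (hlow : Fintype.card ι + ∑ i, c i ≤ N * (p - 1)) :
    ∑ x : K, (∏ k, x ^ p ^ (f k : ℕ)) * x ^ (∑ i, c i * p ^ (i : ℕ)) =
      if ∀ i, (Finset.univ.filter fun k => f k = i).card + c i = p - 1 then -1 else 0 := by
  classical
  set n : Fin N → ℕ := fun i => (Finset.univ.filter fun k => f k = i).card + c i with hn
  have hcard : ∑ i, n i = Fintype.card ι + ∑ i, c i := by
    rw [hn, Finset.sum_add_distrib, ← Finset.card_univ (α := ι),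
      Finset.card_eq_sum_card_fiberwise (f := f) (t := Finset.univ) (fun _ _ => Finset.mem_univ _)]
  have hexp : ∀ x : K, (∏ k, x ^ p ^ (f k : ℕ)) * x ^ (∑ i, c i * p ^ (i : ℕ)) =
      x ^ (∑ i, n i * p ^ (i : ℕ)) := by
    intro x
    rw [Finset.prod_pow_eq_pow_sum, ← pow_add]
    congr 1
    rw [hn]
    simp only [add_mul, Finset.sum_add_distrib]
    congr 1
    rw [← Finset.sum_fiberwise Finset.univ f]
    refine Finset.sum_congr rfl fun i _ => ?_
    rw [Finset.sum_congr rfl fun k hk => by rw [(Finset.mem_filter.1 hk).2], Finset.sum_const, smul_eq_mul]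
  rw [Finset.sum_congr rfl fun x _ => hexp x]
  have he : ∑ i, n i * p ^ (i : ℕ) ≠ 0 := by
    obtain ⟨i, hi⟩ := Function.ne_iff.1 hne
    exact (lt_of_lt_of_le (Nat.mul_pos (Nat.pos_of_ne_zero hi) (pow_pos (by omega) _))
      (Finset.single_le_sum (f := fun j : Fin N => n j * p ^ (j : ℕ)) (fun j _ => Nat.zero_le _)
        (Finset.mem_univ i))).ne'
  rw [sum_pow_eq _ he, hK]
  split_ifs with h1 h2 h2
  · rfl
  · exfalso
    obtain ⟨h3, h4⟩ := digits_ge p N hp n hne h1
    exact h2 (h4 (le_antisymm (hcard ▸ hlow) h3))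
  · exfalso
    refine h1 ?_
    have h3 : ∑ i, n i * p ^ (i : ℕ) = (p - 1) * ∑ i : Fin N, p ^ (i : ℕ) := by
      rw [Finset.mul_sum]
      exact Finset.sum_congr rfl fun i _ => by rw [show n i = p - 1 from h2 i]
    rw [h3, Fin.sum_univ_eq_sum_range (fun i => p ^ i) N]
    obtain ⟨q, rfl⟩ : ∃ q, p = q + 1 := ⟨p - 1, by omega⟩
    have := geom_sum_mul_add q N
    simp only [Nat.add_sub_cancel]
    rw [← this, Nat.add_sub_cancel, mul_comm]
  · rfl

end PowerSums

/-- A linear map keeping the quadratic class up to a constant is a multiple of an automorphism. -/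
theorem eq_smul_aut {F : Type*} [Field F] [Finite F] {K : Type*} [Field K] [Finite K] [Algebra F K]
    (h2 : (2 : K) ≠ 0) (hr : 2 ≤ finrank F K) {φ : K →ₗ[F] K} {χ : K} (hχ : χ ≠ 0) {M : ℕ}
    (hM : 2 * M + 1 = Nat.card K) (h : ∀ x, φ x ^ M = χ * x ^ M) :
    ∃ (a : K) (σ : K →ₐ[F] K), φ = a • σ.toLinearMap := by
  classical
  haveI := Fintype.ofFinite F
  haveI := Fintype.ofFinite K
  haveI : Fintype (K →ₐ[F] K) := Fintype.ofFinite _
  set p := ringChar F with hp
  haveI := ringChar.charP F
  obtain ⟨e, hp', hFq⟩ := FiniteField.card F p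
  haveI := Fact.mk hp'
  haveI : CharP K p := charP_of_injective_algebraMap (algebraMap F K).injective p
  have hpodd : Odd p := hp'.odd_of_ne_two fun h => h2 (by
    have := CharP.cast_eq_zero K p
    rw [h] at this
    exact_mod_cast this)
  obtain ⟨m0, hm0⟩ := hpodd
  have hm0pos : 1 ≤ m0 := by have := hp'.two_le; omega
  set r := finrank F K
  obtain ⟨N, hN⟩ : ∃ N, N = (e : ℕ) * r := ⟨_, rfl⟩
  have hepos : 1 ≤ (e : ℕ) := e.pos
  have hN2 : 2 ≤ N := hN ▸ le_trans hr (Nat.le_mul_of_pos_left r hepos)
  obtain ⟨N', rfl⟩ : ∃ N', N = N' + 2 := ⟨N - 2, by omega⟩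
  have hKq : Fintype.card K = p ^ (N' + 2) := by
    rw [hN, pow_mul, ← hFq]
    exact Module.card_eq_pow_finrank
  have hperiod : ∀ (x : K) (i : ℕ), x ^ p ^ i = x ^ p ^ (i % (N' + 2)) := by
    intro x i
    conv_lhs => rw [← Nat.mod_add_div i (N' + 2), pow_add, pow_mul]
    generalize x ^ p ^ (i % (N' + 2)) = y
    induction i / (N' + 2) with
    | zero => simp
    | succ k ih => rw [Nat.mul_succ, pow_add, pow_mul, ih, ← hKq, FiniteField.pow_card]
  let pos : Fin r → Fin (N' + 2) := fun j => ⟨(e : ℕ) * j, by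
    rw [hN]; exact Nat.mul_lt_mul_of_pos_left j.2 hepos⟩
  have hposinj : Function.Injective pos := fun a b hab => by
    have := congrArg Fin.val hab
    exact Fin.ext (Nat.eq_of_mul_eq_mul_left hepos this)
  have hfrob := FiniteField.bijective_frobeniusAlgHom_pow F K
  let τ : Fin r ≃ (K →ₐ[F] K) := Equiv.ofBijective _ hfrob
  have hτ : ∀ j x, τ j x = x ^ p ^ (pos j : ℕ) := by
    intro j x
    show (FiniteField.frobeniusAlgHom F K ^ (j : ℕ)) x = x ^ p ^ ((e : ℕ) * j)
    rw [pow_mul, ← hFq]
    induction (j : ℕ) generalizing x with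
    | zero => simp
    | succ k ih => rw [pow_succ, AlgHom.mul_apply, ih, FiniteField.coe_frobeniusAlgHom, ← pow_mul, ← pow_succ']
  set a : Fin r → K := fun j => (CfsgLib.FieldMax.autBasis F K).repr φ (τ j) with ha
  have hφ : ∀ x, φ x = ∑ j, a j * x ^ p ^ (pos j : ℕ) := by
    intro x
    conv_lhs => rw [← (CfsgLib.FieldMax.autBasis F K).sum_repr φ]
    rw [LinearMap.coe_sum, Finset.sum_apply, ← τ.sum_comp]
    exact Finset.sum_congr rfl fun j _ => by
      rw [CfsgLib.FieldMax.autBasis_apply, LinearMap.smul_apply, AlgHom.toLinearMap_apply, hτ, smul_eq_mul]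
  suffices hone : ∀ j l, a j ≠ 0 → a l ≠ 0 → j = l by
    by_cases hex : ∃ j, a j ≠ 0
    · obtain ⟨j, hj⟩ := hex
      refine ⟨a j, τ j, LinearMap.ext fun x => ?_⟩
      rw [hφ, Finset.sum_eq_single j, LinearMap.smul_apply, AlgHom.toLinearMap_apply, hτ, smul_eq_mul]
      · intro l _ hl
        rw [of_not_not (fun hl' => hl (hone l j hl' hj)), zero_mul]
      · simp
    · push Not at hex
      exact ⟨0, τ ⟨0, by omega⟩, LinearMap.ext fun x => by simp [hφ, hex]⟩
  intro j0 l haj hal
  by_contra hne
  have hPne : pos l ≠ pos j0 := fun h => hne (hposinj h).symm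
  set cC : Fin (N' + 2) → ℕ := fun i => m0 - (if i = pos j0 then m0 else 0) - (if i = pos l then 1 else 0) with hcC
  have hcCsum : ∑ i, cC i + (m0 + 1) = (N' + 2) * m0 := by
    have : ∀ i, cC i + ((if i = pos j0 then m0 else 0) + (if i = pos l then 1 else 0)) = m0 := by
      intro i
      simp only [hcC]
      by_cases h1 : i = pos j0
      · subst h1; simp [Ne.symm hPne]
      · by_cases h2 : i = pos l
        · subst h2; simp [hPne]; omega
        · simp [h1, h2]
    calc ∑ i, cC i + (m0 + 1)
        = ∑ i, (cC i + ((if i = pos j0 then m0 else 0) + (if i = pos l then 1 else 0))) := by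
          rw [Finset.sum_add_distrib, Finset.sum_add_distrib, Finset.sum_ite_eq', Finset.sum_ite_eq']
          simp
      _ = (N' + 2) * m0 := by simp [this]
  set n' : Fin (N' + 2) → ℕ := fun i => if i = 0 then 0 else if i = 1 then m0 + 1 else m0 with hn'
  have n0 : n' 0 = 0 := by simp [hn']
  have n1 : n' (Fin.succ 0) = m0 + 1 := by
    rw [show (Fin.succ 0 : Fin (N' + 2)) = 1 from rfl]
    simp [hn']
  have n2 : ∀ i : Fin N', n' i.succ.succ = m0 := by
    intro i
    have h0 : (i.succ.succ : Fin (N' + 2)) ≠ 0 := Fin.succ_ne_zero _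
    have h1 : (i.succ.succ : Fin (N' + 2)) ≠ 1 := fun h => by
      have := congrArg Fin.val h
      simp at this
    simp [hn', h0, h1]
  have hn'sum : ∑ i, n' i = (N' + 1) * m0 + 1 := by
    rw [Fin.sum_univ_succ, Fin.sum_univ_succ, n0, n1, Finset.sum_congr rfl fun i _ => n2 i]
    simp
    ring
  have hgeom : 2 * (m0 * ∑ i : Fin (N' + 2), p ^ (i : ℕ)) + 1 = p ^ (N' + 2) := by
    rw [Fin.sum_univ_eq_sum_range (fun i => p ^ i) (N' + 2), hm0]
    have := geom_sum_mul_add (2 * m0) (N' + 2)
    rw [← this]
    ring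
  have hMeq : M = m0 * ∑ i : Fin (N' + 2), p ^ (i : ℕ) := by
    rw [Nat.card_eq_fintype_card, hKq] at hM
    omega
  have hkey : ∀ x : K, φ x ^ (∑ i, n' i * p ^ (i : ℕ)) = χ * x ^ M * φ x ^ (m0 + 1) := by
    intro x
    rw [← h, ← pow_add]
    congr 1
    rw [hMeq, Fin.sum_univ_succ, Fin.sum_univ_succ, Fin.sum_univ_succ (f := fun i : Fin (N' + 2) => p ^ (i : ℕ)),
      Fin.sum_univ_succ (f := fun i : Fin (N' + 1) => p ^ ((i.succ : Fin (N' + 2)) : ℕ))]
    rw [n0, n1, Finset.sum_congr rfl fun i _ => by rw [n2 i]]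
    simp only [Fin.val_zero, Fin.val_succ, pow_zero, zero_mul, zero_add, pow_one, mul_one, mul_add, Finset.mul_sum]
    rw [hm0]
    ring
  have hL : ∑ x : K, φ x ^ (∑ i, n' i * p ^ (i : ℕ)) * x ^ (∑ i, cC i * p ^ (i : ℕ)) = 0 := by
    let ι := Σ i : Fin (N' + 2), Fin (n' i)
    have hexp : ∀ x : K, φ x ^ (∑ i, n' i * p ^ (i : ℕ)) = ∏ k : ι, (∑ j, a j ^ p ^ (k.1 : ℕ) *
        x ^ p ^ ((k.1 + pos j : Fin (N' + 2)) : ℕ)) := by
      intro x
      rw [← Finset.prod_pow_eq_pow_sum, Fintype.prod_sigma]
      refine Finset.prod_congr rfl fun i _ => ?_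
      simp only []
      rw [Finset.prod_const, Finset.card_univ, Fintype.card_fin, mul_comm, pow_mul]
      congr 1
      rw [hφ, sum_pow_char_pow]
      refine Finset.sum_congr rfl fun j _ => ?_
      rw [mul_pow, ← pow_mul, ← pow_add, Fin.val_add, ← hperiod, add_comm (pos j : ℕ)]
    simp_rw [hexp, Fintype.prod_sum, Finset.prod_mul_distrib, Finset.sum_mul, mul_assoc]
    rw [Finset.sum_comm]
    refine Finset.sum_eq_zero fun f _ => ?_
    rw [← Finset.mul_sum, sum_frob_prod hp'.two_le hKq (fun k : ι => k.1 + pos (f k)) cC]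
    · rw [if_neg, mul_zero]
      intro hall
      have h1 : ∑ i, ((Finset.univ.filter fun k : ι => k.1 + pos (f k) = i).card + cC i) = (N' + 2) * (p - 1) := by
        simp [hall]
      rw [Finset.sum_add_distrib, ← Finset.card_eq_sum_card_fiberwise (fun _ _ => Finset.mem_univ _),
        Finset.card_univ, Fintype.card_sigma] at h1
      simp only [Fintype.card_fin, hn'sum] at h1
      rw [hm0, Nat.add_sub_cancel] at h1
      nlinarith
    · intro h0
      have hk : (Finset.univ : Finset ι).card = 0 := by
        rw [Finset.card_eq_sum_card_fiberwise (f := fun k : ι => k.1 + pos (f k)) (t := Finset.univ)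
          fun _ _ => Finset.mem_univ _]
        exact Finset.sum_eq_zero fun i _ => by have := congrFun h0 i; simp only [Pi.zero_apply] at this; omega
      rw [Finset.card_univ, Fintype.card_sigma] at hk
      simp only [Fintype.card_fin, hn'sum] at hk
      omega
    · rw [Fintype.card_sigma]
      simp only [Fintype.card_fin, hn'sum, hm0, Nat.add_sub_cancel]
      nlinarith
  have hR : ∑ x : K, φ x ^ (∑ i, n' i * p ^ (i : ℕ)) * x ^ (∑ i, cC i * p ^ (i : ℕ)) =
      χ * ∑ f : Fin (m0 + 1) → Fin r, (∏ k, a (f k)) *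
        ∑ x : K, (∏ k, x ^ p ^ (pos (f k) : ℕ)) * x ^ (∑ i, (cC i + m0) * p ^ (i : ℕ)) := by
    have hterm : ∀ x : K, φ x ^ (∑ i, n' i * p ^ (i : ℕ)) * x ^ (∑ i, cC i * p ^ (i : ℕ)) =
        χ * ((∏ _k : Fin (m0 + 1), φ x) * x ^ (∑ i, (cC i + m0) * p ^ (i : ℕ))) := by
      intro x
      rw [hkey, Finset.prod_const, Finset.card_univ, Fintype.card_fin]
      simp only [add_mul, Finset.sum_add_distrib, ← Finset.mul_sum, ← hMeq]
      rw [pow_add]
      ring
    simp_rw [hterm, hφ, Fintype.prod_sum, Finset.prod_mul_distrib, Finset.sum_mul, mul_assoc, ← Finset.mul_sum]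
    rw [Finset.sum_comm]
    simp_rw [Finset.mul_sum]
  set g : Fin (m0 + 1) → Fin (m0 + 1) → Fin r := fun k0 => Function.update (fun _ => j0) k0 l with hg
  have hginj : Function.Injective g := by
    intro a b hab
    by_contra hab'
    have := congrFun hab a
    rw [hg] at this
    simp [Function.update_of_ne hab'] at this
    exact hne this.symm
  have hS : ∀ f : Fin (m0 + 1) → Fin r,
      ∑ x : K, (∏ k, x ^ p ^ (pos (f k) : ℕ)) * x ^ (∑ i, (cC i + m0) * p ^ (i : ℕ)) =
        if f ∈ Finset.univ.image g then -1 else 0 := by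
    intro f
    rw [sum_frob_prod hp'.two_le hKq (fun k => pos (f k)) (fun i => cC i + m0)]
    · congr 1
      refine propext ⟨fun hall => ?_, fun hf i => ?_⟩
      · have hcount : ∀ i, (Finset.univ.filter fun k => pos (f k) = i).card =
            (if i = pos j0 then m0 else 0) + (if i = pos l then 1 else 0) := by
          intro i
          have := hall i
          rw [hm0, Nat.add_sub_cancel] at this
          simp only [hcC] at this
          by_cases h1 : i = pos j0
          · subst h1; simp [Ne.symm hPne] at this ⊢; omega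
          · by_cases h2 : i = pos l
            · subst h2; simp [hPne] at this ⊢; omega
            · rw [if_neg h1, if_neg h2] at this ⊢; omega
        have hl := hcount (pos l)
        simp [hPne, hposinj.eq_iff] at hl
        obtain ⟨k0, hk0⟩ := Finset.card_eq_one.1 hl
        refine Finset.mem_image.2 ⟨k0, Finset.mem_univ _, funext fun k => ?_⟩
        have hfk0 : f k0 = l := by
          have : k0 ∈ Finset.univ.filter (fun k => f k = l) := by rw [hk0]; exact Finset.mem_singleton_self _
          exact (Finset.mem_filter.1 this).2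
        by_cases hk : k = k0
        · subst hk; simp [hg, hfk0]
        · rw [hg]
          simp only [Function.update_of_ne hk]
          by_contra hfk
          have hpl : f k ≠ l := fun h' => hk (by
            have : k ∈ Finset.univ.filter (fun k => f k = l) := Finset.mem_filter.2 ⟨Finset.mem_univ _, h'⟩
            rw [hk0] at this
            exact Finset.mem_singleton.1 this)
          have := hcount (pos (f k))
          rw [if_neg (fun h' => hfk (hposinj h').symm), if_neg (fun h' => hpl (hposinj h')), add_zero,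
            Finset.card_eq_zero] at this
          exact (Finset.notMem_empty k) (this ▸ Finset.mem_filter.2 ⟨Finset.mem_univ _, rfl⟩)
      · obtain ⟨k0, -, rfl⟩ := Finset.mem_image.1 hf
        simp only [hcC]
        rw [hm0, Nat.add_sub_cancel]
        by_cases h1 : i = pos j0
        · subst h1
          have : (Finset.univ.filter fun k => pos (g k0 k) = pos j0) = Finset.univ.erase k0 := by
            ext k
            by_cases hk : k = k0
            · subst hk; simp [hg, hposinj.eq_iff, Ne.symm hne]
            · simp [hg, hk]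
          rw [this, Finset.card_erase_of_mem (Finset.mem_univ _)]
          simp [Ne.symm hPne]; omega
        · by_cases h2 : i = pos l
          · subst h2
            have : (Finset.univ.filter fun k => pos (g k0 k) = pos l) = {k0} := by
              ext k
              by_cases hk : k = k0
              · subst hk; simp [hg]
              · simp [hg, hk, hposinj.eq_iff, hne]
            rw [this]
            simp [hPne]; omega
          · have : (Finset.univ.filter fun k => pos (g k0 k) = i) = ∅ := by
              ext k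
              by_cases hk : k = k0
              · subst hk; simp [hg, Ne.symm h2]
              · simp [hg, hk, Ne.symm h1]
            rw [this]
            simp [h1, h2]; omega
    · intro h0
      have := congrFun h0 (pos l)
      simp [hcC, hPne] at this
      omega
    · simp only [Fintype.card_fin, Finset.sum_add_distrib, Finset.sum_const, Finset.card_univ, smul_eq_mul,
        hm0, Nat.add_sub_cancel]
      nlinarith
  have hfinal : ∑ f : Fin (m0 + 1) → Fin r, (∏ k, a (f k)) *
      ∑ x : K, (∏ k, x ^ p ^ (pos (f k) : ℕ)) * x ^ (∑ i, (cC i + m0) * p ^ (i : ℕ)) =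
      -((m0 + 1 : ℕ) * (a l * a j0 ^ m0)) := by
    simp_rw [hS, mul_ite, mul_zero]
    rw [Finset.sum_ite_mem, Finset.univ_inter, Finset.sum_image fun x _ y _ h => hginj h]
    have : ∀ k0, ∏ k, a (g k0 k) = a l * a j0 ^ m0 := by
      intro k0
      rw [← Finset.mul_prod_erase _ _ (Finset.mem_univ k0)]
      congr 1
      · simp [hg]
      · rw [Finset.prod_eq_pow_card (b := a j0), Finset.card_erase_of_mem (Finset.mem_univ _)]
        · simp
        · intro k hk
          simp [hg, Finset.ne_of_mem_erase hk]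
    simp only [this]
    simp
  rw [hL, hfinal] at hR
  have hm1 : ((m0 + 1 : ℕ) : K) ≠ 0 := by
    rw [Ne, CharP.cast_eq_zero_iff K p]
    exact Nat.not_dvd_of_pos_of_lt (by omega) (by omega)
  exact (mul_ne_zero hχ (neg_ne_zero.2 (mul_ne_zero hm1 (mul_ne_zero hal (pow_ne_zero _ haj))))) hR.symm

end CfsgLib.OrthField
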