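import Cfsg.Agent.OrthField.Frame
import Mathlib.LinearAlgebra.QuadraticForm.Basic

/-!
A reflection over the larger field as a product of reflections over the smaller one.
-/

set_option autoImplicit false
set_option linter.unusedSectionVars false
set_option linter.unusedVariables false
set_option linter.style.haveILetI false

namespace CfsgLib.OrthField

open QuadraticMap CfsgLib.Forms CfsgLib.Quad Module

variable {F : Type*} [Field F] [Finite F] {K : Type*} [Field K] [Finite K] [Algebra F K]
  {V : Type*} [AddCommGroup V] [Module F V] [Module K V] [IsScalarTower F K V] [Finite V]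
  {Q : QuadraticForm F V} {P : QuadraticForm K V}

/-- A product of reflections along pairwise orthogonal vectors. -/
theorem reflProd_orth_apply : ∀ (vs : List V), vs.Pairwise (fun a b => polar Q a b = 0) → ∀ y : V,
    (reflProd Q vs).1 y = y + (vs.map fun v => (-(Q v)⁻¹ * polar Q y v) • v).sum
  | [], _, y => by simp [reflProd_nil]
  | v :: vs, h, y => by
    rw [List.pairwise_cons] at h
    have hperp : polar Q (vs.map fun w => (-(Q w)⁻¹ * polar Q y w) • w).sum v = 0 := by
      have : ∀ l : List V, (∀ w ∈ l, polar Q v w = 0) →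
          polar Q (l.map fun w => (-(Q w)⁻¹ * polar Q y w) • w).sum v = 0 := by
        intro l
        induction l with
        | nil => simp [polar_zero_left]
        | cons a l ih =>
          intro hl
          rw [List.map_cons, List.sum_cons, polar_add_left, polar_smul_left,
            polar_comm (⇑Q) a v, hl a List.mem_cons_self, smul_zero, zero_add]
          exact ih fun w hw => hl w (List.mem_cons_of_mem _ hw)
      exact this vs h.1
    rw [reflProd_cons]
    show (refl Q v).1 ((reflProd Q vs).1 y) = _
    rw [reflProd_orth_apply vs h.2, refl_apply, polar_add_left, hperp, add_zero, List.map_cons,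
      List.sum_cons]
    abel

variable (hF : Fld Q P)

include hF

/-- An orthogonal basis for the trace form diagonalises the restriction of a reflection. -/
theorem Fld.res_refl_expand {x : V} {a : K} (hxa : P x = a) (ha : a ≠ 0)
    (c : Basis (Fin (finrank F K)) F K)
    (horth : Pairwise fun i j => Algebra.trace F K (a * (c i * c j)) = 0) :
    hF.res (refl P x) = reflProd Q (List.ofFn fun i => c i • x) ∧
      ∀ i, Q (c i • x) = Algebra.trace F K (a * (c i * c i)) ∧ Q (c i • x) ≠ 0 := by
  have hQ : ∀ i, Q (c i • x) = Algebra.trace F K (a * (c i * c i)) := fun i => by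
    rw [← hF.tr, quad_smul, hxa, mul_comm]
  have hne : ∀ i, Q (c i • x) ≠ 0 := by
    intro i hi
    rw [hQ] at hi
    refine c.ne_zero i ((mul_eq_zero.1 (CfsgLib.FieldMax.eq_zero_of_trace (F := F) (x := a * c i) fun y => ?_)).resolve_left ha)
    rw [← c.sum_repr y, Finset.mul_sum, map_sum]
    refine Finset.sum_eq_zero fun j _ => ?_
    rw [mul_smul_comm, map_smul]
    by_cases hij : i = j
    · subst hij; rw [mul_assoc, hi, smul_zero]
    · rw [mul_assoc, horth hij, smul_zero]
  refine ⟨?_, fun i => ⟨hQ i, hne i⟩⟩
  have hpw : (List.ofFn fun i => c i • x).Pairwise (fun u v => polar Q u v = 0) := by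
    rw [List.pairwise_ofFn]
    intro i j hij
    rw [hF.polar_smul_tr, polar_smul_right, polar_self, hxa, smul_eq_mul, nsmul_eq_mul, Nat.cast_ofNat,
      show c i * (c j * (2 * a)) = a * (c i * c j) + a * (c i * c j) by ring, map_add,
      horth (ne_of_lt hij), add_zero]
  refine Subtype.ext (LinearEquiv.ext fun y => ?_)
  rw [hF.res_apply, reflProd_orth_apply _ hpw, refl_apply, List.map_ofFn, List.sum_ofFn, hxa]
  congr 1
  set β := polar P y x
  have hd : ∀ i, Algebra.trace F K (c i * β) = c.repr (a⁻¹ * β) i * Algebra.trace F K (a * (c i * c i)) := by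
    intro i
    have e : c i * β = a * (c i * (a⁻¹ * β)) := by field_simp
    rw [e]
    conv_lhs => rw [← c.sum_repr (a⁻¹ * β)]
    rw [Finset.mul_sum, Finset.mul_sum, map_sum, Finset.sum_eq_single i]
    · rw [mul_smul_comm, mul_smul_comm, map_smul, smul_eq_mul]
    · intro j _ hj
      rw [mul_smul_comm, mul_smul_comm, map_smul, horth (Ne.symm hj), smul_zero]
    · simp
  have hterm : ∀ i, (-(Q (c i • x))⁻¹ * polar Q y (c i • x)) • c i • x = -(c.repr (a⁻¹ * β) i • c i) • x := by
    intro i
    rw [polar_comm (⇑Q) y, hF.polar_smul_tr, polar_comm (⇑P) x y, hd, neg_mul, ← mul_assoc,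
      mul_comm _ (c.repr (a⁻¹ * β) i), mul_assoc, ← hQ, inv_mul_cancel₀ (hne i), mul_one, neg_smul, neg_smul,
      smul_assoc]
  simp only [Function.comp_apply, hterm]
  rw [← Finset.sum_smul, Finset.sum_neg_distrib, c.sum_repr, neg_mul]

/-- An orthogonal basis of the trace form. -/
theorem Fld.exists_trace_basis (a : K) : ∃ c : Basis (Fin (finrank F K)) F K,
    Pairwise fun i j => Algebra.trace F K (a * (c i * c j)) = 0 := by
  haveI : Invertible (2 : F) := invertibleOfNonzero hF.two
  let B : LinearMap.BilinForm F K :=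
    (LinearMap.compl₂ (Algebra.traceForm F K) LinearMap.id).comp (LinearMap.mulLeft F a)
  obtain ⟨c, hc⟩ := LinearMap.BilinForm.exists_orthogonal_basis (B := B) ⟨fun u v => by
    simp [B, Algebra.traceForm_apply, mul_assoc, mul_comm u v]⟩
  refine ⟨c, fun i j hij => ?_⟩
  have := hc hij
  simpa [B, LinearMap.IsOrthoᵢ, LinearMap.BilinForm.isOrtho_def, Function.onFun, Algebra.traceForm_apply,
    mul_assoc] using this

/-- A single reflection over the larger field is outside `Ω` in odd degree. -/
theorem Fld.res_refl_not_mem (hodd : Odd (finrank F K)) {x : V} (hx : P x ≠ 0) :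
    hF.res (refl P x) ∉ commutator (oGroup Q) := by
  obtain ⟨c, hc⟩ := hF.exists_trace_basis (P x)
  obtain ⟨h1, h2⟩ := hF.res_refl_expand rfl hx c hc
  rw [h1, reflProd_mem_commutator_iff hF.ndQ (Or.inr (by have := hF.big; omega))
    (by intro v hv; obtain ⟨i, rfl⟩ := List.mem_ofFn.1 hv; exact (h2 i).2), List.length_ofFn]
  exact fun h => (Nat.not_even_iff_odd.2 hodd) h.1

/-- If the product of reflections of norms `1` and `-1` lies in `Ω` then `-1` is a square, in odd degree. -/
theorem Fld.neg_one_square (hodd : Odd (finrank F K)) {x x' : V} (hx : P x = 1) (hx' : P x' = -1)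
    (h : hF.res (refl P x * refl P x') ∈ commutator (oGroup Q)) : IsSquare (-1 : K) := by
  obtain ⟨c, hc⟩ := hF.exists_trace_basis 1
  have hc' : Pairwise fun i j => Algebra.trace F K ((-1 : K) * (c i * c j)) = 0 := fun i j hij => by
    simpa using hc hij
  obtain ⟨h1, h2⟩ := hF.res_refl_expand hx one_ne_zero c hc
  obtain ⟨h1', h2'⟩ := hF.res_refl_expand hx' (neg_ne_zero.2 one_ne_zero) c hc'
  rw [map_mul, h1, h1', ← reflProd_append, reflProd_mem_commutator_iff hF.ndQ
    (Or.inr (by have := hF.big; omega)) (by
      intro v hv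
      rcases List.mem_append.1 hv with hv | hv <;> obtain ⟨i, rfl⟩ := List.mem_ofFn.1 hv
      exacts [(h2 i).2, (h2' i).2]), List.map_append, List.prod_append, List.map_ofFn, List.map_ofFn,
    List.prod_ofFn, List.prod_ofFn] at h
  set d := ∏ i, Q (c i • x) with hd
  have hd0 : d ≠ 0 := Finset.prod_ne_zero_iff.2 fun i _ => (h2 i).2
  have he : ∏ i, ((fun v => Q v) ∘ fun i => c i • x') i = -d := by
    have : ∀ i, Q (c i • x') = (-1) * Q (c i • x) := fun i => by
      rw [(h2 i).1, (h2' i).1, one_mul, neg_one_mul, map_neg, neg_one_mul]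
    simp only [Function.comp_apply, this]
    rw [Finset.prod_mul_distrib, Finset.prod_const, Finset.card_univ, Fintype.card_fin, hodd.neg_one_pow,
      neg_one_mul, hd]
  rw [he] at h
  have h2 : IsSquare (-1 : F) := by
    obtain ⟨s, hs⟩ := h.2
    simp only [Function.comp_apply, ← hd] at hs
    exact ⟨s / d, by field_simp; linear_combination hs⟩
  simpa using h2.map (algebraMap F K)

end CfsgLib.OrthField
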