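import Cfsg.Agent.OrthField.Setup

/-!
Quadratic extensions of a finite field of odd order: minus one is a square; maps with fibres of at most two
points leave the trace zero line.
-/

set_option autoImplicit false
set_option linter.unusedSectionVars false

namespace CfsgLib.OrthField

open Module

variable {F : Type*} [Field F] [Finite F] {K : Type*} [Field K] [Finite K] [Algebra F K]

theorem isSquare_neg_one_two (h2 : (2 : F) ≠ 0) (hr2 : finrank F K = 2) : IsSquare (-1 : K) := by
  haveI := Fintype.ofFinite F
  haveI := Fintype.ofFinite K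
  rw [FiniteField.isSquare_neg_one_iff, Module.card_eq_pow_finrank (K := F) (V := K), hr2]
  intro h
  rw [Nat.pow_mod] at h
  have hlt : Fintype.card F % 4 < 4 := Nat.mod_lt _ (by norm_num)
  interval_cases hc : Fintype.card F % 4 <;> simp_all

/-- A map with fibres of at most two points takes a value of non-zero trace. -/
theorem exists_trace_ne_of_fibre (h2 : (2 : F) ≠ 0) (hr2 : finrank F K = 2) (f g : K → K)
    (hfib : ∀ s s', f s = f s' → s' = s ∨ s' = g s) : ∃ s, Algebra.trace F K (f s) ≠ 0 := by
  classical
  haveI := Fintype.ofFinite F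
  haveI := Fintype.ofFinite K
  by_contra hno
  push Not at hno
  set T : Finset K := Finset.univ.filter fun k => Algebra.trace F K k = 0 with hT
  have h1 : (Finset.univ : Finset K).card ≤ 2 * T.card := by
    refine Finset.card_le_mul_card_image_of_maps_to (f := f) (fun s _ => ?_) 2 fun v _ => ?_
    · simp [hT, hno s]
    · rcases (Finset.univ.filter fun s => f s = v).eq_empty_or_nonempty with h | ⟨s, hs⟩
      · rw [h]; simp
      refine le_trans (Finset.card_le_card (t := {s, g s}) fun s' hs' => ?_) Finset.card_le_two
      simp only [Finset.mem_filter, Finset.mem_univ, true_and] at hs hs'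
      rcases hfib s s' (hs.trans hs'.symm) with h | h <;> simp [h]
  have hker : finrank F (LinearMap.ker (Algebra.trace F K)) = 1 := by
    have h := (Algebra.trace F K).finrank_range_add_finrank_ker
    rw [LinearMap.range_eq_top.2 (Algebra.trace_surjective F K), finrank_top, finrank_self, hr2] at h
    omega
  have hTc : T.card = Fintype.card F := by
    have h := Module.card_eq_pow_finrank (K := F) (V := LinearMap.ker (Algebra.trace F K))
    rw [hker, pow_one] at h
    rw [← h, ← Fintype.card_coe]
    exact Fintype.card_congr (Equiv.subtypeEquivRight fun k => by simp [hT])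
  rw [Finset.card_univ, Module.card_eq_pow_finrank (K := F) (V := K), hr2, hTc] at h1
  have h3 := Fintype.one_lt_card (α := F)
  have h4 : Fintype.card F ≠ 2 := fun h => h2 (by
    have := Nat.cast_card_eq_zero F
    rw [h] at this
    exact_mod_cast this)
  have h5 : 3 ≤ Fintype.card F := by omega
  nlinarith

/-- The two rational functions attached to an anisotropic binary form take values of non-zero trace. -/
theorem exists_trace_frac (h2 : (2 : F) ≠ 0) (hr2 : finrank F K = 2) {C N w : K}
    (hD : ∀ s : K, C + s * s * N ≠ 0) (hN : N ≠ 0) (hw : w ≠ 0) :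
    (∃ s, Algebra.trace F K (s * w / (C + s * s * N)) ≠ 0) ∧
      ∃ s, Algebra.trace F K (s * s * w / (C + s * s * N)) ≠ 0 := by
  have hC : C ≠ 0 := by simpa using hD 0
  refine ⟨exists_trace_ne_of_fibre h2 hr2 _ (fun s => C / (N * s)) fun s s' h => ?_,
    exists_trace_ne_of_fibre h2 hr2 _ (fun s => -s) fun s s' h => ?_⟩
  · rw [div_eq_div_iff (hD s) (hD s')] at h
    have h1 : (s' - s) * (C - N * s * s') = 0 :=
      mul_left_cancel₀ hw (by rw [mul_zero]; linear_combination -h)
    rcases mul_eq_zero.1 h1 with h3 | h3
    · exact Or.inl (sub_eq_zero.1 h3)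
    · have hs : N * s ≠ 0 := fun h0 => hC (by rw [h0, zero_mul, sub_zero] at h3; exact h3)
      refine Or.inr ?_
      rw [eq_div_iff hs]
      linear_combination -h3
  · rw [div_eq_div_iff (hD s) (hD s')] at h
    have h1 : (s' - s) * (s' + s) = 0 :=
      mul_left_cancel₀ (mul_ne_zero hw hC) (by rw [mul_zero]; linear_combination -h)
    rcases mul_eq_zero.1 h1 with h3 | h3
    · exact Or.inl (sub_eq_zero.1 h3)
    · exact Or.inr (eq_neg_of_add_eq_zero_left h3)

end CfsgLib.OrthField
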