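import Cfsg.Agent.OrthField.Roots
import Cfsg.Agent.OrthField.TraceCount

/-!
With every skew map a long root map at every singular vector, all Siegel transformations of the small field lie in
the overgroup.
-/

set_option autoImplicit false
set_option linter.unusedSectionVars false
set_option linter.unusedVariables false
set_option linter.style.haveILetI false

namespace CfsgLib.OrthField

open QuadraticMap CfsgLib.Forms CfsgLib.Quad Module CfsgLib.FieldMax CfsgLib.Geo.OS

variable {F : Type*} [Field F] [Finite F] {K : Type*} [Field K] [Finite K] [Algebra F K]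
  {V : Type*} [AddCommGroup V] [Module F V] [Module K V] [IsScalarTower F K V] [Finite V]
  {Q : QuadraticForm F V} {P : QuadraticForm K V}

variable (hF : Fld Q P)

include hF

theorem Fld.exists_trace_zero (a : K) : ∃ t : K, t ≠ 0 ∧ Algebra.trace F K (a * t) = 0 := by
  by_contra hno
  push Not at hno
  have hinj : Function.Injective ((Algebra.traceForm F K) a) :=
    (injective_iff_map_eq_zero _).2 fun t ht => by by_contra h; exact hno t h ht
  have := LinearMap.finrank_le_finrank_of_injective hinj
  rw [finrank_self] at this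
  have := hF.prime.two_le
  omega

omit hF in
theorem exists_trace_sep {x y : K} (hy : y ∉ Submodule.span F {x}) :
    ∃ b : K, Algebra.trace F K (b * x) = 0 ∧ Algebra.trace F K (b * y) ≠ 0 := by
  obtain ⟨φ, hφy, hφ⟩ := Submodule.exists_dual_map_eq_bot_of_notMem hy inferInstance
  let e := LinearMap.BilinForm.toDual (Algebra.traceForm F K) (traceForm_nondegenerate F K)
  refine ⟨e.symm φ, ?_, ?_⟩
  · have h : e (e.symm φ) x = φ x := by rw [e.apply_symm_apply]
    refine h.trans ?_
    have := Submodule.mem_map_of_mem (f := φ) (Submodule.mem_span_singleton_self x)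
    rw [hφ] at this
    exact (Submodule.mem_bot F).1 this
  · have h : e (e.symm φ) y = φ y := by rw [e.apply_symm_apply]
    exact fun h' => hφy (h.symm.trans h')

/-- A hyperbolic pair orthogonal to given vectors. -/
theorem Fld.exists_pair_perp {ι : Type*} [Fintype ι] (v : ι → V) (h : Fintype.card ι + 3 ≤ finrank K V)
    (proj : V → V) (hproj : ∀ w i, polar P (v i) (proj w) = 0)
    (hkeep : ∀ z w, (∀ i, polar P (v i) z = 0) → polar P z (proj w) = polar P z w) :
    ∃ z z', Frame P z z' ∧ (∀ i, polar P (v i) z = 0) ∧ ∀ i, polar P (v i) z' = 0 := by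
  set U := Submodule.span K (Set.range v)
  have hU : finrank K U ≤ Fintype.card ι := finrank_range_le_card _
  have hperp : 3 ≤ finrank K (perpS P U) := by have := finrank_perpS hF.ndP U; omega
  obtain ⟨z, hzU, hz0, hz⟩ := exists_singular_of_three (Q := P) (perpS P U) hperp
  have hzv : ∀ i, polar P (v i) z = 0 := fun i => hzU _ (Submodule.subset_span ⟨i, rfl⟩)
  obtain ⟨w, hw⟩ := exists_polar_ne hF.ndP hz0
  obtain ⟨m, hm⟩ : ∃ m, m = (polar P z (proj w))⁻¹ • proj w := ⟨_, rfl⟩
  have hzm : polar P z m = 1 := by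
    rw [hm, polar_smul_right, smul_eq_mul, inv_mul_cancel₀ (by rw [hkeep z w hzv]; exact hw)]
  have hvm : ∀ i, polar P (v i) m = 0 := fun i => by rw [hm, polar_smul_right, hproj, smul_zero]
  refine ⟨z, m + (-(P m)) • z, ⟨hz, ?_, ?_⟩, hzv, fun i => ?_⟩
  · rw [quad_add, quad_smul, hz, polar_smul_right, polar_comm (⇑P) m z, hzm, smul_eq_mul]; ring
  · rw [polar_add_right, polar_smul_right, polar_self, hz, smul_zero, smul_zero, hzm, add_zero]
  · rw [polar_add_right, polar_smul_right, hvm, hzv, smul_zero, add_zero]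

theorem Fld.exists_mid_pair {e f : V} (hfr : Frame P e f) (h : 5 ≤ finrank K V) :
    ∃ z z', Frame P z z' ∧ polar P e z = 0 ∧ polar P f z = 0 ∧ polar P e z' = 0 ∧ polar P f z' = 0 := by
  obtain ⟨z, z', hz, h1, h2⟩ := hF.exists_pair_perp ![e, f] (by simpa using h) (mid P e f)
    (fun w i => by
      fin_cases i
      · exact hfr.mid_e w
      · exact hfr.mid_f w)
    (fun z w hz => by
      have he := hz 0
      have hf := hz 1
      simp only [Matrix.cons_val_zero, Matrix.cons_val_one, Matrix.cons_val_fin_one] at he hf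
      rw [mid, polar_sub_right, polar_sub_right, polar_smul_right, polar_smul_right, polar_comm (⇑P) z e, he,
        polar_comm (⇑P) z f, hf, smul_zero, smul_zero, sub_zero, sub_zero])
  exact ⟨z, z', hz, h1 0, h1 1, h2 0, h2 1⟩

/-- In degree two the trace zero elements. -/
theorem Fld.exists_imag (hr2 : finrank F K = 2) : ∃ b : K, b ≠ 0 ∧ Algebra.trace F K b = 0 ∧
    (∀ x, x * b ∈ Set.range (algebraMap F K) → Algebra.trace F K x = 0) ∧
    ∃ β : F, β ≠ 0 ∧ algebraMap F K β = b * b ∧
    ∀ t, ∃ x y : F, t = x • (1 : K) + y • b := by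
  obtain ⟨b, hb0, hb⟩ := hF.exists_trace_zero 1
  rw [one_mul] at hb
  have htr1 : Algebra.trace F K (1 : K) = 2 := by
    rw [← map_one (algebraMap F K), Algebra.trace_algebraMap, hr2, two_nsmul, one_add_one_eq_two]
  have hli : LinearIndependent F ![(1 : K), b] :=
    (LinearIndependent.pair_iff' one_ne_zero).2 fun a ha => by
      have := congrArg (Algebra.trace F K) ha
      rw [map_smul, htr1, hb, smul_eq_mul, mul_eq_zero] at this
      exact hb0 (by rw [← ha, this.resolve_right hF.two, zero_smul])
  have hspan : ∀ t : K, ∃ x y : F, t = x • (1 : K) + y • b := by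
    intro t
    have htop := hli.span_eq_top_of_card_eq_finrank (by simp [hr2])
    have ht : t ∈ Submodule.span F (Set.range ![(1 : K), b]) := by rw [htop]; trivial
    obtain ⟨c, hc⟩ := (Submodule.mem_span_range_iff_exists_fun F).1 ht
    exact ⟨c 0, c 1, by rw [← hc, Fin.sum_univ_two]; rfl⟩
  obtain ⟨x, y, hxy⟩ := hspan (b * b)
  -- the square has no imaginary part
  have hy : y = 0 := by
    have hid : ∀ σ : K →ₐ[F] K, σ b = b ∨ σ b = -b := by
      intro σ
      by_cases hσ : σ = AlgHom.id F K
      · left; rw [hσ]; rfl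
      right
      obtain ⟨u, v, huv⟩ := hspan (σ b)
      have hσσ : σ (σ b) = b := by
        by_contra hne
        have h2 : σ.comp σ ≠ AlgHom.id F K := fun h => hne (AlgHom.congr_fun h b)
        have h3 : ({AlgHom.id F K, σ, σ.comp σ} : Set (K →ₐ[F] K)).ncard = 3 := by
          rw [Set.ncard_eq_three]
          refine ⟨_, _, _, Ne.symm hσ, Ne.symm h2, fun h => hσ ?_, rfl⟩
          exact AlgHom.ext fun k => σ.toRingHom.injective (AlgHom.congr_fun h k).symm
        have h4 := Set.ncard_le_card ({AlgHom.id F K, σ, σ.comp σ} : Set (K →ₐ[F] K))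
        rw [card_algHom, hr2] at h4
        omega
      have hu : u = 0 := by
        have := congrArg (Algebra.trace F K) huv
        rw [trace_aut, hb, map_add, map_smul, map_smul, htr1, hb, smul_zero, add_zero, smul_eq_mul,
          eq_comm, mul_eq_zero] at this
        exact this.resolve_right hF.two
      rw [hu, zero_smul, zero_add] at huv
      rw [huv, map_smul, huv, smul_smul] at hσσ
      have hvv : (v * v) • b = (1 : F) • b := by rw [one_smul]; exact hσσ
      rcases mul_self_eq_one_iff.1 (smul_left_injective F hb0 hvv) with h | h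
      · exfalso
        rw [h, one_smul] at huv
        refine hσ (AlgHom.ext fun k => ?_)
        obtain ⟨p, q, rfl⟩ := hspan k
        rw [map_add, map_smul, map_smul, map_one, huv]
        rfl
      · rw [huv, h, neg_smul, one_smul]
    by_cases hy : y = 0
    · exact hy
    exfalso
    obtain ⟨τ, hτ⟩ : ∃ τ : K →ₐ[F] K, τ b = -b := by
      by_contra hno
      push Not at hno
      have hall : ∀ σ : K →ₐ[F] K, σ = AlgHom.id F K := by
        intro σ
        refine AlgHom.ext fun k => ?_
        obtain ⟨p, q, rfl⟩ := hspan k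
        rw [map_add, map_smul, map_smul, map_one, (hid σ).resolve_right (hno σ)]
        rfl
      have h1 : Nat.card (K →ₐ[F] K) ≤ 1 :=
        Finite.card_le_one_iff_subsingleton.2 ⟨fun a c => (hall a).trans (hall c).symm⟩
      rw [card_algHom, hr2] at h1
      omega
    have h := congrArg τ hxy
    rw [map_mul, hτ, neg_mul_neg, map_add, map_smul, map_smul, map_one, hτ, hxy] at h
    have h2 : (2 * y) • b = 0 := by
      rw [mul_smul, two_smul]
      nth_rw 1 [add_left_cancel h]
      rw [smul_neg, neg_add_cancel]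
    exact (mul_ne_zero hF.two hy) ((smul_eq_zero.1 h2).resolve_right hb0)
  rw [hy, zero_smul, add_zero] at hxy
  refine ⟨b, hb0, hb, fun t ⟨s, hs⟩ => ?_, x, fun hx => ?_, ?_, hspan⟩
  · have hx0 : x ≠ 0 := fun hx => by
      rw [hx, zero_smul] at hxy
      exact hb0 (mul_self_eq_zero.1 hxy)
    have h1 : t * (b * b) = s • b := by rw [Algebra.smul_def, hs]; ring
    rw [hxy, mul_smul_comm, mul_one] at h1
    have h2 := congrArg (Algebra.trace F K) h1
    rw [map_smul, map_smul, hb, smul_zero, smul_eq_mul, mul_eq_zero] at h2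
    exact h2.resolve_left hx0
  · rw [hx, zero_smul] at hxy
    exact hb0 (mul_self_eq_zero.1 hxy)
  · rw [hxy, Algebra.smul_def, mul_one]

variable {M : Subgroup (oGroup Q)} (hM : Over K M)
  (hfull : ∀ v : V, v ≠ 0 → ∀ hv : P v = 0, ∀ g, Skew g → g ∈ longs M hv)

include hM hfull

/-- Degree two: some root space leaves the line. -/
theorem Fld.exists_root_pair (hr2 : finrank F K = 2) (hk5 : 5 ≤ finrank K V) : ∃ v w : V, P v = 0 ∧ P w = 0 ∧ polar P v w = 0 ∧
    (∀ k : K, w ≠ k • v) ∧ v ≠ 0 ∧ ∀ hv : Q v = 0, w ∈ rootSpace M hv := by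
  obtain ⟨b, hb0, hb, hbF, β, hβ, hβb, hspan⟩ := hF.exists_imag hr2
  obtain ⟨e, he0, he⟩ := hF.exists_singular
  obtain ⟨f, hfr⟩ := hF.exists_frame he0 he
  obtain ⟨z, z', hz, hez, hfz, hez', hfz'⟩ := hF.exists_mid_pair hfr hk5
  obtain ⟨y, hy⟩ : ∃ y, y = z + (-b) • z' := ⟨_, rfl⟩
  have hPy : P y = -b := by
    rw [hy, quad_add, quad_smul, hz.he, hz.hf, polar_smul_right, hz.hef, smul_eq_mul]; ring
  have hey : polar P e y = 0 := by rw [hy, polar_add_right, polar_smul_right, hez, hez', smul_zero, add_zero]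
  have hfy : polar P f y = 0 := by rw [hy, polar_add_right, polar_smul_right, hfz, hfz', smul_zero, add_zero]
  obtain ⟨v, hv⟩ : ∃ v, v = e + b • f + y := ⟨_, rfl⟩
  have hPv : P v = 0 := by
    rw [hv, quad_add, quad_add, quad_smul, he, hfr.hf, polar_add_left, polar_smul_left, polar_smul_right, hey, hfy,
      hfr.hef, hPy, smul_eq_mul, smul_zero]
    ring
  -- the lower long root map
  obtain ⟨g, hg, hgt⟩ := hF.exists_plane_map (F := F) (V := V) (P := P) (1 : K) ((Algebra.trace F K (1 : K))⁻¹ • b)
  have htr1 : Algebra.trace F K (1 : K) = 2 := by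
    rw [← map_one (algebraMap F K), Algebra.trace_algebraMap, hr2, two_nsmul, one_add_one_eq_two]
  have hg1 : g 1 = b := by
    rw [hgt, mul_one, mul_one, map_smul, hb, smul_zero, zero_smul, sub_zero, htr1, smul_smul,
      mul_inv_cancel₀ hF.two, one_smul]
  have hgb : g b = -(b * b) := by
    rw [hgt, one_mul, hb, zero_smul, zero_sub, htr1, smul_mul_assoc, map_smul, ← hβb,
      Algebra.trace_algebraMap, hr2, two_nsmul, smul_eq_mul, ← two_mul, ← mul_assoc,
      inv_mul_cancel₀ hF.two, one_mul, Algebra.smul_def, mul_one]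
  obtain ⟨h, hhM, hh⟩ := hfull f hfr.symm.e_ne hfr.hf g hg
  have hhe : ∀ a : K, h.1 (a • e) = a • e + g a • f := fun a => by
    rw [hh, polar_smul_left, hfr.hef, smul_eq_mul, mul_one]
  obtain ⟨x1, hx1⟩ : ∃ x1, x1 = b • e + (-(b * b)) • f := ⟨_, rfl⟩
  obtain ⟨x2, hx2⟩ : ∃ x2, x2 = e + b • f := ⟨_, rfl⟩
  have hhx1 : h.1 (b • e) = x1 := by rw [hhe, hgb, hx1]
  have hhx2 : h.1 ((1 : K) • e) = x2 := by rw [hhe, hg1, hx2, one_smul]
  have hQx1 : Q x1 = 0 := by rw [← hhx1, h.2, hF.sing_smul he]
  have hR1 : x2 ∈ rootSpace M hQx1 := by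
    have h1 := root_conj (hF.root_line hM hfull he b 1) hhM (by rw [h.2]; exact hF.sing_smul he b)
    rw [hhx2] at h1
    exact root_of_eq h1 hhx1
  have hQv : Q v = 0 := by
    have := hF.sing_smul hPv 1
    rwa [one_smul] at this
  have hvb : b • v ∈ rootSpace M hQv := root_of_eq (hF.root_line hM hfull hPv 1 b) (one_smul K v)
  have hBx1 : polar P x1 v = 0 := by
    rw [hx1, hv, polar_add_left, polar_smul_left, polar_smul_left, polar_add_right, polar_add_right,
      polar_add_right, polar_add_right, polar_smul_right, polar_smul_right, hfr.hee, hfr.hef, hfr.hfe, hfr.hff,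
      hey, hfy]
    simp only [smul_eq_mul]; ring
  have hBx2 : polar P x2 v = b + b := by
    rw [hx2, hv, polar_add_left, polar_smul_left, polar_add_right, polar_add_right,
      polar_add_right, polar_add_right, polar_smul_right, polar_smul_right, hfr.hee, hfr.hef, hfr.hfe, hfr.hff,
      hey, hfy]
    simp only [smul_eq_mul]; ring
  have hQbv : Q (b • v) = 0 := hF.sing_smul hPv b
  have hA := root_plane hR1 hQbv hvb
    (by rw [← hF.tr_polar, hBx1, map_zero]) (by rw [← hF.tr_polar, polar_smul_right, hBx1, smul_zero, map_zero])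
  rw [← hF.tr_polar, hBx2, map_add, hb, add_zero, zero_smul, zero_sub, ← hF.tr_polar, polar_smul_right, hBx2,
    smul_eq_mul, mul_add, map_add, ← hβb, Algebra.trace_algebraMap, hr2, two_nsmul] at hA
  have hc : (β + β + (β + β) : F) ≠ 0 := by
    have : β + β + (β + β) = 2 * 2 * β := by ring
    rw [this]; exact mul_ne_zero (mul_ne_zero hF.two hF.two) hβ
  have hvR : v ∈ rootSpace M hQx1 := by
    have := Submodule.smul_mem _ (-(β + β + (β + β) : F)⁻¹) hA
    rwa [smul_neg, neg_smul, neg_neg, smul_smul, inv_mul_cancel₀ hc, one_smul] at this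
  have hxR : x1 ∈ rootSpace M hQv := root_symm hQv hvR
  obtain ⟨w, hw⟩ : ∃ w, w = b⁻¹ • (f + (-z')) := ⟨_, rfl⟩
  have hPw : P w = 0 := by
    rw [hw, quad_smul, quad_add, QuadraticMap.map_neg, hfr.hf, hz.hf, polar_neg_right, hfz', neg_zero,
      add_zero, add_zero, mul_zero]
  have hBvw : polar P v w = 0 := by
    have hyf : polar P y f = 0 := by rw [polar_comm, hfy]
    have hyz : polar P y z' = 1 := by
      rw [hy, polar_add_left, polar_smul_left, hz.hef, hz.hff, smul_zero, add_zero]
    simp only [hv, hw, polar_smul_right, polar_add_right, polar_add_left, polar_smul_left, polar_neg_right,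
      hfr.hef, hfr.hff, hez', hfz', hyf, hyz, smul_eq_mul]
    ring
  have hBx1w : polar P x1 w = 1 := by
    rw [hx1, hw, polar_smul_right, polar_add_right, polar_add_left, polar_add_left,
      polar_smul_left, polar_smul_left, polar_smul_left, polar_smul_left, polar_neg_right, polar_neg_right,
      hfr.hef, hfr.hff, hez', hfz', neg_zero]
    simp only [smul_eq_mul]
    field_simp
    ring
  have hQw : Q w = 0 := by
    have := hF.sing_smul hPw 1
    rwa [one_smul] at this
  have hwb : b • w ∈ rootSpace M hQw := root_of_eq (hF.root_line hM hfull hPw 1 b) (one_smul K w)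
  have hB := root_plane hxR (hF.sing_smul hPw b) hwb
    (by rw [← hF.tr_polar, hBvw, map_zero]) (by rw [← hF.tr_polar, polar_smul_right, hBvw, smul_zero, map_zero])
  rw [← hF.tr_polar, hBx1w, ← hF.tr_polar, polar_smul_right, hBx1w, smul_eq_mul, mul_one, hb, zero_smul,
    sub_zero, htr1] at hB
  have hbw : b • w ∈ rootSpace M hQv := by
    have := Submodule.smul_mem _ (2 : F)⁻¹ hB
    rwa [smul_smul, inv_mul_cancel₀ hF.two, one_smul] at this
  refine ⟨v, b • w, hPv, by rw [quad_smul, hPw, mul_zero], by rw [polar_smul_right, hBvw, smul_zero],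
    fun k hk => ?_, fun h0 => ?_, fun _ => hbw⟩
  · have h1 : polar P (b • w) f = polar P (k • v) f := congrArg (fun x => polar P x f) hk
    rw [hw, hv, smul_smul, mul_inv_cancel₀ hb0, one_smul, polar_add_left, polar_neg_left, polar_smul_left,
      polar_add_left, polar_add_left, polar_smul_left, hfr.hff, hfr.hef, polar_comm (⇑P) z' f, hfz',
      polar_comm (⇑P) y f, hfy, smul_zero, neg_zero, add_zero, add_zero, smul_eq_mul, add_zero, mul_one] at h1
    rw [← h1, zero_smul] at hk
    have hw0 : w = 0 := (smul_eq_zero.1 hk).resolve_left hb0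
    rw [hw0, polar_zero_right] at hBx1w
    exact zero_ne_one hBx1w
  · rw [h0, polar_zero_right] at hBx2
    have hbb : (2 : K) * b = 0 := by linear_combination -hBx2
    exact mul_ne_zero hF.two' hb0 hbb

/-- Degree two: the root space at a point of the line meets the middle in a singular vector. -/
theorem Fld.exists_mid_root (hr2 : finrank F K = 2) (hk5 : 5 ≤ finrank K V) {e f : V} (hfr : Frame P e f) {a : K} (ha : a ≠ 0) :
    ∃ y, polar P e y = 0 ∧ polar P f y = 0 ∧ P y = 0 ∧ y ≠ 0 ∧
      y ∈ rootSpace M (hF.sing_smul hfr.he a) := by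
  obtain ⟨v, w, hPv, hPw, hvw, hne, hv0, hR⟩ := hF.exists_root_pair hM hfull hr2 hk5
  have hQv : Q v = 0 := by
    have := hF.sing_smul hPv 1
    rwa [one_smul] at this
  obtain ⟨g1, hg1, c, hc, hgc⟩ := hF.exists_move hv0 hfr.e_ne hPv hfr.he
  obtain ⟨z, z', hz, hez, hfz, hez', hfz'⟩ := hF.exists_mid_pair hfr hk5
  obtain ⟨g2, hg2, hge⟩ := hF.exists_scale hfr (c := a / c) (div_ne_zero ha hc) (Or.inr
    ⟨z + z', z + (a / c) • z', by
      rw [quad_add, hz.he, hz.hf, hz.hef, zero_add, zero_add]; exact one_ne_zero, by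
      rw [quad_add, quad_smul, hz.he, hz.hf, polar_smul_right, hz.hef, smul_eq_mul, mul_one, mul_zero,
        zero_add, zero_add]
      exact div_ne_zero ha hc,
      by rw [polar_add_right, hez, hez', add_zero],
      by rw [polar_add_right, polar_smul_right, hez, hez', smul_zero, add_zero], by
      rw [quad_add, quad_add, quad_smul, hz.he, hz.hf, polar_smul_right, hz.hef, smul_eq_mul, mul_one, mul_zero,
        zero_add, zero_add, one_mul]
      rw [zero_add]
      exact IsSquare.mul_self (a / c)⟩)
  set g := g2 * g1 with hg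
  have hgM := hF.res_mem hM (mul_mem hg2 hg1)
  have hgv : g.1 v = a • e := by
    show g2.1 (g1.1 v) = _
    rw [hgc, LinearEquiv.map_smul g2.1, hge, smul_smul, mul_comm, div_mul_cancel₀ _ hc]
  have h1 := root_conj (hR hQv) hgM (by rw [(hF.res g).2]; exact hQv)
  have h2 : g.1 w ∈ rootSpace M (hF.sing_smul hfr.he a) := root_of_eq h1 hgv
  set u := g.1 w with hu
  have hue : polar P e u = 0 := by
    have h3 : polar P (g.1 v) u = 0 := by rw [hu, polar_oGroup, hvw]
    rw [hgv, polar_smul_left, smul_eq_mul] at h3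
    exact (mul_eq_zero.1 h3).resolve_left ha
  have hud : u = polar P u f • e + mid P e f u := by
    conv_lhs => rw [hfr.decomp u]
    rw [polar_comm (⇑P) u e, hue, zero_smul, add_zero]
  refine ⟨mid P e f u, hfr.mid_e _, hfr.mid_f _, ?_, fun h0 => ?_, ?_⟩
  · have hq : P u = 0 := by rw [hu, g.2]; exact hPw
    rw [hfr.quad_eq, polar_comm (⇑P) u e, hue, mul_zero, zero_add] at hq
    exact hq
  · rw [h0, add_zero] at hud
    refine hne (polar P u f / a) (g.1.injective ?_)
    rw [LinearEquiv.map_smul g.1, hgv, smul_smul, div_mul_cancel₀ _ ha]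
    exact hud
  · have h3 : mid P e f u = u - polar P u f • e := by rw [eq_sub_iff_add_eq', ← hud]
    rw [h3]
    exact Submodule.sub_mem _ h2 (hF.root_line hM hfull hfr.he a _)

/-- Degree two: the whole middle lies in the root space. -/
theorem Fld.mid_mem_two (hr2 : finrank F K = 2) (hk5 : 5 ≤ finrank K V) {e f : V} (hfr : Frame P e f) {a : K} (ha : a ≠ 0) {y : V}
    (h1 : polar P e y = 0) (h2 : polar P f y = 0) : y ∈ rootSpace M (hF.sing_smul hfr.he a) := by
  obtain ⟨b, hb0, hb, hbF, β, hβ, hβb, hspan⟩ := hF.exists_imag hr2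
  obtain ⟨y0, he0, hf0, hy0, hy00, hy0R⟩ := hF.exists_mid_root hM hfull hr2 hk5 hfr ha
  set R := rootSpace M (hF.sing_smul hfr.he a)
  -- propagation along lines
  have step : ∀ x Z : V, x ∈ R → P Z = 0 → polar P e Z = 0 → polar P x Z ≠ 0 →
      (b / polar P x Z) • Z ∈ R := by
    intro x Z hx hZ heZ hxZ
    set Z' := (polar P x Z)⁻¹ • Z with hZ'
    have hZs : P Z' = 0 := by rw [hZ', quad_smul, hZ, mul_zero]
    have hQZ : Q Z' = 0 := by
      have := hF.sing_smul hZs 1
      rwa [one_smul] at this
    have hr := root_plane hx (hF.sing_smul hZs b) (root_of_eq (hF.root_line hM hfull hZs 1 b) (one_smul K Z')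
      (hx' := hQZ))
      (by rw [hF.polar_smul_tr, hZ', polar_smul_right, heZ, smul_zero, mul_zero, map_zero])
      (by rw [hF.polar_smul_tr, hZ', polar_smul_right, polar_smul_right, heZ, smul_zero, smul_zero, mul_zero,
        map_zero])
    rw [← hF.tr_polar x Z', ← hF.tr_polar x (b • Z'), hZ', polar_smul_right, polar_smul_right, polar_smul_right,
      smul_eq_mul, smul_eq_mul, inv_mul_cancel₀ hxZ, mul_one, hb, zero_smul, sub_zero,
      show Algebra.trace F K (1 : K) = (2 : F) by
        rw [← map_one (algebraMap F K), Algebra.trace_algebraMap, hr2, two_nsmul, one_add_one_eq_two]] at hr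
    have := Submodule.smul_mem _ (2 : F)⁻¹ hr
    rwa [smul_smul, inv_mul_cancel₀ hF.two, one_smul, smul_smul, ← div_eq_mul_inv] at this
  -- a partner of the first vector
  obtain ⟨m, hm⟩ := exists_polar_ne hF.ndP hy00
  have hpm : polar P y0 (mid P e f m) = polar P y0 m := by
    rw [mid, polar_sub_right, polar_sub_right, polar_smul_right, polar_smul_right, polar_comm (⇑P) y0 e, he0,
      polar_comm (⇑P) y0 f, hf0, smul_zero, smul_zero, sub_zero, sub_zero]
  obtain ⟨Z1, hZd⟩ : ∃ Z1, Z1 = (polar P y0 m)⁻¹ • mid P e f m +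
      (-(P ((polar P y0 m)⁻¹ • mid P e f m))) • y0 := ⟨_, rfl⟩
  have hy0m : polar P y0 ((polar P y0 m)⁻¹ • mid P e f m) = 1 := by
    rw [polar_smul_right, hpm, smul_eq_mul, inv_mul_cancel₀ hm]
  have hfr' : Frame P y0 Z1 := ⟨hy0, by
    rw [hZd, quad_add, quad_smul _ (-(P _)), hy0, polar_smul_right, polar_comm (⇑P) _ y0, hy0m, smul_eq_mul]
    ring, by rw [hZd, polar_add_right, polar_smul_right _ (-(P _)), polar_self, hy0, smul_zero, smul_zero,
      hy0m, add_zero]⟩
  have heZ1 : polar P e Z1 = 0 := by
    rw [hZd, polar_add_right, polar_smul_right, polar_smul_right, hfr.mid_e, he0, smul_zero, smul_zero, add_zero]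
  have hfZ1 : polar P f Z1 = 0 := by
    rw [hZd, polar_add_right, polar_smul_right, polar_smul_right, hfr.mid_f, hf0, smul_zero, smul_zero, add_zero]
  have hy1 : b • Z1 ∈ R := by
    have := step y0 Z1 hy0R hfr'.hf heZ1 (by rw [hfr'.hef]; exact one_ne_zero)
    rwa [hfr'.hef, div_one] at this
  -- an anisotropic vector orthogonal to the two planes
  obtain ⟨w, hw, hew, hfw, hyw, hzw⟩ : ∃ w, P w ≠ 0 ∧ polar P e w = 0 ∧ polar P f w = 0 ∧
      polar P y0 w = 0 ∧ polar P Z1 w = 0 := by
    set U := Submodule.span K (Set.range ![e, f, y0, Z1]) with hU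
    have hU4 : finrank K U ≤ 4 := (finrank_range_le_card _).trans (by simp)
    by_contra hno
    push Not at hno
    have hm : ∀ i : Fin 4, (![e, f, y0, Z1] i) ∈ U := fun i => Submodule.subset_span ⟨i, rfl⟩
    have hsing : ∀ z ∈ perpS P U, P z = 0 := fun z hz => by
      by_contra hzz
      exact hno z hzz (hz e (hm 0)) (hz f (hm 1)) (hz y0 (hm 2)) (hz Z1 (hm 3))
    have hle : perpS P U ≤ perpS P (perpS P U) := fun a ha b hb => by
      simp only [polar, hsing _ (Submodule.add_mem _ hb ha), hsing a ha, hsing b hb, sub_zero]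
    rw [perpS_perpS hF.ndP] at hle
    have h1' := finrank_perpS hF.ndP U
    obtain ⟨z, hz, hz0⟩ := Submodule.exists_mem_ne_zero_of_ne_bot (p := perpS P U) (fun h => by
      rw [h, finrank_bot] at h1'; omega)
    obtain ⟨c, hc⟩ := (Submodule.mem_span_range_iff_exists_fun K).1 (hle hz)
    have c0 := hz e (hm 0)
    have c1 := hz f (hm 1)
    have c2 := hz y0 (hm 2)
    have c3 := hz Z1 (hm 3)
    simp only [Fin.sum_univ_four, Matrix.cons_val] at hc
    have hfe0 : polar P f y0 = 0 := hf0
    rw [← hc] at c0 c1 c2 c3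
    simp only [polar_add_right, polar_smul_right, hfr.hee, hfr.hef, hfr.hfe, hfr.hff, he0, heZ1, hf0, hfZ1,
      hfr'.hee, hfr'.hef, hfr'.hfe, hfr'.hff, polar_comm (⇑P) y0 e, polar_comm (⇑P) y0 f, polar_comm (⇑P) Z1 e,
      polar_comm (⇑P) Z1 f, smul_eq_mul, mul_zero, mul_one, add_zero, zero_add] at c0 c1 c2 c3
    exact hz0 (by rw [← hc, c0, c1, c2, c3, zero_smul, zero_smul, zero_smul, zero_smul, add_zero, add_zero,
      add_zero])
  obtain ⟨c, hcb⟩ : ∃ c : K, -(P w) * (c * c) ∉ Submodule.span F {b} := by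
    by_contra hno
    push Not at hno
    have hall : ∀ x : K, -(P w) * x ∈ Submodule.span F {b} := fun x =>
      hF.sq_induction (p := fun x => -(P w) * x ∈ Submodule.span F {b})
        (fun u v hu hv => by rw [mul_add]; exact Submodule.add_mem _ hu hv) hno x
    have h1' := hall (-(P w))⁻¹
    rw [mul_inv_cancel₀ (neg_ne_zero.2 hw)] at h1'
    obtain ⟨s, hs⟩ := Submodule.mem_span_singleton.1 h1'
    have h2' := congrArg (Algebra.trace F K) hs
    rw [map_smul, hb, smul_zero, ← map_one (algebraMap F K), Algebra.trace_algebraMap, hr2, two_nsmul,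
      one_add_one_eq_two] at h2'
    exact hF.two h2'.symm
  obtain ⟨a', ha'⟩ : ∃ a', a' = -(P w) * (c * c) := ⟨_, rfl⟩
  have ha0 : a' ≠ 0 := fun h => hcb (by rw [← ha', h]; exact Submodule.zero_mem _)
  obtain ⟨Z, hZd'⟩ : ∃ Z, Z = a' • y0 + Z1 + c • w := ⟨_, rfl⟩
  have hPZ : P Z = 0 := by
    rw [hZd', quad_add, quad_add P (a' • y0), quad_smul, quad_smul, hy0, hfr'.hf, polar_smul_left, hfr'.hef,
      polar_add_left, polar_smul_left, polar_smul_right, polar_smul_right, hyw, hzw, ha']
    simp only [smul_eq_mul]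
    ring
  have heZ : polar P e Z = 0 := by
    rw [hZd', polar_add_right, polar_add_right, polar_smul_right, polar_smul_right, he0, heZ1, hew, smul_zero,
      smul_zero]
    ring
  have hfZ : polar P f Z = 0 := by
    rw [hZd', polar_add_right, polar_add_right, polar_smul_right, polar_smul_right, hf0, hfZ1, hfw, smul_zero,
      smul_zero]
    ring
  have hyZ : polar P y0 Z = 1 := by
    rw [hZd', polar_add_right, polar_add_right, polar_smul_right, polar_smul_right, polar_self, hy0, smul_zero,
      hfr'.hef, hyw, smul_zero]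
    simp
  have hy1Z : polar P (b • Z1) Z = b * a' := by
    rw [polar_smul_left, hZd', polar_add_right, polar_add_right, polar_smul_right, polar_smul_right, hfr'.hfe,
      hfr'.hff, hzw, smul_zero, smul_eq_mul, smul_eq_mul]
    ring
  have hli : LinearIndependent F ![b, a'⁻¹] :=
    (LinearIndependent.pair_iff' hb0).2 fun s hs => by
      have hs0 : s ≠ 0 := fun h => inv_ne_zero ha0 (by rw [← hs, h, zero_smul])
      refine hcb (Submodule.mem_span_singleton.2 ⟨(s * β)⁻¹, ?_⟩)
      rw [← ha']
      have h3 : a' * (s • b) = 1 := by rw [hs, mul_inv_cancel₀ ha0]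
      rw [Algebra.smul_def] at h3 ⊢
      rw [map_inv₀, map_mul, hβb, inv_mul_eq_iff_eq_mul₀ (mul_ne_zero (by simpa using hs0) (mul_ne_zero hb0 hb0))]
      linear_combination -b * h3
  have hZall : ∀ x : K, x • Z ∈ R := by
    intro x
    have htop := hli.span_eq_top_of_card_eq_finrank (by simp [hr2])
    have hx : x ∈ Submodule.span F (Set.range ![b, a'⁻¹]) := by rw [htop]; trivial
    obtain ⟨u, hu⟩ := (Submodule.mem_span_range_iff_exists_fun F).1 hx
    have e1 := step _ _ hy0R hPZ heZ (by rw [hyZ]; exact one_ne_zero)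
    have e2 := step _ _ hy1 hPZ heZ (by rw [hy1Z]; exact mul_ne_zero hb0 ha0)
    rw [hyZ, div_one] at e1
    rw [hy1Z, show b / (b * a') = a'⁻¹ by field_simp] at e2
    rw [← hu, Fin.sum_univ_two, add_smul, smul_assoc, smul_assoc]
    exact R.add_mem (R.smul_mem _ e1) (R.smul_mem _ e2)
  have hsing : ∀ x : V, P x = 0 → polar P e x = 0 → polar P Z x ≠ 0 → x ∈ R := by
    intro x hx hex hZx
    have h := step ((b / polar P Z x) • Z) x (hZall _) hx hex
      (by rw [polar_smul_left, smul_eq_mul, div_mul_cancel₀ _ hZx]; exact hb0)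
    rwa [polar_smul_left, smul_eq_mul, div_mul_cancel₀ _ hZx, div_self hb0, one_smul] at h
  have hany : ∀ x : V, polar P e x = 0 → polar P Z x ≠ 0 → x ∈ R := by
    intro x hex hZx
    have h := hsing (x + (-(P x) / polar P Z x) • Z)
      (by rw [quad_add, quad_smul, hPZ, polar_smul_right, polar_comm (⇑P) x Z, smul_eq_mul,
        div_mul_cancel₀ _ hZx]; ring)
      (by rw [polar_add_right, polar_smul_right, hex, heZ, smul_zero, add_zero])
      (by rw [polar_add_right, polar_smul_right, polar_self, hPZ, smul_zero, smul_zero, add_zero]; exact hZx)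
    have := R.sub_mem h (hZall (-(P x) / polar P Z x))
    rwa [add_sub_cancel_right] at this
  by_cases hZy : polar P Z y = 0
  · have hZy0 : polar P Z y0 = 1 := by rw [polar_comm, hyZ]
    have h3 := hany (y + y0) (by rw [polar_add_right, h1, he0, add_zero])
      (by rw [polar_add_right, hZy, hZy0, zero_add]; exact one_ne_zero)
    have := R.sub_mem h3 hy0R
    rwa [add_sub_cancel_right] at this
  · exact hany y h1 hZy

/-- Degree two, at least four dimensions: some root space contains an anisotropic orthogonal vector. -/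
theorem Fld.exists_root_aniso (hr2 : finrank F K = 2) (hk : 4 ≤ finrank K V) :
    ∃ v x : V, P v = 0 ∧ v ≠ 0 ∧ polar P v x = 0 ∧ P x ≠ 0 ∧ ∀ hv : Q v = 0, x ∈ rootSpace M hv := by
  obtain ⟨b, hb0, hb, hbF, β, hβ, hβb, hspan⟩ := hF.exists_imag hr2
  obtain ⟨e, he0, he⟩ := hF.exists_singular
  obtain ⟨f, hfr⟩ := hF.exists_frame he0 he
  obtain ⟨y, hey, hfy, hPy⟩ := hF.exists_mid_value hk hfr (-b)
  obtain ⟨v, hv⟩ : ∃ v, v = e + b • f + y := ⟨_, rfl⟩
  have hPv : P v = 0 := by
    rw [hv, quad_add, quad_add, quad_smul, he, hfr.hf, polar_add_left, polar_smul_left, polar_smul_right, hey, hfy,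
      hfr.hef, hPy, smul_eq_mul, smul_zero]
    ring
  obtain ⟨g, hg, hgt⟩ := hF.exists_plane_map (F := F) (V := V) (P := P) (1 : K) ((Algebra.trace F K (1 : K))⁻¹ • b)
  have htr1 : Algebra.trace F K (1 : K) = 2 := by
    rw [← map_one (algebraMap F K), Algebra.trace_algebraMap, hr2, two_nsmul, one_add_one_eq_two]
  have hg1 : g 1 = b := by
    rw [hgt, mul_one, mul_one, map_smul, hb, smul_zero, zero_smul, sub_zero, htr1, smul_smul,
      mul_inv_cancel₀ hF.two, one_smul]
  have hgb : g b = -(b * b) := by
    rw [hgt, one_mul, hb, zero_smul, zero_sub, htr1, smul_mul_assoc, map_smul, ← hβb,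
      Algebra.trace_algebraMap, hr2, two_nsmul, smul_eq_mul, ← two_mul, ← mul_assoc,
      inv_mul_cancel₀ hF.two, one_mul, Algebra.smul_def, mul_one]
  obtain ⟨h, hhM, hh⟩ := hfull f hfr.symm.e_ne hfr.hf g hg
  have hhe : ∀ a : K, h.1 (a • e) = a • e + g a • f := fun a => by
    rw [hh, polar_smul_left, hfr.hef, smul_eq_mul, mul_one]
  obtain ⟨x1, hx1⟩ : ∃ x1, x1 = b • e + (-(b * b)) • f := ⟨_, rfl⟩
  obtain ⟨x2, hx2⟩ : ∃ x2, x2 = e + b • f := ⟨_, rfl⟩
  have hhx1 : h.1 (b • e) = x1 := by rw [hhe, hgb, hx1]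
  have hhx2 : h.1 ((1 : K) • e) = x2 := by rw [hhe, hg1, hx2, one_smul]
  have hQx1 : Q x1 = 0 := by rw [← hhx1, h.2, hF.sing_smul he]
  have hR1 : x2 ∈ rootSpace M hQx1 := by
    have h1 := root_conj (hF.root_line hM hfull he b 1) hhM (by rw [h.2]; exact hF.sing_smul he b)
    rw [hhx2] at h1
    exact root_of_eq h1 hhx1
  have hQv : Q v = 0 := by
    have := hF.sing_smul hPv 1
    rwa [one_smul] at this
  have hvb : b • v ∈ rootSpace M hQv := root_of_eq (hF.root_line hM hfull hPv 1 b) (one_smul K v)
  have hBx1 : polar P x1 v = 0 := by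
    rw [hx1, hv, polar_add_left, polar_smul_left, polar_smul_left, polar_add_right, polar_add_right,
      polar_add_right, polar_add_right, polar_smul_right, polar_smul_right, hfr.hee, hfr.hef, hfr.hfe, hfr.hff,
      hey, hfy]
    simp only [smul_eq_mul]; ring
  have hBx2 : polar P x2 v = b + b := by
    rw [hx2, hv, polar_add_left, polar_smul_left, polar_add_right, polar_add_right,
      polar_add_right, polar_add_right, polar_smul_right, polar_smul_right, hfr.hee, hfr.hef, hfr.hfe, hfr.hff,
      hey, hfy]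
    simp only [smul_eq_mul]; ring
  have hQbv : Q (b • v) = 0 := hF.sing_smul hPv b
  have hA := root_plane hR1 hQbv hvb
    (by rw [← hF.tr_polar, hBx1, map_zero]) (by rw [← hF.tr_polar, polar_smul_right, hBx1, smul_zero, map_zero])
  rw [← hF.tr_polar, hBx2, map_add, hb, add_zero, zero_smul, zero_sub, ← hF.tr_polar, polar_smul_right, hBx2,
    smul_eq_mul, mul_add, map_add, ← hβb, Algebra.trace_algebraMap, hr2, two_nsmul] at hA
  have hc : (β + β + (β + β) : F) ≠ 0 := by
    have : β + β + (β + β) = 2 * 2 * β := by ring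
    rw [this]; exact mul_ne_zero (mul_ne_zero hF.two hF.two) hβ
  have hvR : v ∈ rootSpace M hQx1 := by
    have := Submodule.smul_mem _ (-(β + β + (β + β) : F)⁻¹) hA
    rwa [smul_neg, neg_smul, neg_neg, smul_smul, inv_mul_cancel₀ hc, one_smul] at this
  refine ⟨v, x1, hPv, fun h0 => ?_, by rw [polar_comm, hBx1], ?_, fun _ => root_symm hQv hvR⟩
  · rw [h0, polar_zero_right] at hBx2
    exact mul_ne_zero hF.two' hb0 (by linear_combination -hBx2)
  · rw [hx1, quad_add, quad_smul, quad_smul, he, hfr.hf, polar_smul_left, polar_smul_right, hfr.hef]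
    simp [hb0]

/-- Degree two: the root space at a point of the line meets the middle outside the singular vectors. -/
theorem Fld.exists_mid_root_aniso (hr2 : finrank F K = 2) (hk : 4 ≤ finrank K V) {e f : V} (hfr : Frame P e f)
    {a : K} (ha : a ≠ 0) :
    ∃ m, polar P e m = 0 ∧ polar P f m = 0 ∧ P m ≠ 0 ∧ m ∈ rootSpace M (hF.sing_smul hfr.he a) := by
  obtain ⟨v, x, hPv, hv0, hvx, hx, hR⟩ := hF.exists_root_aniso hM hfull hr2 hk
  have hQv : Q v = 0 := by
    have := hF.sing_smul hPv 1
    rwa [one_smul] at this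
  obtain ⟨g1, hg1, c, hc, hgc⟩ := hF.exists_move hv0 hfr.e_ne hPv hfr.he
  obtain ⟨u, heu, -, hu⟩ := hF.exists_mid_value hk hfr 1
  obtain ⟨w, hew, -, hw⟩ := hF.exists_mid_value hk hfr (a / c)
  obtain ⟨g2, hg2, hge⟩ := hF.exists_scale hfr (c := a / c) (div_ne_zero ha hc) (Or.inr
    ⟨u, w, by rw [hu]; exact one_ne_zero, by rw [hw]; exact div_ne_zero ha hc, heu, hew,
      ⟨a / c, by rw [hu, hw, one_mul]⟩⟩)
  set g := g2 * g1 with hg
  have hgM := hF.res_mem hM (mul_mem hg2 hg1)
  have hgv : g.1 v = a • e := by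
    show g2.1 (g1.1 v) = _
    rw [hgc, LinearEquiv.map_smul g2.1, hge, smul_smul, mul_comm, div_mul_cancel₀ _ hc]
  have h1 := root_conj (hR hQv) hgM (by rw [(hF.res g).2]; exact hQv)
  have h2 : g.1 x ∈ rootSpace M (hF.sing_smul hfr.he a) := root_of_eq h1 hgv
  have hue : polar P e (g.1 x) = 0 := by
    have h3 : polar P (g.1 v) (g.1 x) = 0 := by rw [polar_oGroup, hvx]
    rw [hgv, polar_smul_left, smul_eq_mul] at h3
    exact (mul_eq_zero.1 h3).resolve_left ha
  refine ⟨mid P e f (g.1 x), hfr.mid_e _, hfr.mid_f _, ?_, ?_⟩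
  · have hq : P x = P (mid P e f (g.1 x)) := by
      rw [← g.2 x, hfr.quad_eq, polar_comm (⇑P) (g.1 x) e, hue, mul_zero, zero_add]
    rwa [← hq]
  · have h3 : mid P e f (g.1 x) = g.1 x - polar P (g.1 x) f • e := by
      rw [mid, polar_comm (⇑P) (g.1 x) e, hue, zero_smul, sub_zero]
    rw [h3]
    exact Submodule.sub_mem _ h2 (hF.root_line hM hfull hfr.he a _)

/-- Four dimensions over a quadratic extension: the reflections of the middle spread a root. -/
theorem Fld.mid_spread (hr2 : finrank F K = 2) (hk : finrank K V = 4) {e f : V} (hfr : Frame P e f) {a : K}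
    {m : V} (hem : polar P e m = 0) (hfm : polar P f m = 0) (hm : P m ≠ 0)
    (hmR : m ∈ rootSpace M (hF.sing_smul hfr.he a)) {d : V} (hed : polar P e d = 0) (hfd : polar P f d = 0)
    (hd : P d ≠ 0) : (polar P m d / P d) • d ∈ rootSpace M (hF.sing_smul hfr.he a) := by
  set R := rootSpace M (hF.sing_smul hfr.he a)
  set U := Submodule.span K (Set.range ![e, f, m])
  have hU : finrank K U ≤ 3 := (finrank_range_le_card _).trans (by simp)
  obtain ⟨c, hcU, hc0⟩ := Submodule.exists_mem_ne_zero_of_ne_bot (p := perpS P U) (fun h => by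
    have h1 := finrank_perpS hF.ndP U
    rw [h, finrank_bot] at h1
    omega)
  have hec : polar P e c = 0 := hcU e (Submodule.subset_span ⟨0, rfl⟩)
  have hfc : polar P f c = 0 := hcU f (Submodule.subset_span ⟨1, rfl⟩)
  have hmc : polar P m c = 0 := hcU m (Submodule.subset_span ⟨2, rfl⟩)
  have hc : P c ≠ 0 := fun h => hc0 (hF.mid_aniso hr2 hk hfr hec hfc h)
  -- the two values are in different square classes
  have hns : ¬ IsSquare (P c * P m) := by
    rintro ⟨w, hw⟩
    obtain ⟨i, hi⟩ := isSquare_neg_one_two hF.two hr2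
    have h0 : c + (i * w / P m) • m = 0 := by
      refine hF.mid_aniso hr2 hk hfr ?_ ?_ ?_
      · rw [polar_add_right, polar_smul_right, hec, hem, smul_zero, add_zero]
      · rw [polar_add_right, polar_smul_right, hfc, hfm, smul_zero, add_zero]
      · rw [quad_add, quad_smul, polar_smul_right, polar_comm (⇑P) c m, hmc, smul_zero, add_zero]
        field_simp
        linear_combination (P c) * 0 + hw - w ^ 2 * hi
    have h1 := congrArg (polar P c) h0
    rw [polar_add_right, polar_smul_right, polar_comm (⇑P) c m, hmc, smul_zero, add_zero, polar_self,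
      polar_zero_right, nsmul_eq_mul, Nat.cast_ofNat] at h1
    exact mul_ne_zero hF.two' hc h1
  have happ : ∀ x : V, (refl P d).1 x - x = -((P d)⁻¹ * polar P x d) • d := fun x => by
    rw [refl_apply]
    simp only [neg_mul, neg_smul]
    abel
  have hkey : (refl P d).1 m - m ∈ R := by
    have hfix : ∀ u : V, P u ≠ 0 → polar P e u = 0 → (hF.res (refl P d * refl P u)).1 (a • e) = a • e := by
      intro u hu heu
      show (refl P d).1 ((refl P u).1 (a • e)) = _
      rw [show (refl P u).1 (a • e) = a • e from refl_fix (by rw [polar_smul_left, heu, smul_zero])]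
      exact refl_fix (by rw [polar_smul_left, hed, smul_zero])
    by_cases h1 : IsSquare (P d * P c)
    · have h := rootSpace.move (hF.res_mem hM (refl_pair_mem_commutator hF.ndP hd hc h1)) (hfix c hc hec) hmR
      rwa [hF.res_apply, show (refl P d * refl P c).1 m = (refl P d).1 ((refl P c).1 m) from rfl,
        refl_fix hmc] at h
    · have h2 : IsSquare (P d * P m) := by
        by_contra h2
        obtain ⟨w, hw⟩ := sq_of_nonsq h1 h2
        exact hns ⟨w / P d, by field_simp; linear_combination hw⟩
      have h := rootSpace.move (hF.res_mem hM (refl_pair_mem_commutator hF.ndP hd hm h2)) (hfix m hm hem) hmR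
      rw [hF.res_apply, show (refl P d * refl P m).1 m = (refl P d).1 ((refl P m).1 m) from rfl,
        refl_self hm, map_neg] at h
      have h' := R.add_mem h hmR
      rw [sub_add_cancel, Submodule.neg_mem_iff] at h'
      exact R.sub_mem h' hmR
  have h := Submodule.neg_mem _ hkey
  rw [happ, ← neg_smul, neg_neg, ← div_eq_inv_mul] at h
  exact h

/-- Four dimensions over a quadratic extension: the trace perpendicular points of the opposite line. -/
theorem Fld.htf_four (hr2 : finrank F K = 2) (hk : finrank K V = 4) {e f : V} (hfr : Frame P e f) {a : K}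
    (ha : a ≠ 0) {t : K} (ht : Algebra.trace F K (a * t) = 0) :
    t • f ∈ rootSpace M (hF.sing_smul hfr.he a) := by
  set R := rootSpace M (hF.sing_smul hfr.he a)
  by_cases ht0 : t = 0
  · rw [ht0, zero_smul]; exact R.zero_mem
  obtain ⟨m, hem, hfm, hm, hmR⟩ := hF.exists_mid_root_aniso hM hfull hr2 hk.ge hfr ha
  obtain ⟨w, hfw, hew, hw, hwR⟩ := hF.exists_mid_root_aniso hM hfull hr2 hk.ge hfr.symm ht0
  by_contra hnot
  have hzero : ∀ x ∈ R, polar P f x = 0 → Algebra.trace F K (polar P x w) = 0 := by
    intro x hx hfx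
    by_contra htx
    have h := root_plane_aniso hx hwR
      (by rw [hF.polar_smul_tr, polar_smul_right, hfr.hef, smul_eq_mul, mul_one, ht])
      (by rw [hF.polar_smul_tr, hew, mul_zero, map_zero])
      (by rw [← hF.tr_polar, polar_smul_right, polar_comm (⇑P) x f, hfx, smul_zero, map_zero])
    rw [← hF.tr_polar] at h
    have h' := R.smul_mem (Algebra.trace F K (polar P x w))⁻¹ h
    rw [smul_smul, inv_mul_cancel₀ htx, one_smul] at h'
    exact hnot h'
  have key : ∀ c : V, polar P e c = 0 → polar P f c = 0 → P c ≠ 0 → polar P m c = 0 →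
      polar P c w = 0 ∧ polar P m w = 0 := by
    intro c hec hfc hc hmc
    have hPd : ∀ s : K, P (c + s • m) = P c + s * s * P m := fun s => by
      rw [quad_add, quad_smul, polar_smul_right, polar_comm (⇑P) c m, hmc, smul_zero, add_zero]
    have hD : ∀ s : K, P c + s * s * P m ≠ 0 := fun s h => by
      rw [← hPd] at h
      have h0 := hF.mid_aniso hr2 hk hfr
        (by rw [polar_add_right, polar_smul_right, hec, hem, smul_zero, add_zero])
        (by rw [polar_add_right, polar_smul_right, hfc, hfm, smul_zero, add_zero]) h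
      have h1 := congrArg (polar P c) h0
      rw [polar_add_right, polar_smul_right, polar_comm (⇑P) c m, hmc, smul_zero, add_zero, polar_self,
        polar_zero_right, nsmul_eq_mul, Nat.cast_ofNat] at h1
      exact mul_ne_zero hF.two' hc h1
    have hval : ∀ s : K, Algebra.trace F K (s * (2 * P m * polar P c w) / (P c + s * s * P m)) +
        Algebra.trace F K (s * s * (2 * P m * polar P m w) / (P c + s * s * P m)) = 0 := by
      intro s
      have hfd : polar P f (c + s • m) = 0 := by
        rw [polar_add_right, polar_smul_right, hfc, hfm, smul_zero, add_zero]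
      have hs := hF.mid_spread hM hfull hr2 hk hfr hem hfm hm hmR
        (d := c + s • m) (by rw [polar_add_right, polar_smul_right, hec, hem, smul_zero, add_zero]) hfd
        (by rw [hPd]; exact hD s)
      have h1 := hzero _ hs (by rw [polar_smul_right, hfd, smul_zero])
      rw [polar_smul_left, smul_eq_mul, hPd, polar_add_right, polar_smul_right, hmc, polar_self,
        polar_add_left, polar_smul_left, smul_eq_mul, smul_eq_mul, nsmul_eq_mul, Nat.cast_ofNat, zero_add] at h1
      rw [← map_add, ← h1]
      exact congrArg _ (by ring)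
    have hsep : ∀ s : K, Algebra.trace F K (s * (2 * P m * polar P c w) / (P c + s * s * P m)) = 0 ∧
        Algebra.trace F K (s * s * (2 * P m * polar P m w) / (P c + s * s * P m)) = 0 := by
      intro s
      have h1 := hval s
      have h2 := hval (-s)
      rw [neg_mul_neg, neg_mul, neg_div, map_neg] at h2
      exact ⟨mul_left_cancel₀ hF.two (by rw [mul_zero]; linear_combination h1 - h2),
        mul_left_cancel₀ hF.two (by rw [mul_zero]; linear_combination h1 + h2)⟩
    constructor
    · by_contra hne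
      obtain ⟨s, hs⟩ := (exists_trace_frac hF.two hr2 hD hm
        (mul_ne_zero (mul_ne_zero hF.two' hm) hne)).1
      exact hs (hsep s).1
    · by_contra hne
      obtain ⟨s, hs⟩ := (exists_trace_frac hF.two hr2 hD hm
        (mul_ne_zero (mul_ne_zero hF.two' hm) hne)).2
      exact hs (hsep s).2
  set U := Submodule.span K (Set.range ![e, f, m])
  have hU : finrank K U ≤ 3 := (finrank_range_le_card _).trans (by simp)
  obtain ⟨c, hcU, hc0⟩ := Submodule.exists_mem_ne_zero_of_ne_bot (p := perpS P U) (fun h => by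
    have h1 := finrank_perpS hF.ndP U
    rw [h, finrank_bot] at h1
    omega)
  have hec : polar P e c = 0 := hcU e (Submodule.subset_span ⟨0, rfl⟩)
  have hfc : polar P f c = 0 := hcU f (Submodule.subset_span ⟨1, rfl⟩)
  have hmw := (key c hec hfc (fun h => hc0 (hF.mid_aniso hr2 hk hfr hec hfc h))
    (hcU m (Submodule.subset_span ⟨2, rfl⟩))).2
  have hww := (key w hew hfw hw hmw).1
  rw [polar_self, nsmul_eq_mul, Nat.cast_ofNat] at hww
  exact mul_ne_zero hF.two' hw hww

/-- All Siegel transformations centred at a point of the line. -/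
theorem Fld.full_at {e f : V} (hfr : Frame P e f) {a : K} (ha : a ≠ 0) : Full M (a • e) := by
  set R := rootSpace M (hF.sing_smul hfr.he a)
  have hline : ∀ b : K, b • e ∈ R := fun b => hF.root_line hM hfull hfr.he a b
  have htf : ∀ t : K, Algebra.trace F K (a * t) = 0 → t • f ∈ R := by
    intro t ht
    by_cases hr2 : finrank F K = 2
    · by_cases hk5 : 5 ≤ finrank K V
      swap
      · refine hF.htf_four hM hfull hr2 ?_ hfr ha ht
        have h1 : finrank F K * finrank K V = finrank F V := Module.finrank_mul_finrank F K V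
        have := hF.big
        rw [hr2] at h1
        omega
      have hmid := fun y (h1 : polar P e y = 0) (h2 : polar P f y = 0) =>
        hF.mid_mem_two hM hfull hr2 hk5 hfr ha h1 h2
      by_cases ht0 : t = 0
      · rw [ht0, zero_smul]; exact R.zero_mem
      obtain ⟨w, hfw, hew, hw, hw0, hwR⟩ := hF.exists_mid_root hM hfull hr2 hk5 hfr.symm ht0
      obtain ⟨m, hm⟩ := exists_polar_ne hF.ndP hw0
      have hpm : polar P w (mid P e f m) = polar P w m := by
        rw [mid, polar_sub_right, polar_sub_right, polar_smul_right, polar_smul_right, polar_comm (⇑P) w e, hew,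
          polar_comm (⇑P) w f, hfw, smul_zero, smul_zero, sub_zero, sub_zero]
      obtain ⟨x, hx⟩ := Algebra.trace_surjective F K (1 : F)
      obtain ⟨y', hy'⟩ : ∃ y', y' = (x / polar P w m) • mid P e f m := ⟨_, rfl⟩
      have hey' : polar P e y' = 0 := by rw [hy', polar_smul_right, hfr.mid_e, smul_zero]
      have hfy' : polar P f y' = 0 := by rw [hy', polar_smul_right, hfr.mid_f, smul_zero]
      have hwy : polar P y' w = x := by
        rw [hy', polar_smul_left, polar_comm (⇑P) _ w, hpm, smul_eq_mul, div_mul_cancel₀ _ hm]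
      have hQw : Q w = 0 := by
        have := hF.sing_smul hw 1
        rwa [one_smul] at this
      have h := root_plane (hmid y' hey' hfy') hQw hwR
        (by rw [hF.polar_smul_tr, polar_smul_right, hfr.hef, smul_eq_mul, mul_one, ht])
        (by rw [hF.polar_smul_tr, hew, mul_zero, map_zero])
      rw [← hF.tr_polar y' (t • f), ← hF.tr_polar y' w, hwy, hx, polar_smul_right, polar_comm (⇑P) y' f, hfy',
        smul_zero, map_zero, zero_smul, one_smul, zero_sub] at h
      exact (Submodule.neg_mem_iff _).1 h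
    · by_cases ht0 : t = 0
      · rw [ht0, zero_smul]; exact R.zero_mem
      obtain ⟨y1, hy1, hy1t⟩ : ∃ y1, Algebra.trace F K (a * y1) = 0 ∧ y1 ∉ Submodule.span F {t} := by
        by_contra hno
        push Not at hno
        have hle : LinearMap.ker ((Algebra.traceForm F K) a) ≤ Submodule.span F {t} := fun y hy => hno y hy
        have h1 := Submodule.finrank_mono hle
        rw [finrank_span_singleton ht0] at h1
        have h2 := ((Algebra.traceForm F K) a).finrank_range_add_finrank_ker
        have h3 := Submodule.finrank_le (LinearMap.range ((Algebra.traceForm F K) a))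
        rw [finrank_self] at h3
        have h4 := hF.prime.two_le
        omega
      obtain ⟨b', hb1, hb2⟩ := exists_trace_sep (F := F) hy1t
      have h := root_plane (hline b') (hF.sing_smul hfr.hf t) (hF.root_line hM hfull hfr.hf y1 t)
        (by rw [hF.polar_smul_tr, polar_smul_right, hfr.hef, smul_eq_mul, mul_one, hy1])
        (by rw [hF.polar_smul_tr, polar_smul_right, hfr.hef, smul_eq_mul, mul_one, ht])
      rw [hF.polar_smul_tr, hF.polar_smul_tr, polar_smul_right, polar_smul_right, hfr.hef, smul_eq_mul,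
        smul_eq_mul, mul_one, mul_one, hb1, zero_smul, sub_zero] at h
      have := R.smul_mem (Algebra.trace F K (b' * y1))⁻¹ h
      rwa [smul_smul, inv_mul_cancel₀ hb2, one_smul] at this
  have hmid : ∀ y, polar P e y = 0 → polar P f y = 0 → y ∈ R := by
    intro y h1 h2
    obtain ⟨t0, ht0, ht⟩ := hF.exists_trace_zero a
    set z := t0⁻¹ • y with hz
    have hez : polar P e z = 0 := by rw [hz, polar_smul_right, h1, smul_zero]
    have hfz : polar P f z = 0 := by rw [hz, polar_smul_right, h2, smul_zero]
    have hfix : (hF.uK e z).1 (a • e) = a • e := by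
      rw [hF.uK_apply hfr.he hez, polar_smul_left, polar_smul_left, hfr.hee, hez, smul_zero, zero_smul, mul_zero,
        add_zero, add_zero, zero_smul, sub_zero]
    have h := rootSpace.move (hF.uK_mem_all hM hfr hez hfz) hfix (htf t0 ht)
    rw [hF.uK_apply hfr.he hez, polar_smul_left, polar_smul_left, hfr.hfe, hfz, smul_zero, zero_add,
      smul_eq_mul, mul_one, add_sub_assoc, add_sub_cancel_left] at h
    have h3 := R.add_mem h (hline (P z * t0))
    rw [sub_add_cancel, hz, smul_smul, mul_inv_cancel₀ ht0, one_smul] at h3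
    exact h3
  intro x hx
  rw [hF.polar_smul_tr] at hx
  have hxR : x ∈ R := by
    rw [hfr.decomp x]
    refine R.add_mem (R.add_mem (hline _) (hmid _ (hfr.mid_e x) (hfr.mid_f x))) (htf _ ?_)
    rw [polar_comm (⇑P) x e]; exact hx
  exact rootSpace.self_mem hxR

/-- The overgroup contains `Ω`. -/
theorem Fld.commutator_le : commutator (oGroup Q) ≤ M := by
  obtain ⟨e, he0, he⟩ := hF.exists_singular
  obtain ⟨f, hfr⟩ := hF.exists_frame he0 he
  obtain ⟨t, ht⟩ := Algebra.trace_surjective F K (1 : F)
  have ht0 : t ≠ 0 := fun h => by rw [h, map_zero] at ht; exact zero_ne_one ht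
  have hQe : Q e = 0 := by
    have := hF.sing_smul he 1
    rwa [one_smul] at this
  have hfe : Full M e := by
    have := hF.full_at hM hfull hfr (a := 1) one_ne_zero
    rwa [one_smul] at this
  refine commutator_le_of_two hF.ndQ (by have := hF.big; omega) hQe (hF.sing_smul hfr.hf t) ?_ hfe
    (hF.full_at hM hfull hfr.symm ht0)
  rw [polar_comm, hF.polar_smul_tr, hfr.hfe, mul_one, ht]
  exact one_ne_zero

end CfsgLib.OrthField
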