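import Cfsg.Agent.OrthField.Setup
import Cfsg.Agent.Quad.OmegaSum

/-!
Coordinates for a hyperbolic pair over the larger field; Siegel transformations over the larger field in the
overgroup; long root maps; elements moving the centre.
-/

set_option autoImplicit false
set_option linter.unusedSectionVars false
set_option linter.unusedVariables false
set_option linter.style.haveILetI false

namespace CfsgLib.OrthField

open QuadraticMap CfsgLib.Forms CfsgLib.Quad Module

variable {F : Type*} [Field F] [Finite F] {K : Type*} [Field K] [Finite K] [Algebra F K]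
  {V : Type*} [AddCommGroup V] [Module F V] [Module K V] [IsScalarTower F K V] [Finite V]
  {Q : QuadraticForm F V} {P : QuadraticForm K V}

/-- A singular pair with product one. -/
structure Frame (P : QuadraticForm K V) (e f : V) : Prop where
  he : P e = 0
  hf : P f = 0
  hef : polar P e f = 1

namespace Frame

variable {e f : V} (hfr : Frame P e f)

include hfr

theorem hfe : polar P f e = 1 := by rw [polar_comm, hfr.hef]

theorem hee : polar P e e = 0 := by rw [polar_self, hfr.he, smul_zero]

theorem hff : polar P f f = 0 := by rw [polar_self, hfr.hf, smul_zero]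

theorem symm : Frame P f e := ⟨hfr.hf, hfr.he, hfr.hfe⟩

theorem e_ne : e ≠ 0 := fun h => by
  have := hfr.hef
  rw [h, polar_zero_left] at this
  exact zero_ne_one this

end Frame

/-- The component orthogonal to the pair. -/
def mid (P : QuadraticForm K V) (e f : V) (x : V) : V := x - polar P x f • e - polar P x e • f

namespace Frame

variable {e f : V} (hfr : Frame P e f)

include hfr

theorem decomp (x : V) : x = polar P x f • e + mid P e f x + polar P x e • f := by rw [mid]; abel

theorem mid_e (x : V) : polar P e (mid P e f x) = 0 := by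
  rw [mid, polar_sub_right, polar_sub_right, polar_smul_right, polar_smul_right, hfr.hee, hfr.hef,
    smul_zero, sub_zero, smul_eq_mul, mul_one, polar_comm (⇑P) e x, sub_self]

theorem mid_f (x : V) : polar P f (mid P e f x) = 0 := by
  rw [mid, polar_sub_right, polar_sub_right, polar_smul_right, polar_smul_right, hfr.hff, hfr.hfe,
    smul_zero, sub_zero, smul_eq_mul, mul_one, polar_comm (⇑P) f x, sub_self]

theorem mid_of_perp {y : V} (h1 : polar P e y = 0) (h2 : polar P f y = 0) : mid P e f y = y := by
  rw [mid, polar_comm (⇑P) y f, h2, polar_comm (⇑P) y e, h1, zero_smul, zero_smul, sub_zero, sub_zero]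

theorem mid_add (x y : V) : mid P e f (x + y) = mid P e f x + mid P e f y := by
  simp only [mid, polar_add_left, add_smul]; abel

theorem mid_smul (c : K) (x : V) : mid P e f (c • x) = c • mid P e f x := by
  simp only [mid, polar_smul_left, smul_eq_mul, mul_smul, smul_sub]

theorem mid_self : mid P e f e = 0 := by
  rw [mid, hfr.hef, hfr.hee, one_smul, zero_smul, sub_self, sub_zero]

theorem mid_self' : mid P e f f = 0 := by
  rw [mid, hfr.hff, hfr.hfe, one_smul, zero_smul, sub_zero, sub_self]

theorem quad_eq (x : V) : P x = polar P x f * polar P x e + P (mid P e f x) := by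
  conv_lhs => rw [hfr.decomp x]
  rw [quad_add, quad_add, quad_smul, quad_smul, hfr.he, hfr.hf, polar_add_left, polar_smul_left,
    polar_smul_left, polar_smul_right, polar_smul_right, hfr.hef, polar_comm (⇑P) (mid P e f x) f,
    hfr.mid_f, hfr.mid_e]
  simp only [smul_eq_mul]
  ring

theorem polar_eq (x y : V) : polar P x y =
    polar P x f * polar P y e + polar P x e * polar P y f + polar P (mid P e f x) (mid P e f y) := by
  conv_lhs => rw [hfr.decomp y]
  have h : polar P x (mid P e f y) = polar P (mid P e f x) (mid P e f y) := by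
    conv_lhs => rw [hfr.decomp x]
    rw [polar_add_left, polar_add_left, polar_smul_left, polar_smul_left, hfr.mid_e, hfr.mid_f,
      smul_zero, smul_zero, zero_add, add_zero]
  rw [polar_add_right, polar_add_right, polar_smul_right, polar_smul_right, h]
  simp only [smul_eq_mul]
  ring

end Frame

variable (hF : Fld Q P)

include hF

theorem Fld.exists_frame {e : V} (he0 : e ≠ 0) (he : P e = 0) : ∃ f, Frame P e f := by
  obtain ⟨f, hf, hef⟩ := hF.exists_partner he0 he
  exact ⟨f, he, hf, hef⟩

theorem Fld.exists_singular : ∃ e : V, e ≠ 0 ∧ P e = 0 := by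
  obtain ⟨z, -, hz0, hz⟩ := exists_singular_of_three (Q := P) (⊤ : Submodule K V) (by
    rw [finrank_top]; exact hF.three)
  exact ⟨z, hz0, hz⟩

/-- Orthogonality to a whole line over the larger field. -/
theorem Fld.perp_line {e x : V} : (∀ k : K, polar Q (k • e) x = 0) ↔ polar P e x = 0 := by
  constructor
  · intro h
    refine eq_of_trace (F := F) fun k => ?_
    rw [← hF.polar_smul_tr, h, mul_zero, map_zero]
  · intro h k
    rw [hF.polar_smul_tr, h, mul_zero, map_zero]

/-- Degree two and four dimensions: the middle has no singular vector. -/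
theorem Fld.mid_aniso (hr2 : finrank F K = 2) (hk : finrank K V = 4) {e f : V} (hfr : Frame P e f) {y : V}
    (h1 : polar P e y = 0) (h2 : polar P f y = 0) (hy : P y = 0) : y = 0 := by
  obtain ⟨c, rfl⟩ := Submodule.mem_span_singleton.1 (hF.four hr2 hk e y hfr.he hy h1 hfr.e_ne)
  rw [polar_smul_right, hfr.hfe, smul_eq_mul, mul_one] at h2
  rw [h2, zero_smul]

/-- With four dimensions the middle takes every value. -/
theorem Fld.exists_mid_value (hk : 4 ≤ finrank K V) {e f : V} (hfr : Frame P e f) (x : K) :
    ∃ y, polar P e y = 0 ∧ polar P f y = 0 ∧ P y = x := by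
  obtain ⟨u, hu, heu, hfu⟩ := hF.exists_aniso_perp hfr.he hfr.hf (by rw [hfr.hef]; exact one_ne_zero)
  set U := Submodule.span K (Set.range ![e, f, u]) with hUd
  have hU : finrank K U ≤ 3 := (finrank_range_le_card _).trans (by simp)
  have hm : ∀ i : Fin 3, ![e, f, u] i ∈ U := fun i => Submodule.subset_span ⟨i, rfl⟩
  obtain ⟨u', hu', hu'U⟩ : ∃ u', P u' ≠ 0 ∧ u' ∈ perpS P U := by
    by_contra hc
    push Not at hc
    have hsing : ∀ z ∈ perpS P U, P z = 0 := fun z hz => by
      by_contra hzz
      exact hc z hzz hz
    have hle : perpS P U ≤ perpS P (perpS P U) := fun a ha b hb => by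
      simp only [polar, hsing _ (Submodule.add_mem _ hb ha), hsing a ha, hsing b hb, sub_zero]
    rw [perpS_perpS hF.ndP] at hle
    have h1 := finrank_perpS hF.ndP U
    obtain ⟨z, hz, hz0⟩ := Submodule.exists_mem_ne_zero_of_ne_bot (p := perpS P U) (fun h => by
      rw [h, finrank_bot] at h1; omega)
    obtain ⟨c, hc'⟩ := (Submodule.mem_span_range_iff_exists_fun K).1 (hle hz)
    simp only [Fin.sum_univ_three, Matrix.cons_val] at hc'
    have c0 := hz e (hm 0)
    have c1 := hz f (hm 1)
    have c2 := hz u (hm 2)
    rw [← hc'] at c0 c1 c2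
    simp only [polar_add_right, polar_smul_right, hfr.hee, hfr.hef, hfr.hfe, hfr.hff, heu, hfu,
      polar_comm (⇑P) u e, polar_comm (⇑P) u f, smul_eq_mul, mul_zero, mul_one, add_zero, zero_add] at c0 c1 c2
    rw [polar_self, nsmul_eq_mul, Nat.cast_ofNat] at c2
    exact hz0 (by rw [← hc', c0, c1, (mul_eq_zero.1 c2).resolve_right (mul_ne_zero hF.two' hu), zero_smul,
      zero_smul, zero_smul, add_zero, add_zero])
  obtain ⟨a, b, hab⟩ := CfsgLib.Forms.exists_binary hF.two' hu hu' x
  refine ⟨a • u + b • u', ?_, ?_, ?_⟩
  · rw [polar_add_right, polar_smul_right, polar_smul_right, heu, hu'U e (hm 0), smul_zero, smul_zero,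
      add_zero]
  · rw [polar_add_right, polar_smul_right, polar_smul_right, hfu, hu'U f (hm 1), smul_zero, smul_zero,
      add_zero]
  · rw [quad_add, quad_smul, quad_smul, polar_smul_left, polar_smul_right, hu'U u (hm 2), smul_zero,
      smul_zero, add_zero]
    linear_combination hab

theorem Fld.p_prime : (ringChar F).Prime := by
  haveI := ringChar.charP F
  exact CharP.char_is_prime F (ringChar F)

theorem Fld.p_ne_two : ringChar F ≠ 2 := fun h => hF.two (by
  have := ringChar.Nat.cast_ringChar (R := F)
  rw [h] at this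
  exact_mod_cast this)

theorem Fld.p_odd : Odd (ringChar F) := hF.p_prime.odd_of_ne_two hF.p_ne_two

theorem Fld.nsmul_p (x : V) : ringChar F • x = 0 := by
  rw [← Nat.cast_smul_eq_nsmul F, ringChar.Nat.cast_ringChar, zero_smul]

theorem Fld.finrank_pos' : 2 ≤ finrank F V := by have := hF.big; omega

/-- Elements of odd order lie in the commutator subgroup. -/
theorem Fld.mem_omega_of_odd {g : oGroup Q} {n : ℕ} (hn : Odd n) (hg : g ^ n = 1) :
    g ∈ commutator (oGroup Q) := by
  obtain ⟨w, rfl⟩ := hn
  have h : g = g ^ (w + 1) * g ^ (w + 1) := by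
    rw [← pow_add, show w + 1 + (w + 1) = 2 * w + 1 + 1 by omega, pow_succ, hg, one_mul]
  rw [h]
  exact sq_mem_commutator hF.ndQ (Or.inr (by have := hF.big; omega)) _

/-- A perpendicular vector is a sum of two anisotropic perpendicular vectors. -/
theorem Fld.exists_aniso_split {e f : V} (hfr : Frame P e f) {y : V} (h1 : polar P e y = 0)
    (h2 : polar P f y = 0) :
    ∃ a b, P a ≠ 0 ∧ P b ≠ 0 ∧ polar P e a = 0 ∧ polar P f a = 0 ∧ polar P e b = 0 ∧ polar P f b = 0 ∧
      a + b = y := by
  obtain ⟨z, hz, hez, hfz⟩ := hF.exists_aniso_perp hfr.he hfr.hf (by rw [hfr.hef]; exact one_ne_zero)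
  have hnz : P (-z) ≠ 0 := by rwa [QuadraticMap.map_neg]
  by_cases hy : P y = 0
  swap
  · refine ⟨(2 : K)⁻¹ • y, (2 : K)⁻¹ • y, ?_, ?_, ?_, ?_, ?_, ?_, ?_⟩
    any_goals
      rw [quad_smul]
      exact mul_ne_zero (mul_ne_zero (inv_ne_zero hF.two') (inv_ne_zero hF.two')) hy
    any_goals rw [polar_smul_right, h1, smul_zero]
    any_goals rw [polar_smul_right, h2, smul_zero]
    rw [← add_smul, ← two_mul, mul_inv_cancel₀ hF.two', one_smul]
  by_cases h : P (y + z) = 0
  · refine ⟨y - z, z, fun h' => ?_, hz, ?_, ?_, hez, hfz, sub_add_cancel y z⟩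
    · rw [quad_add, hy] at h
      rw [sub_eq_add_neg, quad_add, hy, QuadraticMap.map_neg, polar_neg_right] at h'
      exact hz (mul_left_cancel₀ hF.two' (by rw [mul_zero]; linear_combination h + h'))
    · rw [polar_sub_right, h1, hez, sub_zero]
    · rw [polar_sub_right, h2, hfz, sub_zero]
  · refine ⟨y + z, -z, h, hnz, ?_, ?_, by rw [polar_neg_right, hez, neg_zero],
      by rw [polar_neg_right, hfz, neg_zero], add_neg_cancel_right y z⟩
    · rw [polar_add_right, h1, hez, add_zero]
    · rw [polar_add_right, h2, hfz, add_zero]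

end CfsgLib.OrthField
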