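import Cfsg.Agent.OrthField.Supports

/-!
A non-zero long root map makes every skew map a long root map, at both ends of a hyperbolic pair.
-/

set_option autoImplicit false
set_option linter.unusedSectionVars false
set_option linter.unusedVariables false
set_option linter.style.haveILetI false

namespace CfsgLib.OrthField

open QuadraticMap CfsgLib.Forms CfsgLib.Quad Module CfsgLib.FieldMax

variable {F : Type*} [Field F] [Finite F] {K : Type*} [Field K] [Finite K] [Algebra F K]
  {V : Type*} [AddCommGroup V] [Module F V] [Module K V] [IsScalarTower F K V] [Finite V]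
  {Q : QuadraticForm F V} {P : QuadraticForm K V}

theorem skew_scale {g : K →ₗ[F] K} (hg : Skew g) (c : K) :
    Skew (((LinearMap.mulLeft F c).comp g).comp (LinearMap.mulLeft F c)) := fun t => by
  simp only [LinearMap.comp_apply, LinearMap.mulLeft_apply]
  rw [show t * (c * g (c * t)) = c * t * g (c * t) by ring]
  exact hg _

variable (hF : Fld Q P) {M : Subgroup (oGroup Q)} (hM : Over K M)

include hF hM

/-- The torus element of a square. -/
theorem Fld.exists_torus {e f : V} (hfr : Frame P e f) {c : K} (hc : c ≠ 0) (hsq : IsSquare c) :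
    ∃ b, Levi M P e f b ∧ gam P e f b = LinearMap.mulLeft F c⁻¹ := by
  have hne1 : P (e - (1 : K) • f) ≠ 0 := by rw [hF.quad_swap hfr]; exact neg_ne_zero.2 one_ne_zero
  have hne2 : P (e - c⁻¹ • f) ≠ 0 := by rw [hF.quad_swap hfr]; exact neg_ne_zero.2 (inv_ne_zero hc)
  have hmem : refl P (e - c⁻¹ • f) * refl P (e - (1 : K) • f) ∈ commutator (oGroup P) :=
    refl_pair_mem_commutator hF.ndP hne2 hne1 (by
      rw [hF.quad_swap hfr, hF.quad_swap hfr, neg_mul_neg, mul_one]; exact hsq.inv)
  set T := refl P (e - c⁻¹ • f) * refl P (e - (1 : K) • f)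
  have hfix : ∀ (s : K) y, polar P e y = 0 → polar P f y = 0 → (refl P (e - s • f)).1 y = y := by
    intro s y h1 h2
    rw [refl_apply, polar_sub_right, polar_smul_right, polar_comm (⇑P) y e, h1, polar_comm (⇑P) y f, h2,
      smul_zero, sub_zero, mul_zero, zero_smul, add_zero]
  have hTe : T.1 e = c • e := by
    show (refl P (e - c⁻¹ • f)).1 ((refl P (e - (1 : K) • f)).1 e) = _
    rw [hF.refl_swap_e hfr one_ne_zero, hF.refl_swap_f hfr (inv_ne_zero hc), one_div, inv_inv]
  refine ⟨hF.res T, ⟨hF.res_mem hM hmem, fun y h1 h2 => ?_, fun k => ⟨k * c, ?_⟩⟩, LinearMap.ext fun t => ?_⟩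
  · show (refl P (e - c⁻¹ • f)).1 ((refl P (e - (1 : K) • f)).1 y) = y
    rw [hfix 1 y h1 h2, hfix c⁻¹ y h1 h2]
  · rw [hF.res_apply, LinearEquiv.map_smul T.1, hTe, smul_smul]
  · rw [gam_apply, hF.res_apply, LinearMap.mulLeft_apply]
    show polar P ((refl P (e - c⁻¹ • f)).1 ((refl P (e - (1 : K) • f)).1 (t • f))) e = _
    rw [hF.refl_swap_f hfr one_ne_zero, LinearEquiv.map_smul (refl P (e - c⁻¹ • f)).1,
      hF.refl_swap_e hfr (inv_ne_zero hc), polar_smul_left, polar_smul_left, hfr.hfe, div_one, smul_eq_mul,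
      smul_eq_mul, mul_one, mul_comm]

/-- A component of the action of a Levi element is a component of a long root map. -/
theorem Fld.component_long (hr2 : finrank F K ≠ 2) {e f : V} (hfr : Frame P e f) {b : oGroup Q}
    (hb : Levi M P e f b) {τ : K →ₐ[F] K} (hτ : τ ≠ AlgHom.id F K)
    (hc : (autBasis F K).repr (gam P e f b) τ ≠ 0) : ∀ t, skewPair τ t ∈ longs M hfr.he := by
  obtain ⟨z, hz, hez, hfz⟩ := hF.exists_aniso_perp hfr.he hfr.hf (by rw [hfr.hef]; exact one_ne_zero)
  have hu := hF.uK_mem hM hfr.he hez hz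
  set b' := b⁻¹ with hb'
  have hb'L : Levi M P e f b' := hb.inv hfr.e_ne
  set h := b' * hF.uK e z * b'⁻¹ with hh
  have hhM : h ∈ M := mul_mem (mul_mem hb'L.mem hu) (inv_mem hb'L.mem)
  have hh' : ∀ x, h.1 x = b'.1 ((hF.uK e z).1 (b.1 x)) := fun x => by rw [hh, hb', inv_inv]; rfl
  have hue : ∀ k : K, (hF.uK e z).1 (k • e) = k • e := fun k => by
    rw [hF.uK_apply hfr.he hez, polar_smul_left, polar_smul_left, hez, hfr.hee, smul_zero, zero_smul,
      mul_zero, add_zero, add_zero, zero_smul, sub_zero]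
  have hrad : IsRad P e h := by
    constructor
    · intro k
      obtain ⟨k', hk'⟩ := hb.stab k
      rw [hh', hk', hue, ← hk']
      exact LinearEquiv.symm_apply_apply _ _
    · intro x hx
      have hy : polar P e (b.1 x) = 0 := (hF.stab_perp hfr.e_ne hb.stab).1 hx
      obtain ⟨k', hk'⟩ := hb'L.stab (-(polar P (b.1 x) z))
      refine ⟨k', ?_⟩
      rw [hh', hF.uK_apply hfr.he hez, polar_comm (⇑P) (b.1 x) e, hy, zero_smul, add_zero, mul_zero,
        add_zero, sub_eq_add_neg, ← neg_smul, map_add, hk']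
      exact congrArg (· + k' • e) (LinearEquiv.symm_apply_apply _ _)
  -- the two coefficients
  set γ := gam P e f b
  set α := alph P e f b'
  have hhf : ∀ t : K, polar P (h.1 (t • f)) z = γ t * polar P z z := by
    intro t
    have hbx : mid P e f (b.1 (t • f)) = 0 := hF.mid_zero hfr fun y h1 h2 => by
      rw [polar_comm]
      refine hF.perp_line.1 fun c => ?_
      rw [← hb.fix (c • y) (by rw [polar_smul_right, h1, smul_zero]) (by rw [polar_smul_right, h2, smul_zero]),
        polar_oGroup, hF.polar_smul_tr, polar_smul_right, polar_comm (⇑P) y f, h2, smul_zero, mul_zero, map_zero]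
    have hd : b.1 (t • f) = polar P (b.1 (t • f)) f • e + γ t • f := by
      conv_lhs => rw [hfr.decomp (b.1 (t • f)), hbx, add_zero]
      rfl
    have hmid : ∀ c : K, b'.1 (c • z) = c • z := fun c =>
      hb'L.fix _ (by rw [polar_smul_right, hez, smul_zero]) (by rw [polar_smul_right, hfz, smul_zero])
    obtain ⟨k', hk'⟩ := hb'L.stab (-(polar P (b.1 (t • f)) z + P z * γ t))
    rw [hh', hF.uK_apply hfr.he hez, show polar P (b.1 (t • f)) e = γ t from rfl, sub_eq_add_neg, ← neg_smul,
      map_add, map_add, show b'.1 (b.1 (t • f)) = t • f from LinearEquiv.symm_apply_apply _ _, hmid, hk',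
      polar_add_left, polar_add_left, polar_smul_left, polar_smul_left, polar_smul_left, hfz, hez, smul_zero,
      smul_zero, zero_add, add_zero, smul_eq_mul]
  have hhz : ∀ t : K, polar P (h.1 (t • z)) f = -α (t * polar P z z) := by
    intro t
    have h1 : polar P e (t • z) = 0 := by rw [polar_smul_right, hez, smul_zero]
    have h2 : polar P f (t • z) = 0 := by rw [polar_smul_right, hfz, smul_zero]
    rw [hh', hb.fix _ h1 h2, hF.uK_apply hfr.he hez, polar_comm (⇑P) (t • z) e, h1, zero_smul, add_zero,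
      mul_zero, add_zero, polar_smul_left, map_sub, hb'L.fix _ h1 h2, polar_sub_left, polar_comm (⇑P) (t • z) f,
      h2, zero_sub, hF.stab_alph hfr hb'L.stab, polar_smul_left, hfr.hef, smul_eq_mul, smul_eq_mul, mul_one]
  -- all scalings
  have key : ∀ c : K, ∃ g ∈ longs M hfr.he, ∀ t, g t = c * γ t - α (t * c) := by
    intro c
    have hzz : polar P z z ≠ 0 := by
      rw [polar_self, nsmul_eq_mul, Nat.cast_ofNat]; exact mul_ne_zero hF.two' hz
    obtain ⟨g, hg, hgt⟩ := hF.comm_long hM hfr hhM hrad (z := (c / polar P z z) • z)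
      (by rw [polar_smul_right, hez, smul_zero]) (by rw [polar_smul_right, hfz, smul_zero])
    refine ⟨g, hg, fun t => ?_⟩
    rw [hgt, smul_smul, hhz, polar_smul_right, hhf, smul_eq_mul,
      show t * (c / polar P z z) * polar P z z = t * c by rw [mul_assoc, div_mul_cancel₀ _ hzz]]
    field_simp
    ring
  -- some member has the component
  obtain ⟨c, g, hg, hgc⟩ : ∃ c : K, ∃ g ∈ longs M hfr.he, (autBasis F K).repr g τ ≠ 0 := by
    by_contra hno
    push Not at hno
    have hzero : ∀ c, c * (autBasis F K).repr γ τ = τ c * (autBasis F K).repr α τ := by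
      intro c
      obtain ⟨g, hg, hgt⟩ := key c
      have he : g = c • γ - α.comp (LinearMap.mulLeft F c) := LinearMap.ext fun t => by
        rw [hgt, LinearMap.sub_apply, LinearMap.smul_apply, LinearMap.comp_apply, LinearMap.mulLeft_apply,
          smul_eq_mul, mul_comm t c]
      have h := hno c g hg
      rw [he, map_sub, Finsupp.sub_apply, map_smul, Finsupp.smul_apply, smul_eq_mul, autBasis_repr_compMul,
        sub_eq_zero] at h
      exact h
    obtain ⟨k, hk⟩ : ∃ k, τ k ≠ k := by
      by_contra hno'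
      push Not at hno'
      exact hτ (AlgHom.ext hno')
    have h1 := hzero 1
    rw [map_one, one_mul, one_mul] at h1
    have h2 := hzero k
    rw [← h1] at h2
    exact hk (mul_right_cancel₀ hc h2.symm)
  exact pairs_of_component hF.two hF.prime hr2 (fun g hg => hF.skew_longs hfr.e_ne hfr.he hg)
    (fun g hg c hc hsq => hF.longs_square hM hfr hg hc hsq) hg hτ hgc

/-- The supports of the actions are closed under composition. -/
theorem Fld.support_comp {e f : V} (hfr : Frame P e f) {a b : oGroup Q} (ha : Levi M P e f a)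
    (hb : Levi M P e f b) {φ ψ : K →ₐ[F] K} (hφ : (autBasis F K).repr (gam P e f a) φ ≠ 0)
    (hψ : (autBasis F K).repr (gam P e f b) ψ ≠ 0) :
    ∃ d, Levi M P e f d ∧ (autBasis F K).repr (gam P e f d) (φ.comp ψ) ≠ 0 := by
  classical
  haveI : Fintype (K →ₐ[F] K) := Fintype.ofFinite _
  by_contra hno
  push Not at hno
  set γ := gam P e f a with hγ
  set γ' := gam P e f b with hγ'
  have hL : ∀ c : K, (autBasis F K).repr ((γ.comp (LinearMap.mulLeft F c)).comp γ') (φ.comp ψ) = 0 := by
    intro c
    refine hF.sq_induction (p := fun c => (autBasis F K).repr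
      ((γ.comp (LinearMap.mulLeft F c)).comp γ') (φ.comp ψ) = 0) (fun u v hu hv => ?_) (fun x => ?_) c
    · have he : (γ.comp (LinearMap.mulLeft F (u + v))).comp γ' =
          (γ.comp (LinearMap.mulLeft F u)).comp γ' + (γ.comp (LinearMap.mulLeft F v)).comp γ' :=
        LinearMap.ext fun t => by simp [add_mul]
      rw [he, map_add, Finsupp.add_apply, hu, hv, add_zero]
    · by_cases hx : x = 0
      · subst hx; simp
      obtain ⟨T, hT, hTg⟩ := hF.exists_torus hM hfr (c := (x * x)⁻¹) (inv_ne_zero (mul_ne_zero hx hx))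
        (IsSquare.mul_self x).inv
      have h := hno (a * T * b) ((ha.mul hT).mul hb)
      rw [hF.gam_comp hfr (ha.stab.mul hT.stab), hF.gam_comp hfr ha.stab, hTg, inv_inv] at h
      exact h
  set d := fun φ' : K →ₐ[F] K => (autBasis F K).repr γ φ' * (autBasis F K).repr (φ'.toLinearMap.comp γ') (φ.comp ψ)
  have hsum : ∑ φ' : K →ₐ[F] K, d φ' • φ'.toLinearMap = 0 := by
    refine LinearMap.ext fun c => ?_
    rw [LinearMap.zero_apply, ← hL c]
    have he : (γ.comp (LinearMap.mulLeft F c)).comp γ' =
        ∑ φ' : K →ₐ[F] K, ((autBasis F K).repr γ φ' * φ' c) • φ'.toLinearMap.comp γ' := by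
      refine LinearMap.ext fun t => ?_
      conv_lhs => rw [← (autBasis F K).sum_repr γ]
      simp [mul_assoc]
    rw [he, map_sum, Finsupp.finsetSum_apply, LinearMap.coe_sum, Finset.sum_apply]
    exact Finset.sum_congr rfl fun φ' _ => by
      simp only [LinearMap.smul_apply, AlgHom.toLinearMap_apply, smul_eq_mul, map_smul, Finsupp.smul_apply, d]
      ring
  have h := congrArg (fun g => (autBasis F K).repr g φ) hsum
  simp only [map_sum, Finsupp.finsetSum_apply, autBasis_repr_smul, Finset.sum_ite_eq', Finset.mem_univ, if_pos,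
    map_zero, Finsupp.zero_apply, d, comp_autBasis_right] at h
  exact mul_ne_zero hφ (fun h' => hψ (φ.toRingHom.injective (h'.trans (map_zero φ).symm))) h

/-- Every skew map is a long root map at both centres. -/
theorem Fld.full_longs {e f : V} (hfr : Frame P e f) {g₀ : K →ₗ[F] K} (hg₀ : g₀ ∈ longs M hfr.he)
    (hne : g₀ ≠ 0) :
    (∀ g, Skew g → g ∈ longs M hfr.he) ∧ (∀ g, Skew g → g ∈ longs M hfr.hf) := by
  classical
  suffices he : ∀ g, Skew g → g ∈ longs M hfr.he by
    refine ⟨he, fun g hg => ?_⟩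
    obtain ⟨s, hs, hswap⟩ := hF.exists_longs_swap hM hfr
    have := hswap _ (he _ (skew_scale hg s⁻¹))
    convert this using 1
    exact LinearMap.ext fun t => by simp [hs]
  by_cases hr2 : finrank F K = 2
  · exact fun g hg => hF.full_two hM hr2 hfr hg₀ hne hg
  obtain ⟨σ, hσ, hpe, hpf⟩ := hF.exists_pairs hM hr2 hfr hg₀ hne
  suffices hall : ∀ τ : K →ₐ[F] K, τ ≠ AlgHom.id F K → ∀ t, skewPair τ t ∈ longs M hfr.he from
    fun g hg => mem_of_pairs hF.two hall hg
  by_cases hr3 : finrank F K = 3
  · intro τ hτ t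
    by_cases h1 : τ = σ
    · exact h1 ▸ hpe t
    have h2 : τ = ainv σ := by
      by_contra h2
      have hne' : ainv σ ≠ σ := fun h => hr2 (ainv_eq_self hF.prime hσ h)
      have h4 : ({AlgHom.id F K, σ, ainv σ, τ} : Set (K →ₐ[F] K)).ncard = 4 := by
        have hid : AlgHom.id F K ≠ ainv σ := fun h => hσ (ainv_eq_id h.symm)
        rw [Set.ncard_insert_of_notMem (by simp [hid, Ne.symm hσ, Ne.symm hτ]),
          Set.ncard_insert_of_notMem (by simp [Ne.symm hne', Ne.symm h1]),
          Set.ncard_pair (Ne.symm h2)]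
      have h5 := Set.ncard_le_card ({AlgHom.id F K, σ, ainv σ, τ} : Set (K →ₐ[F] K))
      rw [card_algHom, hr3] at h5
      omega
    rw [h2, skewPair_ainv]
    exact neg_mem (hpe _)
  have hr5 : 5 ≤ finrank F K := by
    have h2' := hF.prime.two_le
    rcases Nat.lt_or_ge (finrank F K) 5 with h | h
    · exfalso
      have h4 : finrank F K = 4 := by omega
      exact absurd (h4 ▸ hF.prime) (by norm_num)
    · exact h
  obtain ⟨b, hb, hbns⟩ := hF.exists_nonsemi_stab hM hr5 hfr hσ hpe hpf
  -- some non-trivial component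
  obtain ⟨τ, hτ, hτc⟩ : ∃ τ : K →ₐ[F] K, τ ≠ AlgHom.id F K ∧ (autBasis F K).repr (gam P e f b) τ ≠ 0 := by
    refine exists_component fun c hc => hbns ?_
    have h1 : ∀ s t : K, Algebra.trace F K (alph P e f b s * (c * t)) = Algebra.trace F K (s * t) := fun s t => by
      have := hF.levi_adj hfr hb.stab s t
      rwa [hc, LinearMap.mulLeft_apply] at this
    have hc0 : c ≠ 0 := fun h => by
      obtain ⟨x, hx⟩ := Algebra.trace_surjective F K 1
      have := h1 1 x
      rw [h, zero_mul, mul_zero, map_zero, one_mul, hx] at this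
      exact zero_ne_one this
    refine ⟨c⁻¹, AlgHom.id F K, fun s => ?_⟩
    rw [hF.stab_alph hfr hb.stab]
    congr 1
    refine eq_of_trace (F := F) fun t => ?_
    have := h1 s (t / c)
    rw [mul_div_cancel₀ _ hc0] at this
    rw [AlgHom.id_apply, mul_comm t, this]
    congr 1
    field_simp
  intro ρ hρ
  obtain ⟨j, rfl⟩ := exists_pow_eq hF.prime hτ ρ
  have : ∀ j : ℕ, 1 ≤ j → ∃ d, Levi M P e f d ∧ (autBasis F K).repr (gam P e f d) (τ ^ j) ≠ 0 := by
    intro j hj
    induction j with
    | zero => omega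
    | succ j ih =>
      rcases Nat.eq_zero_or_pos j with rfl | hpos
      · rw [zero_add, pow_one]; exact ⟨b, hb, hτc⟩
      · obtain ⟨d, hd, hdc⟩ := ih hpos
        rw [pow_succ]
        exact hF.support_comp hM hfr hd hb hdc hτc
  obtain ⟨d, hd, hdc⟩ := this j (by
    by_contra h
    apply hρ
    rw [show j = 0 by omega, pow_zero]; rfl)
  exact hF.component_long hM hr2 hfr hd hρ hdc

end CfsgLib.OrthField
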