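import Cfsg.Agent.OrthField.DirectionMap

/-!
Two linear coordinate maps of a field with product of constant quadratic class and zero trace are impossible.
-/

set_option autoImplicit false
set_option linter.unusedSectionVars false
set_option linter.style.haveILetI false

namespace CfsgLib.OrthField

open Module

variable {F : Type*} [Field F] [Finite F] {K : Type*} [Field K] [Finite K] [Algebra F K]

theorem two_ne_K (h2 : (2 : F) ≠ 0) : (2 : K) ≠ 0 := fun h => h2 ((algebraMap F K).injective (by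
  rw [map_ofNat, map_zero, h]))

theorem ringChar_ne_two_of {L : Type*} [Field L] (h2 : (2 : L) ≠ 0) : ringChar L ≠ 2 := fun h => h2 (by
  have := ringChar.Nat.cast_ringChar (R := L)
  rw [h] at this
  exact_mod_cast this)

/-- The product of two non-squares is a square. -/
theorem sq_of_nonsq {L : Type*} [Field L] [Finite L] {a b : L} (ha : ¬ IsSquare a) (hb : ¬ IsSquare b) :
    IsSquare (a * b) := by
  classical
  haveI := Fintype.ofFinite L
  by_cases h2 : (2 : L) = 0
  · haveI : CharP L 2 := CharTwo.of_one_ne_zero_of_two_eq_zero one_ne_zero h2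
    exact absurd (FiniteField.isSquare_of_char_two (ringChar.eq L 2) a) ha
  have hc := ringChar_ne_two_of h2
  have ha0 : a ≠ 0 := fun h => ha (h ▸ IsSquare.zero)
  have hb0 : b ≠ 0 := fun h => hb (h ▸ IsSquare.zero)
  have e1 := (FiniteField.pow_dichotomy hc ha0).resolve_left fun h => ha ((FiniteField.isSquare_iff hc ha0).2 h)
  have e2 := (FiniteField.pow_dichotomy hc hb0).resolve_left fun h => hb ((FiniteField.isSquare_iff hc hb0).2 h)
  rw [FiniteField.isSquare_iff hc (mul_ne_zero ha0 hb0), mul_pow, e1, e2, neg_mul_neg, one_mul]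

theorem nonsq_algebraMap (hodd : Odd (finrank F K)) {a : F} (ha : ¬ IsSquare a) :
    ¬ IsSquare (algebraMap F K a) := fun h => ha (by
  have h1 := h.map (Algebra.norm F : K →* F)
  rw [Algebra.norm_algebraMap] at h1
  obtain ⟨j, hj⟩ := hodd
  rw [hj] at h1
  obtain ⟨t, ht⟩ := h1
  have ha0 : a ≠ 0 := fun h => ha (h ▸ IsSquare.zero)
  exact ⟨t / a ^ j, by field_simp; linear_combination ht⟩)

/-- One coordinate with a kernel. -/
theorem no_kernel (h2 : (2 : F) ≠ 0) (hodd : Odd (finrank F K)) (hne : finrank F K ≠ 1)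
    {α β : K →ₗ[F] K} {d : K}
    (hcl : ∀ k, α k * β k ≠ 0 → ¬ IsSquare (α k * β k * d))
    (hinj : ∀ k, α k = 0 → β k = 0 → k = 0)
    (hker : ∀ k k', k ≠ 0 → β k = 0 → β k' = 0 → ∃ s : F, k' = s • k) :
    ∀ k, β k = 0 → k = 0 := by
  intro k0 hk0
  by_contra hk00
  obtain ⟨ν, hν⟩ : ∃ ν : F, ¬ IsSquare ν := FiniteField.exists_nonsquare (ringChar_ne_two_of h2)
  have hν0 : ν ≠ 0 := fun h => hν (h ▸ IsSquare.zero)
  have hν' : ¬ IsSquare (algebraMap F K ν) := nonsq_algebraMap hodd hν
  set α0 := α k0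
  have hα0 : α0 ≠ 0 := fun h => hk00 (hinj _ h hk0)
  have hαinj : Function.Injective α := by
    rw [injective_iff_map_eq_zero]
    intro k1 hk1
    by_contra hk10
    have hb1 : β k1 ≠ 0 := fun h => hk10 (hinj _ hk1 h)
    have key : ∀ s : F, s ≠ 0 → ¬ IsSquare (algebraMap F K s * (α0 * β k1 * d)) := by
      intro s hs
      have hne0 : algebraMap F K s * α0 * β k1 ≠ 0 :=
        mul_ne_zero (mul_ne_zero (by simpa using hs) hα0) hb1
      have h := hcl (s • k0 + k1)
      rw [map_add, map_add, map_smul, map_smul, hk1, hk0, smul_zero, zero_add, add_zero,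
        Algebra.smul_def] at h
      have h' := h hne0
      rwa [show algebraMap F K s * (α0 * β k1 * d) = algebraMap F K s * α0 * β k1 * d by ring]
    have h1 := key 1 one_ne_zero
    have hν1 := key ν hν0
    rw [map_one, one_mul] at h1
    refine hν' ?_
    have := sq_of_nonsq hν1 h1
    obtain ⟨t, ht⟩ := this
    have hC : α0 * β k1 * d ≠ 0 := fun h => h1 (h ▸ IsSquare.zero)
    have hd : d ≠ 0 := right_ne_zero_of_mul hC
    exact ⟨t / (α0 * β k1 * d), by field_simp; linear_combination ht⟩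
  have hαsurj := Finite.injective_iff_surjective.1 hαinj
  obtain ⟨z, hz⟩ : ∃ z : K, ∀ s : F, algebraMap F K s ≠ z := by
    by_contra hc
    push Not at hc
    have : Nat.card K ≤ Nat.card F := Nat.card_le_card_of_surjective (algebraMap F K) hc
    rw [Module.natCard_eq_pow_finrank (K := F) (V := K)] at this
    have h2 : 1 < Nat.card F := Finite.one_lt_card
    have := (Nat.pow_le_pow_iff_right h2).1 (this.trans_eq (pow_one _).symm)
    have := Module.finrank_pos (R := F) (M := K)
    omega
  have hz0 : z ≠ 0 := fun h => hz 0 (by rw [map_zero, h])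
  -- the class of a shifted element is constant
  have shift : ∀ z : K, (∀ s : F, algebraMap F K s ≠ z) → ∀ s : F, IsSquare ((z + algebraMap F K s) * z) := by
    intro z hz s
    obtain ⟨kz, hkz⟩ := hαsurj (α0 * z)
    have hbz : β kz ≠ 0 := fun h => by
      obtain ⟨u, rfl⟩ := hker k0 kz hk00 hk0 h
      rw [map_smul, Algebra.smul_def, mul_comm] at hkz
      exact hz u (mul_left_cancel₀ hα0 hkz)
    have key : ∀ u : F, ¬ IsSquare ((z + algebraMap F K u) * (α0 * β kz * d)) := by
      intro u
      have hne' : z + algebraMap F K u ≠ 0 := fun h => hz (-u) (by rw [map_neg]; linear_combination -h)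
      have h := hcl (kz + u • k0)
      rw [map_add, map_add, map_smul, map_smul, hk0, smul_zero, add_zero, hkz, Algebra.smul_def,
        mul_comm (algebraMap F K u), ← mul_add] at h
      have := h (mul_ne_zero (mul_ne_zero hα0 hne') hbz)
      rwa [show (z + algebraMap F K u) * (α0 * β kz * d) = α0 * (z + algebraMap F K u) * β kz * d by ring]
    have h0 := key 0
    rw [map_zero, add_zero] at h0
    obtain ⟨t, ht⟩ := sq_of_nonsq (key s) h0
    have hC : α0 * β kz * d ≠ 0 := fun h => h0 (by rw [h, mul_zero]; exact IsSquare.zero)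
    have hd : d ≠ 0 := right_ne_zero_of_mul hC
    exact ⟨t / (α0 * β kz * d), by field_simp; linear_combination ht⟩
  have hz' : ∀ s : F, algebraMap F K s ≠ z⁻¹ := fun s h => hz s⁻¹ (by rw [map_inv₀, h, inv_inv])
  have key : ∀ s : F, s ≠ 0 → IsSquare (algebraMap F K s * z) := by
    intro s hs
    have hs' : algebraMap F K s ≠ 0 := by simpa using hs
    obtain ⟨t₁, h1⟩ := shift z hz s⁻¹
    obtain ⟨t₂, h2⟩ := shift z⁻¹ hz' s
    have hne' : z + (algebraMap F K s)⁻¹ ≠ 0 := fun h => hz (-s⁻¹) (by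
      rw [map_neg, map_inv₀]; linear_combination -h)
    have ht₁ : t₁ ≠ 0 := fun h => by
      rw [h, mul_zero, map_inv₀] at h1
      exact (mul_ne_zero hne' hz0) h1
    refine ⟨z * z * t₂ / t₁, ?_⟩
    rw [map_inv₀] at h1
    have hS : algebraMap F K s * (t₁ * t₁) = z * z * z * (t₂ * t₂) := by
      rw [← h1, ← h2]
      field_simp
      ring
    field_simp
    linear_combination hS
  obtain ⟨t, ht⟩ := key ν hν0
  obtain ⟨u, hu⟩ := key 1 one_ne_zero
  rw [map_one, one_mul] at hu
  have hu0 : u ≠ 0 := fun h => hz0 (by rw [hu, h, mul_zero])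
  exact hν' ⟨t / u, by field_simp; linear_combination ht - algebraMap F K ν * hu⟩

/-- Both coordinates. -/
theorem no_pair_maps (h2 : (2 : F) ≠ 0) (hr : (finrank F K).Prime) (hr2 : finrank F K ≠ 2)
    {α β : K →ₗ[F] K} {d : K}
    (hcl : ∀ k, α k * β k ≠ 0 → ¬ IsSquare (α k * β k * d))
    (hinj : ∀ k, α k = 0 → β k = 0 → k = 0)
    (hkerβ : ∀ k k', k ≠ 0 → β k = 0 → β k' = 0 → ∃ s : F, k' = s • k)
    (hkerα : ∀ k k', k ≠ 0 → α k = 0 → α k' = 0 → ∃ s : F, k' = s • k)
    (hskew : ∀ k, Algebra.trace F K (α k * β k) = 0)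
    (hsome : ∃ k, α k * β k ≠ 0) : False := by
  classical
  haveI := Fintype.ofFinite K
  have hodd : Odd (finrank F K) := hr.odd_of_ne_two hr2
  have hβ := no_kernel h2 hodd hr.ne_one hcl hinj hkerβ
  have hα := no_kernel h2 hodd hr.ne_one (α := β) (β := α) (d := d)
    (fun k hk => by rw [mul_comm (β k)] at hk ⊢; exact hcl k hk) (fun k h h' => hinj k h' h) hkerα
  let Α : K ≃ₗ[F] K := LinearEquiv.ofInjectiveEndo α ((injective_iff_map_eq_zero α).2 hα)
  let φ : K →ₗ[F] K := β.comp (Α.symm : K →ₗ[F] K)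
  have hφ : ∀ x, x ≠ 0 → x * φ x ≠ 0 ∧ ¬ IsSquare (x * φ x * d) := by
    intro x hx
    obtain ⟨k, rfl⟩ := Α.surjective x
    have hk : k ≠ 0 := fun h => hx (by rw [h, map_zero])
    have e : φ (Α k) = β k := by simp [φ]
    rw [e]
    show α k * β k ≠ 0 ∧ _
    have hne : α k * β k ≠ 0 := mul_ne_zero (fun h => hk (hα k h)) (fun h => hk (hβ k h))
    exact ⟨hne, hcl k hne⟩
  have h2K : (2 : K) ≠ 0 := two_ne_K h2
  have hc := ringChar_ne_two_of h2K
  set M := Fintype.card K / 2 with hM
  have hcardodd : Odd (Fintype.card K) := Nat.odd_iff.2 (FiniteField.odd_card_of_char_ne_two hc)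
  have hMcard : 2 * M + 1 = Fintype.card K := by
    obtain ⟨j, hj⟩ := hcardodd
    rw [hM, hj]; omega
  have hd0 : d ≠ 0 := fun h => by
    obtain ⟨k, hk⟩ := hsome
    exact hcl k hk (by rw [h, mul_zero]; exact IsSquare.zero)
  have hid : ∀ x, φ x ^ M = (-(d ^ M)⁻¹) * x ^ M := by
    intro x
    by_cases hx : x = 0
    · have hM0 : M ≠ 0 := by
        have h2 : 3 ≤ Fintype.card K := by
          have h3 : 1 < Fintype.card K := Fintype.one_lt_card
          obtain ⟨j, hj⟩ := hcardodd
          omega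
        omega
      rw [hx, map_zero, zero_pow hM0, mul_zero]
    obtain ⟨h1, h3⟩ := hφ x hx
    have e1 := (FiniteField.pow_dichotomy hc (mul_ne_zero h1 hd0)).resolve_left
      fun h => h3 ((FiniteField.isSquare_iff hc (mul_ne_zero h1 hd0)).2 h)
    have hxx : x ^ M * x ^ M = 1 := by
      rw [← pow_add, show M + M = Fintype.card K - 1 by omega]
      exact FiniteField.pow_card_sub_one_eq_one x hx
    rw [← hM, mul_pow, mul_pow] at e1
    field_simp
    linear_combination x ^ M * e1 - φ x ^ M * d ^ M * hxx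
  obtain ⟨a, σ, hφσ⟩ := eq_smul_aut h2K hr.two_le (neg_ne_zero.2 (inv_ne_zero (pow_ne_zero _ hd0)))
    (by rw [Nat.card_eq_fintype_card]; exact hMcard) hid
  have ha : a ≠ 0 := fun h => by
    have := (hφ 1 one_ne_zero).1
    rw [hφσ, h, zero_smul, LinearMap.zero_apply, mul_zero] at this
    exact this rfl
  have hsk : ∀ x, Algebra.trace F K (x * (a * σ x)) = 0 := by
    intro x
    obtain ⟨k, rfl⟩ := Α.surjective x
    have h := hskew k
    rw [show β k = φ (Α k) by simp [φ], hφσ] at h
    simpa [Α] using h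
  have hbil : a • σ.toLinearMap +
      CfsgLib.FieldMax.ainv σ a • (CfsgLib.FieldMax.ainv σ).toLinearMap = 0 := by
    refine LinearMap.ext fun x => CfsgLib.FieldMax.eq_zero_of_trace (F := F) fun y => ?_
    have h1 := hsk (x + y)
    rw [map_add, mul_add, mul_add, add_mul, add_mul, map_add, map_add, map_add, hsk x, hsk y, zero_add,
      add_zero] at h1
    have h2 := CfsgLib.FieldMax.isAdj_smul a σ y x
    simp only [LinearMap.smul_apply, AlgHom.toLinearMap_apply, smul_eq_mul] at h2
    simp only [LinearMap.add_apply, LinearMap.smul_apply, AlgHom.toLinearMap_apply, smul_eq_mul, add_mul,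
      map_add]
    rw [mul_comm (CfsgLib.FieldMax.ainv σ a * _) y, ← h2, mul_comm (a * σ y) x, mul_comm (a * σ x) y]
    linear_combination h1
  have h := congrArg (fun e => (CfsgLib.FieldMax.autBasis F K).repr e σ) hbil
  simp only [map_add, map_zero, Finsupp.add_apply, Finsupp.zero_apply,
    CfsgLib.FieldMax.autBasis_repr_smul, if_pos] at h
  by_cases hσ : CfsgLib.FieldMax.ainv σ = σ
  · by_cases hid' : σ = AlgHom.id F K
    · rw [if_pos hσ, hσ, hid', AlgHom.id_apply, ← two_mul] at h
      exact ha ((mul_eq_zero.1 h).resolve_left h2K)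
    · exact hr2 (CfsgLib.FieldMax.ainv_eq_self hr hid' hσ)
  · rw [if_neg hσ, add_zero] at h
    exact ha h

end CfsgLib.OrthField
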