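import Cfsg.Agent.OrthField.Rigid
import Cfsg.Agent.OrthField.PairMaps
import Mathlib.GroupTheory.PGroup
import Mathlib.Algebra.Algebra.Subalgebra.IsSimpleOrder

/-!
A conjugate of an anisotropic Siegel transformation that is semilinear comes from moving the centre line to a
singular line; rigid line stabilisers force semilinearity in dimension at least four.
-/

set_option autoImplicit false
set_option linter.unusedSectionVars false
set_option linter.unusedVariables false
set_option linter.style.haveILetI false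

namespace CfsgLib.OrthField

open QuadraticMap CfsgLib.Forms CfsgLib.Quad Module CfsgLib.FieldMax

/-- An element of a subgroup fixes a coset when some other one fixes only the trivial coset. -/
theorem exists_conj_mem {G : Type*} [Group G] [Finite G] {p : ℕ} (hp : p.Prime) {S N : Subgroup G}
    (hNS : N ≤ S) {u u' : G} (huN : u ∈ N) (hu : u ^ p = 1)
    (honly : ∀ g ∈ S, g⁻¹ * u * g ∈ N → g ∈ N) (hu'S : u' ∈ S) (hu' : u' ^ p = 1) :
    ∃ g ∈ S, g⁻¹ * u' * g ∈ N := by
  classical
  haveI := Fact.mk hp
  set N' := N.subgroupOf S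
  have key : ∀ (a : S) (g : S), a • (QuotientGroup.mk g : S ⧸ N') = QuotientGroup.mk g ↔
      (g : G)⁻¹ * a * g ∈ N := by
    intro a g
    rw [MulAction.Quotient.smul_mk, QuotientGroup.eq, Subgroup.mem_subgroupOf, smul_eq_mul]
    rw [show ((((a * g : S))⁻¹ * g : S) : G) = ((g : G)⁻¹ * a * g)⁻¹ by simp [mul_assoc]]
    exact inv_mem_iff
  have hpg : ∀ a : S, (a : G) ^ p = 1 → IsPGroup p (Subgroup.zpowers a) := by
    intro a ha
    have ha' : a ^ p = 1 := Subtype.ext (by simpa using ha)
    intro x
    obtain ⟨x, hx⟩ := x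
    obtain ⟨i, rfl⟩ := Subgroup.mem_zpowers_iff.1 hx
    exact ⟨1, Subtype.ext (by
      rw [pow_one, Subgroup.coe_pow, Subgroup.coe_one]
      show (a ^ i) ^ p = 1
      rw [← zpow_natCast, ← zpow_mul, mul_comm, zpow_mul, zpow_natCast, ha', one_zpow])⟩
  have hfix : ∀ (a : S) (x : S ⧸ N'), x ∈ MulAction.fixedPoints (Subgroup.zpowers a) (S ⧸ N') ↔
      a • x = x := by
    intro a x
    constructor
    · intro h
      exact h ⟨a, Subgroup.mem_zpowers a⟩
    · rintro h ⟨b, hb⟩
      show b • x = x
      have : Subgroup.zpowers a ≤ MulAction.stabilizer S x :=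
        Subgroup.zpowers_le.2 (MulAction.mem_stabilizer_iff.2 h)
      exact MulAction.mem_stabilizer_iff.1 (this hb)
  set u₀ : S := ⟨u, hNS huN⟩
  set u₁ : S := ⟨u', hu'S⟩
  have h0 := (hpg u₀ hu).card_modEq_card_fixedPoints (S ⧸ N')
  have hone : Nat.card (MulAction.fixedPoints (Subgroup.zpowers u₀) (S ⧸ N')) = 1 := by
    rw [Nat.card_eq_one_iff_unique]
    refine ⟨⟨fun x y => Subtype.ext ?_⟩, ⟨⟨QuotientGroup.mk 1, (hfix _ _).2 ((key _ _).2 (by simpa [u₀] using huN))⟩⟩⟩
    have htriv : ∀ x : MulAction.fixedPoints (Subgroup.zpowers u₀) (S ⧸ N'), x.1 = QuotientGroup.mk 1 := by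
      rintro ⟨x, hx⟩
      obtain ⟨g, rfl⟩ := QuotientGroup.mk_surjective x
      have := honly _ g.2 ((key u₀ g).1 ((hfix _ _).1 hx))
      show QuotientGroup.mk g = _
      rw [QuotientGroup.eq, Subgroup.mem_subgroupOf]
      simpa using this
    rw [htriv x, htriv y]
  rw [hone] at h0
  obtain ⟨x, hx⟩ := (hpg u₁ hu').nonempty_fixed_point_of_prime_not_dvd_card (S ⧸ N') (fun hd => by
    rw [Nat.ModEq, Nat.mod_eq_zero_of_dvd hd, Nat.one_mod_eq_one.2 hp.ne_one] at h0
    exact zero_ne_one h0)
  obtain ⟨g, rfl⟩ := QuotientGroup.mk_surjective x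
  exact ⟨g, g.2, (key u₁ g).1 ((hfix _ _).1 hx)⟩

variable {F : Type*} [Field F] [Finite F] {K : Type*} [Field K] [Finite K] [Algebra F K]

/-- In prime degree a non-trivial automorphism fixes only the scalars. -/
theorem fixed_eq {σ : K →ₐ[F] K} (hr : (finrank F K).Prime) (hσ : σ ≠ AlgHom.id F K) {k : K}
    (hk : σ k = k) : ∃ a : F, algebraMap F K a = k := by
  haveI := Subalgebra.isSimpleOrder_of_finrank_prime F K hr
  rcases IsSimpleOrder.eq_bot_or_eq_top (AlgHom.equalizer σ (AlgHom.id F K)) with h | h
  · have h1 : k ∈ AlgHom.equalizer σ (AlgHom.id F K) := hk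
    rw [h, Algebra.mem_bot] at h1
    exact h1
  · refine absurd (AlgHom.ext fun x => ?_) hσ
    have : x ∈ AlgHom.equalizer σ (AlgHom.id F K) := by rw [h]; exact Algebra.mem_top
    exact this

variable {V : Type*} [AddCommGroup V] [Module F V] [Module K V] [IsScalarTower F K V] [Finite V]
  {Q : QuadraticForm F V} {P : QuadraticForm K V}

/-- Fixed vectors of a semilinear map that are independent over the small field are independent over
the large one. -/
theorem fixed_linearIndependent {σ : K →ₐ[F] K} (hr : (finrank F K).Prime) (hσ : σ ≠ AlgHom.id F K)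
    {g : V →+ V} (hg : ∀ (k : K) x, g (k • x) = σ k • g x) (U : Submodule F V)
    (hU : ∀ x ∈ U, g x = x) : LinearIndependent K fun i => (finBasis F U i : V) := by
  classical
  let b := finBasis F U
  have key : ∀ (s : Finset (Fin (finrank F U))) (c : Fin (finrank F U) → K),
      ∑ i ∈ s, c i • (b i : V) = 0 → ∀ i ∈ s, c i = 0 := by
    intro s
    induction s using Finset.induction_on with
    | empty => simp
    | insert a s has ih =>
      intro c hc
      by_cases ha : c a = 0
      · rw [Finset.sum_insert has, ha, zero_smul, zero_add] at hc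
        intro i hi
        rcases Finset.mem_insert.1 hi with rfl | hi
        · exact ha
        · exact ih c hc i hi
      exfalso
      set d := fun i => (c a)⁻¹ * c i with hd
      have hdsum : ∑ i ∈ insert a s, d i • (b i : V) = 0 := by
        simp only [hd, mul_smul, ← Finset.smul_sum, hc, smul_zero]
      have hσsum : ∑ i ∈ insert a s, σ (d i) • (b i : V) = 0 := by
        have h := congrArg g hdsum
        rw [map_sum, map_zero] at h
        rw [← h]
        exact Finset.sum_congr rfl fun i _ => by rw [hg, hU _ (b i).2]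
      have hda : d a = 1 := inv_mul_cancel₀ ha
      have hfix : ∀ i ∈ s, σ (d i) = d i := by
        intro i hi
        refine sub_eq_zero.1 (ih (fun j => σ (d j) - d j) ?_ i hi)
        have h := sub_eq_zero.2 (hσsum.trans hdsum.symm)
        rw [← Finset.sum_sub_distrib, Finset.sum_insert has, hda, map_one, sub_self, zero_add] at h
        simpa only [sub_smul] using h
      have hfix' : ∀ i, ∃ x : F, i ∈ insert a s → algebraMap F K x = d i := by
        intro i
        by_cases hi : i ∈ insert a s
        · rcases Finset.mem_insert.1 hi with rfl | hi'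
          · exact ⟨1, fun _ => by rw [hda, map_one]⟩
          · obtain ⟨x, hx⟩ := fixed_eq hr hσ (hfix i hi')
            exact ⟨x, fun _ => hx⟩
        · exact ⟨0, fun h => absurd h hi⟩
      choose x hx using hfix'
      have h0 : ∑ i ∈ insert a s, x i • b i = 0 := by
        refine Subtype.ext ?_
        rw [Submodule.coe_sum, ZeroMemClass.coe_zero, ← hdsum]
        exact Finset.sum_congr rfl fun i hi => by
          rw [Submodule.coe_smul, ← algebraMap_smul K (x i), hx i hi]
      have h1 := linearIndependent_iff'.1 b.linearIndependent _ x h0 a (Finset.mem_insert_self _ _)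
      have h2 := hx a (Finset.mem_insert_self _ _)
      rw [h1, map_zero, hda] at h2
      exact zero_ne_one h2
  exact Fintype.linearIndependent_iff.2
    fun c hc i => key Finset.univ c hc i (Finset.mem_univ i)

/-- The fixed space is no larger than the dimension over the large field. -/
theorem finrank_fixed_le {σ : K →ₐ[F] K} (hr : (finrank F K).Prime) (hσ : σ ≠ AlgHom.id F K)
    {g : V →+ V} (hg : ∀ (k : K) x, g (k • x) = σ k • g x) (U : Submodule F V)
    (hU : ∀ x ∈ U, g x = x) : finrank F U ≤ finrank K V := by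
  have := (fixed_linearIndependent hr hσ hg U hU).fintype_card_le_finrank
  rwa [Fintype.card_fin] at this

variable (hF : Fld Q P)

include hF

theorem Fld.uK_pow {e z : V} (he : P e = 0) (hez : polar P e z = 0) :
    hF.uK e z ^ ringChar F = 1 := by
  have h : ∀ n : ℕ, hF.uK e z ^ n = hF.uK e (n • z) := by
    intro n
    induction n with
    | zero => rw [pow_zero, zero_smul, hF.uK_zero he]
    | succ n ih =>
      rw [pow_succ, ih, succ_nsmul, hF.uK_mul he (by
        rw [← Nat.cast_smul_eq_nsmul K, polar_smul_right, hez, smul_zero]) hez]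
  rw [h, hF.nsmul_p, hF.uK_zero he]

/-- A semilinear conjugate of an anisotropic Siegel transformation. -/
theorem Fld.fusion {e z : V} (he0 : e ≠ 0) (he : P e = 0) (hez : polar P e z = 0) (hz : P z ≠ 0)
    {h : oGroup Q} (hsemi : Semi K (h * hF.uK e z * h⁻¹))
    (h3 : finrank K V = 3 → ∀ σ : K →ₐ[F] K,
      (∀ (k : K) x, (h * hF.uK e z * h⁻¹).1 (k • x) = σ k • (h * hF.uK e z * h⁻¹).1 x) →
      σ = AlgHom.id F K) :
    P (h.1 e) = 0 ∧ ∀ k : K, ∃ k' : K, h.1 (k • e) = k' • h.1 e := by
  set b := h * hF.uK e z * h⁻¹ with hb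
  have hbh : ∀ y, b.1 (h.1 y) = h.1 ((hF.uK e z).1 y) := fun y => by
    show h.1 ((hF.uK e z).1 (h.1.symm (h.1 y))) = _
    rw [LinearEquiv.symm_apply_apply]
  obtain ⟨σ, hσ⟩ := hF.exists_hom hsemi
  have hlin : σ = AlgHom.id F K := by
    by_cases hk3 : finrank K V = 3
    · exact h3 hk3 σ hσ
    by_contra hne
    by_cases hr2 : finrank F K = 2
    · -- an involutive twist of an element of odd order
      refine hne (AlgHom.ext fun k => ?_)
      have hσσ : ∀ k : K, σ (σ k) = k := by
        intro k
        by_contra hne'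
        have h2 : σ.comp σ ≠ AlgHom.id F K := fun h => hne' (AlgHom.congr_fun h k)
        have h3 : ({AlgHom.id F K, σ, σ.comp σ} : Set (K →ₐ[F] K)).ncard = 3 := by
          rw [Set.ncard_eq_three]
          refine ⟨_, _, _, Ne.symm hne, Ne.symm h2, fun h => hne ?_, rfl⟩
          exact AlgHom.ext fun k => σ.toRingHom.injective (AlgHom.congr_fun h k).symm
        have h4 := Set.ncard_le_card ({AlgHom.id F K, σ, σ.comp σ} : Set (K →ₐ[F] K))
        rw [card_algHom, hr2] at h4
        omega
      have hpow : ∀ (m : ℕ) (x : V), (b ^ (2 * m + 1)).1 (k • x) = σ k • (b ^ (2 * m + 1)).1 x := by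
        intro m
        induction m with
        | zero => intro x; simpa using hσ k x
        | succ m ih =>
          intro x
          have hstep : ∀ y, (b ^ (2 * (m + 1) + 1)).1 y = b.1 (b.1 ((b ^ (2 * m + 1)).1 y)) := fun y => by
            rw [show 2 * (m + 1) + 1 = (2 * m + 1) + 1 + 1 by omega, pow_succ', pow_succ']
            rfl
          rw [hstep, hstep, ih, hσ, hσ, hσσ]
      obtain ⟨m, hm⟩ := hF.p_odd
      have hbp : b ^ ringChar F = 1 := by
        rw [hb, conj_pow, hF.uK_pow he hez, mul_one, mul_inv_cancel]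
      obtain ⟨v, hv⟩ := hF.exists_ne_zero
      have := hpow m v
      rw [← hm, hbp] at this
      exact (smul_left_injective K hv this).symm
    set W : Submodule K V := perpS P (Submodule.span K (Set.range ![e, z])) with hW
    set U : Submodule F V := (W.restrictScalars F).map (h.1 : V →ₗ[F] V) with hU
    have hUfix : ∀ x ∈ U, b.1 x = x := by
      rintro _ ⟨y, hy, rfl⟩
      have hye : polar P y e = 0 := by
        rw [polar_comm]; exact hy e (Submodule.subset_span ⟨0, rfl⟩)
      have hyz : polar P y z = 0 := by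
        rw [polar_comm]; exact hy z (Submodule.subset_span ⟨1, rfl⟩)
      show b.1 (h.1 y) = h.1 y
      rw [hbh, hF.uK_apply he hez, hye, hyz, zero_smul, mul_zero, add_zero, add_zero, zero_smul, sub_zero]
    have h1 := finrank_fixed_le hF.prime hne (g := b.1.toAddEquiv.toAddMonoidHom) hσ U hUfix
    have h2 : finrank F U = finrank F K * finrank K W := by
      rw [hU, LinearEquiv.finrank_map_eq, Module.finrank_mul_finrank]
      rfl
    have h3 := finrank_perpS hF.ndP (Submodule.span K (Set.range ![e, z]))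
    have h4 : finrank K (Submodule.span K (Set.range ![e, z])) ≤ 2 :=
      (finrank_range_le_card _).trans (by simp)
    have h5 : finrank F K * finrank K V = finrank F V := Module.finrank_mul_finrank F K V
    have h6 := hF.three
    have h7 := hF.big
    have h8 := hF.prime.two_le
    rw [← hW] at h3
    rw [h2] at h1
    obtain ⟨j, hj⟩ : ∃ j, finrank K V = j + 2 := ⟨finrank K V - 2, by omega⟩
    have h9 : finrank F K * j ≤ finrank F K * finrank K W := Nat.mul_le_mul_left _ (by omega)
    rw [hj] at h5 h1 h6 hk3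
    rcases eq_or_ne j 2 with rfl | hj2
    · have : 3 ≤ finrank F K := by omega
      nlinarith
    · have : 3 ≤ j := by omega
      nlinarith
  have hlin' : ∀ (k : K) x, b.1 (k • x) = k • b.1 x := fun k x => by rw [hσ, hlin]; rfl
  have hee : polar P e e = 0 := by rw [polar_self, he, smul_zero]
  obtain ⟨f, hfr⟩ := hF.exists_frame he0 he
  have hD2 : ∀ y, b.1 (b.1 (h.1 y)) - (2 : K) • b.1 (h.1 y) + h.1 y =
      h.1 ((-(2 * P z * polar P y e)) • e) := by
    intro y
    have huy : (hF.uK e z).1 ((hF.uK e z).1 y) - (2 : F) • (hF.uK e z).1 y + y =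
        (-(2 * P z * polar P y e)) • e := by
      have he1 : polar P ((hF.uK e z).1 y) e = polar P y e := by
        rw [hF.uK_apply he hez, polar_sub_left, polar_add_left, polar_smul_left, polar_smul_left,
          polar_comm (⇑P) z e, hez, hee, smul_zero, smul_zero, add_zero, sub_zero]
      have hz1 : polar P ((hF.uK e z).1 y) z = polar P y z + polar P y e * (2 * P z) := by
        rw [hF.uK_apply he hez, polar_sub_left, polar_add_left, polar_smul_left, polar_smul_left,
          polar_self, hez, smul_zero, sub_zero, two_nsmul, smul_eq_mul, ← two_mul]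
      rw [hF.uK_apply he hez ((hF.uK e z).1 y), he1, hz1, ← algebraMap_smul K (2 : F), map_ofNat,
        hF.uK_apply he hez y]
      module
    rw [hbh, hbh, ← huy, map_add, map_sub, map_smul, ← algebraMap_smul K (2 : F) (h.1 _), map_ofNat]
  have hsurj : ∀ k : K, ∃ c : K, k • h.1 e = h.1 (c • e) := by
    intro k
    set y := (-(2 * P z)⁻¹) • f
    have hy : (-(2 * P z * polar P y e)) = (1 : K) := by
      rw [polar_smul_left, hfr.hfe, smul_eq_mul]
      field_simp [hF.two']
    have h1 := hD2 y
    rw [hy, one_smul] at h1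
    obtain ⟨y', hy'⟩ := h.1.surjective (k • h.1 y)
    refine ⟨-(2 * P z * polar P y' e), ?_⟩
    rw [← hD2 y', hy', hlin', hlin', ← h1, smul_add, smul_sub, smul_comm k (2 : K)]
  refine ⟨hF.sing_of_line fun k => ?_, ?_⟩
  · obtain ⟨c, hc⟩ := hsurj k
    rw [hc, h.2, hF.sing_smul he]
  · choose c hc using hsurj
    have hhe : h.1 e ≠ 0 := fun h' => he0 (h.1.injective (h'.trans (map_zero h.1).symm))
    have hinj : Function.Injective c := fun x y hxy =>
      smul_left_injective K hhe (show x • h.1 e = y • h.1 e by rw [hc, hc, hxy])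
    intro k
    obtain ⟨k', rfl⟩ := (Finite.injective_iff_surjective.1 hinj) k
    exact ⟨k', (hc k').symm⟩

variable {M : Subgroup (oGroup Q)} (hM : Over K M)
  (hR : ∀ e : V, e ≠ 0 → P e = 0 → RigidAt K M e)

include hM hR

/-- An element carrying a singular line onto a singular line is semilinear. -/
theorem Fld.semi_of_line {e : V} (he0 : e ≠ 0) (he : P e = 0) {h : oGroup Q} (hh : h ∈ M)
    (hhe : P (h.1 e) = 0) (hline : ∀ k : K, ∃ k' : K, h.1 (k • e) = k' • h.1 e) : Semi K h := by
  have hw : h.1 e ≠ 0 := fun h' => he0 (h.1.injective (h'.trans (map_zero h.1).symm))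
  obtain ⟨g, hg, c, -, hgc⟩ := hF.exists_move hw he0 hhe he
  have hm := hF.res_mem hM hg
  have hs : Semi K (hF.res g * h) := hR e he0 he _ (mul_mem hm hh) fun k => by
    obtain ⟨k', hk'⟩ := hline k
    refine ⟨k' * c, ?_⟩
    show (hF.res g).1 (h.1 (k • e)) = _
    rw [hk', hF.res_apply, LinearEquiv.map_smul g.1, hgc, smul_smul]
  have := hF.semiSub.mul_mem (inv_mem (hF.mem_semiSub.2 (hF.res_semi g))) (hF.mem_semiSub.2 hs)
  rwa [inv_mul_cancel_left] at this

/-- In three dimensions a conjugate in the overgroup of an anisotropic Siegel transformation is linear: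
otherwise its fixed space carries an orthogonal pair of reflections, which would act as a scalar on a line. -/
theorem Fld.conj_linear (hk : finrank K V = 3) {e z : V} (he0 : e ≠ 0) (he : P e = 0)
    (hez : polar P e z = 0) (hz : P z ≠ 0) {h : oGroup Q} (hh : h ∈ M) {σ : K →ₐ[F] K}
    (hσ : ∀ (k : K) x, (h * hF.uK e z * h⁻¹).1 (k • x) = σ k • (h * hF.uK e z * h⁻¹).1 x) :
    σ = AlgHom.id F K := by
  classical
  by_contra hne
  set b := h * hF.uK e z * h⁻¹ with hb
  have hr2 : finrank F K ≠ 2 := fun h' => by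
    have h5 : finrank F K * finrank K V = finrank F V := Module.finrank_mul_finrank F K V
    have := hF.big
    rw [hk, h'] at h5
    omega
  have h2K := hF.two'
  have hbh : ∀ y, b.1 (h.1 y) = h.1 ((hF.uK e z).1 y) := fun y => by
    show h.1 ((hF.uK e z).1 (h.1.symm (h.1 y))) = _
    rw [LinearEquiv.symm_apply_apply]
  have hufix : ∀ k : K, (hF.uK e z).1 (k • e) = k • e := fun k => by
    rw [hF.uK_apply he hez, polar_smul_left, polar_smul_left, polar_self, he, hez]
    simp
  -- the fixed space
  let S : Submodule F V := ((Submodule.span K ({e} : Set V)).restrictScalars F).map (h.1 : V →ₗ[F] V)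
  have hSfix : ∀ x ∈ S, b.1 x = x := by
    rintro _ ⟨y, hy, rfl⟩
    obtain ⟨k, rfl⟩ := Submodule.mem_span_singleton.1 hy
    show b.1 (h.1 (k • e)) = h.1 (k • e)
    rw [hbh, hufix]
  have hli := fixed_linearIndependent hF.prime hne (g := b.1.toAddEquiv.toAddMonoidHom) hσ S hSfix
  have hS : finrank F S = finrank F K := by
    have : finrank F S = finrank F K * finrank K (Submodule.span K ({e} : Set V)) := by
      rw [LinearEquiv.finrank_map_eq, Module.finrank_mul_finrank]
      rfl
    rw [this, finrank_span_singleton he0, mul_one]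
  have hr3 : 3 ≤ finrank F K := by
    have := hF.prime.two_le
    omega
  have hcard : finrank F S = 3 := by
    have := hli.fintype_card_le_finrank
    rw [Fintype.card_fin, hk] at this
    omega
  have hspan : Submodule.span K (Set.range fun i => (finBasis F S i : V)) = ⊤ := by
    refine hli.span_eq_top_of_card_eq_finrank' ?_
    rw [Fintype.card_fin, hk, hcard]
  have hN : ∀ x : V, (∀ y ∈ S, polar P x y = 0) → x = 0 := fun x hx => hF.ndP.1 x fun y => by
    show polar P x y = 0
    have hy : y ∈ Submodule.span K (Set.range fun i => (finBasis F S i : V)) := hspan ▸ Submodule.mem_top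
    obtain ⟨c, rfl⟩ := (Submodule.mem_span_range_iff_exists_fun K).1 hy
    rw [← polarBilin_apply_apply, map_sum]
    refine Finset.sum_eq_zero fun i _ => ?_
    rw [polarBilin_apply_apply, polar_smul_right, hx _ (finBasis F S i).2, smul_zero]
  have hval : ∀ x ∈ S, ∀ y ∈ S, ∃ a : F, algebraMap F K a = polar P x y := fun x hx y hy => by
    refine fixed_eq hF.prime hne ?_
    have := hF.semi_polar hσ x y
    rw [hSfix x hx, hSfix y hy] at this
    exact this.symm
  obtain ⟨c₀, hc₀⟩ := Algebra.trace_surjective F K (1 : F)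
  let φ : K →ₗ[F] F := (Algebra.trace F K).comp (LinearMap.mulLeft F c₀)
  have hφ : ∀ a : F, φ (algebraMap F K a) = a := fun a => by
    show Algebra.trace F K (c₀ * algebraMap F K a) = a
    rw [mul_comm, ← Algebra.smul_def, map_smul, hc₀, smul_eq_mul, mul_one]
  let B : LinearMap.BilinForm F S := LinearMap.mk₂ F (fun x y => φ (polar P (x : V) (y : V)))
    (fun x x' y => by rw [Submodule.coe_add, polar_add_left, map_add])
    (fun a x y => by
      rw [Submodule.coe_smul, ← algebraMap_smul K a (x : V), polar_smul_left, smul_eq_mul, ← Algebra.smul_def,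
        map_smul])
    (fun x y y' => by rw [Submodule.coe_add, polar_add_right, map_add])
    (fun a x y => by
      rw [Submodule.coe_smul, ← algebraMap_smul K a (y : V), polar_smul_right, smul_eq_mul, ← Algebra.smul_def,
        map_smul])
  haveI := invertibleOfNonzero hF.two
  obtain ⟨v, hv⟩ := LinearMap.BilinForm.exists_orthogonal_basis (B := B)
    ⟨fun x y => show φ (polar P (x : V) (y : V)) = φ (polar P (y : V) (x : V)) by rw [polar_comm]⟩
  have horth : ∀ i j, i ≠ j → polar P (v i : V) (v j : V) = 0 := fun i j hij => by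
    obtain ⟨a, ha⟩ := hval _ (v i).2 _ (v j).2
    have h0 : φ (polar P (v i : V) (v j : V)) = 0 := hv hij
    rw [← ha, hφ] at h0
    rw [← ha, h0, map_zero]
  have hv0 : ∀ i, (v i : V) ≠ 0 := fun i h' => v.ne_zero i (Subtype.ext h')
  have haniso : ∀ i, P (v i : V) ≠ 0 := fun i hi => hv0 i (hN _ fun y hy => by
    have hys : ((∑ j, v.repr ⟨y, hy⟩ j • v j : S) : V) = y := by rw [v.sum_repr]
    rw [← hys, Submodule.coe_sum, ← polarBilin_apply_apply, map_sum]
    refine Finset.sum_eq_zero fun j _ => ?_
    rw [Submodule.coe_smul, polarBilin_apply_apply, ← algebraMap_smul K (v.repr ⟨y, hy⟩ j) (v j : V),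
      polar_smul_right]
    rcases eq_or_ne i j with rfl | hij
    · rw [polar_self, hi, smul_zero, smul_zero]
    · rw [horth i j hij, smul_zero])
  -- two with square product of values
  have hdiag : ∀ i, ∃ a : F, a ≠ 0 ∧ algebraMap F K a = P (v i : V) := fun i => by
    obtain ⟨a, ha⟩ := hval _ (v i).2 _ (v i).2
    rw [polar_self, nsmul_eq_mul, Nat.cast_ofNat] at ha
    have h1 : algebraMap F K (a / 2) = P (v i : V) := by
      rw [map_div₀, ha, map_ofNat]; field_simp
    refine ⟨a / 2, fun h' => haniso i ?_, h1⟩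
    rw [← h1, h', map_zero]
  choose a ha0 ha using hdiag
  obtain ⟨i₁, i₂, i₃, h12, h13, h23⟩ : ∃ i₁ i₂ i₃ : Fin (finrank F S), i₁ ≠ i₂ ∧ i₁ ≠ i₃ ∧ i₂ ≠ i₃ :=
    ⟨⟨0, by omega⟩, ⟨1, by omega⟩, ⟨2, by omega⟩, by simp [Fin.ext_iff], by simp [Fin.ext_iff],
      by simp [Fin.ext_iff]⟩
  obtain ⟨i, j, l, hij, hil, hjl, hsq⟩ : ∃ i j l, i ≠ j ∧ i ≠ l ∧ j ≠ l ∧ IsSquare (a i * a j) := by
    by_cases hA : IsSquare (a i₁ * a i₃)
    · exact ⟨i₁, i₃, i₂, h13, h12, h23.symm, hA⟩
    by_cases hB : IsSquare (a i₂ * a i₃)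
    · exact ⟨i₂, i₃, i₁, h23, h12.symm, h13.symm, hB⟩
    obtain ⟨w, hw⟩ := sq_of_nonsq hA hB
    exact ⟨i₁, i₂, i₃, h12, h13, h23, w / a i₃, by have := ha0 i₃; field_simp; linear_combination hw⟩
  have hsqK : IsSquare (P (v i : V) * P (v j : V)) := by
    rw [← ha, ← ha, ← map_mul]; exact hsq.map (algebraMap F K)
  set t := hF.res (refl P (v i : V) * refl P (v j : V)) with ht
  have htM : t ∈ M := hF.res_mem hM (refl_pair_mem_commutator hF.ndP (haniso i) (haniso j) hsqK)
  have htap : ∀ x, t.1 x = (refl P (v i : V)).1 ((refl P (v j : V)).1 x) := fun x => rfl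
  have hcomm : ∀ u ∈ S, ∀ x, b.1 ((refl P u).1 x) = (refl P u).1 (b.1 x) := by
    intro u hu x
    obtain ⟨w, hw⟩ := hval u hu u hu
    have hσP : σ (P u) = P u := by
      have := hF.semi_quad hσ u
      rwa [hSfix u hu, eq_comm] at this
    rw [refl_apply, refl_apply, map_add, hσ, hSfix u hu, map_mul, map_neg, map_inv₀, hσP]
    congr 3
    have := hF.semi_polar hσ x u
    rwa [hSfix u hu, eq_comm] at this
  -- the corresponding element at the line
  set g := h⁻¹ * t * h with hg
  have hgM : g ∈ M := M.mul_mem (M.mul_mem (M.inv_mem hh) htM) hh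
  have hhg : ∀ x, h.1 (g.1 x) = t.1 (h.1 x) := fun x => LinearEquiv.apply_symm_apply _ _
  have hgu : ∀ x, (hF.uK e z).1 (g.1 x) = g.1 ((hF.uK e z).1 x) := fun x => h.1.injective (by
    rw [← hbh, hhg, hhg, ← hbh, htap, htap, hcomm _ (v i).2, hcomm _ (v j).2])
  have hstab : Stab K e g := by
    intro k
    set x := g.1 (k • e)
    have hfx : (hF.uK e z).1 x = x := by rw [hgu, hufix]
    set U : Submodule K V := Submodule.span K (Set.range ![e, z])
    have hxU : x ∈ perpS P U := by
      rw [hF.uK_apply he hez] at hfx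
      have e1 := congrArg (fun y => polar P e y) hfx
      have hee : polar P e e = 0 := by rw [polar_self, he, smul_zero]
      have hze : polar P z e = 0 := by rw [polar_comm]; exact hez
      have e2 := congrArg (fun y => polar P z y) hfx
      simp only [polar_sub_right, polar_add_right, polar_smul_right, hez, hze, hee, smul_eq_mul, mul_zero,
        add_zero, sub_zero, polar_self, nsmul_eq_mul, Nat.cast_ofNat] at e1 e2
      have hxe : polar P x e = 0 := by
        have h0 : polar P x e * (2 * P z) = 0 := by linear_combination e2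
        exact (mul_eq_zero.1 h0).resolve_right (mul_ne_zero h2K hz)
      have hxz : polar P x z = 0 := by
        rw [hxe, zero_smul, mul_zero, add_zero, add_zero, sub_eq_self, smul_eq_zero] at hfx
        exact hfx.resolve_right he0
      intro u hu
      obtain ⟨c, rfl⟩ := (Submodule.mem_span_range_iff_exists_fun K).1 hu
      simp [Fin.sum_univ_two, polar_add_left, polar_smul_left, polar_comm (⇑P) e x, polar_comm (⇑P) z x,
        hxe, hxz]
    have hU : finrank K U = 2 := by
      rw [finrank_span_eq_card ((LinearIndependent.pair_iff' he0).2 fun c hc => hz (by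
        rw [← hc, quad_smul, he, mul_zero])), Fintype.card_fin]
    have hperp : finrank K (perpS P U) = 1 := by
      have := finrank_perpS hF.ndP U
      omega
    have heU : e ∈ perpS P U := fun u hu => by
      obtain ⟨c, rfl⟩ := (Submodule.mem_span_range_iff_exists_fun K).1 hu
      simp [Fin.sum_univ_two, polar_add_left, polar_smul_left, polar_comm (⇑P) z e, hez, he]
    obtain ⟨c, hc⟩ := exists_smul_eq_of_finrank_eq_one hperp (x := (⟨e, heU⟩ : perpS P U))
      (fun h' => he0 (congrArg Subtype.val h')) ⟨x, hxU⟩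
    exact ⟨c, (congrArg Subtype.val hc).symm⟩
  obtain ⟨τ, hτ⟩ := hF.exists_hom (hR e he0 he g hgM hstab)
  have hgg : ∀ x ∈ S, t.1 (t.1 x) = x := by
    intro x hx
    have hvec : ∀ p : V, P p ≠ 0 → (refl P p).1 p = -p := fun p hp => refl_self hp
    have hfixp : ∀ p q : V, polar P q p = 0 → (refl P p).1 q = q := fun p q hpq => refl_fix hpq
    have hc : ∀ y, (refl P (v j : V)).1 ((refl P (v i : V)).1 y) =
        (refl P (v i : V)).1 ((refl P (v j : V)).1 y) := by
      intro y
      rw [refl_apply, refl_apply, refl_apply, refl_apply, polar_add_left, polar_add_left, polar_smul_left,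
        polar_smul_left, horth i j hij, horth j i hij.symm, smul_zero, smul_zero, add_zero, add_zero]
      abel
    have hii : ∀ p y : V, (refl P p).1 ((refl P p).1 y) = y := fun p y => by
      show (refl P p * refl P p).1 y = y
      rw [refl_mul_self]
      rfl
    rw [htap, htap, hc, hii, hii]
  have hmemS : ∀ k : K, h.1 (k • e) ∈ S := fun k =>
    ⟨k • e, Submodule.smul_mem _ _ (Submodule.mem_span_singleton_self e), rfl⟩
  obtain ⟨c, hc⟩ := hstab 1
  rw [one_smul] at hc
  have hgk : ∀ k : K, g.1 (k • e) = (τ k * c) • e := fun k => by rw [hτ, hc, smul_smul]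
  have h11 : τ c * c = 1 := by
    refine smul_left_injective K he0 (h.1.injective ?_)
    show h.1 ((τ c * c) • e) = h.1 ((1 : K) • e)
    rw [← hgk, one_smul, ← hc, hhg, hhg, hgg _ (by have := hmemS 1; rwa [one_smul] at this)]
  have hττ : τ.comp τ = AlgHom.id F K := AlgHom.ext fun k => by
    refine smul_left_injective K he0 (h.1.injective ?_)
    show h.1 (τ (τ k) • e) = h.1 (k • e)
    rw [show τ (τ k) = τ (τ k * c) * c by rw [map_mul, mul_assoc, h11, mul_one], ← hgk, ← hgk, hhg, hhg,
      hgg _ (hmemS k)]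
  have hτid : τ = AlgHom.id F K := by
    by_contra hne'
    exact hr2 (CfsgLib.FieldMax.finrank_eq_two_of_sq hF.prime hne' fun k => AlgHom.congr_fun hττ k)
  have htS : ∀ x ∈ S, t.1 x = c • x ∧ (c = 1 ∨ c = -1) := by
    have hc1 : c = 1 ∨ c = -1 := mul_self_eq_one_iff.1 (by rw [hτid] at h11; exact h11)
    rintro _ ⟨y, hy, rfl⟩
    obtain ⟨k, rfl⟩ := Submodule.mem_span_singleton.1 hy
    refine ⟨?_, hc1⟩
    show t.1 (h.1 (k • e)) = c • h.1 (k • e)
    rw [← hhg, hgk, hτid, AlgHom.id_apply, mul_comm]
    rcases hc1 with rfl | rfl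
    · rw [one_mul, one_smul]
    · rw [neg_one_mul, neg_smul, map_neg, neg_one_smul]
  have hl : t.1 (v l : V) = (v l : V) := by
    rw [htap, refl_fix (horth l j hjl.symm), refl_fix (horth l i hil.symm)]
  have hi : t.1 (v i : V) = -(v i : V) := by
    rw [htap, refl_fix (horth i j hij), refl_self (haniso i)]
  obtain ⟨h1, hc1⟩ := htS _ (v l).2
  obtain ⟨h2, -⟩ := htS _ (v i).2
  rw [hl] at h1
  rw [hi] at h2
  rcases hc1 with rfl | rfl
  · have : (2 : K) • (v i : V) = 0 := by
      rw [one_smul] at h2
      rw [two_smul]; nth_rw 1 [← h2]; exact neg_add_cancel _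
    exact hv0 i ((smul_eq_zero.1 this).resolve_left h2K)
  · have : (2 : K) • (v l : V) = 0 := by
      rw [neg_one_smul] at h1
      rw [two_smul]; nth_rw 1 [h1]; exact neg_add_cancel _
    exact hv0 l ((smul_eq_zero.1 this).resolve_left h2K)

theorem Fld.semi_of_conj {e z : V} (he0 : e ≠ 0) (he : P e = 0) (hez : polar P e z = 0) (hz : P z ≠ 0)
    {h : oGroup Q} (hh : h ∈ M) (hsemi : Semi K (h * hF.uK e z * h⁻¹)) : Semi K h := by
  obtain ⟨h1, h2⟩ := hF.fusion he0 he hez hz hsemi fun hk σ hσ => hF.conj_linear hM hR hk he0 he hez hz hh hσ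
  exact hF.semi_of_line hM hR he0 he hh h1 h2

/-- An anisotropic Siegel transformation cannot fix the image of a singular vector unless it is singular. -/
theorem Fld.quad_eq_zero_of_fixed {v : V} (hv0 : v ≠ 0) (hv : P v = 0) {h : oGroup Q} (hh : h ∈ M)
    {f z : V} (hf0 : f ≠ 0) (hf : P f = 0) (hfz : polar P f z = 0) (hz : P z ≠ 0)
    (hfix : (hF.uK f z).1 (h.1 v) = h.1 v) : P (h.1 v) = 0 := by
  obtain ⟨f', hfr⟩ := hF.exists_frame hv0 hv
  obtain ⟨z', hz', hvz', -⟩ := hF.exists_aniso_perp hfr.he hfr.hf (by rw [hfr.hef]; exact one_ne_zero)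
  set St : Subgroup (oGroup Q) := M ⊓
    { carrier := {g | g.1 v = v}
      one_mem' := rfl
      mul_mem' := fun {a b} ha hb => by
        show a.1 (b.1 v) = v
        rw [show b.1 v = v from hb, show a.1 v = v from ha]
      inv_mem' := fun {a} ha => by
        show a.1.symm v = v
        rw [LinearEquiv.symm_apply_eq]; exact ha.symm }
  have hu0 : hF.uK v z' ∈ St := ⟨hF.uK_mem hM hv hvz' hz', by
    show (hF.uK v z').1 v = v
    rw [hF.uK_apply hv hvz', polar_self, hv, smul_zero, hvz', zero_smul, mul_zero, add_zero, add_zero,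
      zero_smul, sub_zero]⟩
  haveI : Finite (oGroup Q) := Finite.of_injective (fun g : oGroup Q => (g.1 : V → V))
    fun a b h => Subtype.ext (LinearEquiv.ext fun x => congrFun h x)
  obtain ⟨g, hg, hgs⟩ := exists_conj_mem hF.p_prime (S := St) (N := St ⊓ hF.semiSub) inf_le_left
    (u := hF.uK v z') (u' := h⁻¹ * hF.uK f z * h) ⟨hu0, hF.res_semi _⟩ (hF.uK_pow hv hvz')
    (fun g hg hgs => ⟨hg, by
      have := hF.semi_of_conj hM hR hv0 hv hvz' hz' (inv_mem hg.1)
        (by rw [inv_inv]; exact hgs.2)
      have h2 := hF.semiSub.inv_mem (hF.mem_semiSub.2 this)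
      rwa [inv_inv] at h2⟩)
    ⟨M.mul_mem (M.mul_mem (M.inv_mem hh) (hF.uK_mem hM hf hfz hz)) hh, by
      show h.1.symm ((hF.uK f z).1 (h.1 v)) = v
      rw [hfix, LinearEquiv.symm_apply_apply]⟩
    (by
      have := congrArg (fun x => h⁻¹ * x * h) (hF.uK_pow hf hfz)
      simp only [mul_one, inv_mul_cancel] at this
      rw [← this]
      simpa using (conj_pow (a := h⁻¹) (b := hF.uK f z) (i := ringChar F)))
  have hs : Semi K (h * g) := by
    have h1 := hF.semi_of_conj hM hR hf0 hf hfz hz (inv_mem (mul_mem hh hg.1))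
      (by
        rw [inv_inv, mul_inv_rev, show g⁻¹ * h⁻¹ * hF.uK f z * (h * g) =
          g⁻¹ * (h⁻¹ * hF.uK f z * h) * g by simp only [mul_assoc]]
        exact hgs.2)
    have h2 := hF.semiSub.inv_mem (hF.mem_semiSub.2 h1)
    rwa [inv_inv] at h2
  obtain ⟨σ, hσ⟩ := hF.exists_hom hs
  have := hF.semi_quad hσ v
  rw [hv, map_zero] at this
  have hgv : g.1 v = v := hg.2
  rwa [show (h * g).1 v = h.1 (g.1 v) from rfl, hgv] at this

/-- With rigid line stabilisers and dimension at least four, the overgroup is semilinear. -/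
theorem Fld.semi_of_four (h4 : 4 ≤ finrank K V) : M ≤ hF.semiSub := by
  have hsing : ∀ h ∈ M, ∀ v : V, P v = 0 → P (h.1 v) = 0 := by
    intro h hh v hv
    by_cases hv0 : v = 0
    · rw [hv0, map_zero, QuadraticMap.map_zero]
    by_contra hw
    set U : Submodule K V := perpS P (Submodule.span K {h.1 v}) with hU
    have hU3 : 3 ≤ finrank K U := by
      have h1 := finrank_perpS hF.ndP (Submodule.span K {h.1 v})
      rw [← hU] at h1
      have h2 : finrank K (Submodule.span K {h.1 v}) ≤ 1 := (finrank_span_le_card _).trans (by simp)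
      omega
    obtain ⟨f, hfU, hf0, hf⟩ := exists_singular_of_three (Q := P) U hU3
    have hwf : polar P (h.1 v) f = 0 := hfU _ (Submodule.mem_span_singleton_self _)
    set W := Submodule.span K (Set.range ![h.1 v, f])
    obtain ⟨z, hzW, hz⟩ : ∃ z ∈ perpS P W, P z ≠ 0 := by
      by_contra hc
      push Not at hc
      have hle : perpS P W ≤ perpS P (perpS P W) := fun a ha b hb => by
        simp only [polar, hc _ (Submodule.add_mem _ hb ha), hc a ha, hc b hb, sub_zero]
      rw [perpS_perpS hF.ndP] at hle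
      have h1 := finrank_perpS hF.ndP W
      have h2 : finrank K W ≤ 2 := (finrank_range_le_card _).trans (by simp)
      have h3 := Submodule.finrank_mono hle
      have heq : perpS P W = W := Submodule.eq_of_le_of_finrank_le hle (by omega)
      have hmem : h.1 v ∈ perpS P W := by rw [heq]; exact Submodule.subset_span ⟨0, rfl⟩
      exact hw (hc _ hmem)
    have hwz : polar P (h.1 v) z = 0 := hzW _ (Submodule.subset_span ⟨0, rfl⟩)
    have hfz : polar P f z = 0 := hzW _ (Submodule.subset_span ⟨1, rfl⟩)
    refine hw (hF.quad_eq_zero_of_fixed hM hR hv0 hv hh hf0 hf hfz hz ?_)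
    rw [hF.uK_apply hf hfz, hwf, hwz, zero_smul, mul_zero, add_zero, add_zero, zero_smul, sub_zero]
  have horth : ∀ h ∈ M, ∀ v v' : V, P v = 0 → P v' = 0 → polar P v v' = 0 →
      polar P (h.1 v) (h.1 v') = 0 := by
    intro h hh v v' hv hv' hvv
    have := hsing h hh (v + v') (by rw [quad_add, hv, hv', hvv, add_zero, add_zero])
    rwa [map_add, quad_add, hsing h hh v hv, hsing h hh v' hv', zero_add, zero_add] at this
  intro h hh
  obtain ⟨e, he0, he⟩ := hF.exists_singular
  refine hF.semi_of_line hM hR he0 he hh (hsing h hh e he) fun k => ?_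
  have hke : P (k • e) = 0 := by rw [quad_smul, he, mul_zero]
  by_contra hc
  push Not at hc
  set w := h.1 e
  set x := h.1 (k • e) with hx
  have hw : w ≠ 0 := fun h' => he0 (h.1.injective (h'.trans (map_zero h.1).symm))
  have hli : LinearIndependent K ![w, x] :=
    (LinearIndependent.pair_iff' hw).2 fun a ha => hc a ha.symm
  obtain ⟨y, hy⟩ := exists_polar_eq_on hF.ndP (Submodule.span K (Set.range ![w, x]))
    (Basis.constr (Basis.span hli) K ![(0 : K), 1])
  have hwy : polar P w y = 0 := by
    have h := hy (Basis.span hli 0)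
    rw [Basis.constr_basis] at h
    simpa [Basis.span_apply] using h
  have hxy : polar P x y = 1 := by
    have h := hy (Basis.span hli 1)
    rw [Basis.constr_basis] at h
    simpa [Basis.span_apply] using h
  have hwx : polar P w x = 0 := horth h hh e (k • e) he hke (by
    rw [polar_smul_right, polar_self, he, smul_zero, smul_zero])
  have hxx : P x = 0 := hsing h hh _ hke
  set y' := y + (-(P y)) • x with hy'
  have h1 : polar P w y' = 0 := by rw [hy', polar_add_right, polar_smul_right, hwy, hwx, smul_zero, add_zero]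
  have h2 : polar P x y' = 1 := by
    rw [hy', polar_add_right, polar_smul_right, polar_self, hxx, smul_zero, smul_zero, hxy, add_zero]
  have h3 : P y' = 0 := by
    rw [hy', quad_add, quad_smul, hxx, polar_smul_right, polar_comm (⇑P) y x, hxy, smul_eq_mul]; ring
  have h4 := hsing h⁻¹ (inv_mem hh) y' h3
  have h5 := horth h⁻¹ (inv_mem hh) w y' (hsing h hh e he) h3 h1
  have h6 : polar P (k • e) ((h⁻¹).1 y') = 0 := by
    rw [polar_smul_left]
    rw [show (h⁻¹).1 w = e from LinearEquiv.symm_apply_apply _ e] at h5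
    rw [h5, smul_zero]
  have h7 := horth h hh _ _ hke h4 h6
  rw [show h.1 ((h⁻¹).1 y') = y' from LinearEquiv.apply_symm_apply _ y', ← hx, h2] at h7
  exact one_ne_zero h7

end CfsgLib.OrthField
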