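import Cfsg.Agent.OrthField.Frame

/-!
Long root maps at a singular line in an overgroup, and elements of `Ω` over the larger field moving the centre.
-/

set_option autoImplicit false
set_option linter.unusedSectionVars false
set_option linter.unusedVariables false
set_option linter.style.haveILetI false

namespace CfsgLib.OrthField

open QuadraticMap CfsgLib.Forms CfsgLib.Quad Module

variable {F : Type*} [Field F] [Finite F] {K : Type*} [Field K] [Finite K] [Algebra F K]
  {V : Type*} [AddCommGroup V] [Module F V] [Module K V] [IsScalarTower F K V] [Finite V]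
  {Q : QuadraticForm F V} {P : QuadraticForm K V}

/-- The map adds `g` of the product with `e`, as a multiple of `e`. -/
def IsLong (P : QuadraticForm K V) (e : V) (g : K →ₗ[F] K) (b : oGroup Q) : Prop :=
  ∀ x, b.1 x = x + g (polar P x e) • e

theorem IsLong.mul {e : V} (he : P e = 0) {g g' : K →ₗ[F] K} {b b' : oGroup Q} (hb : IsLong P e g b)
    (hb' : IsLong P e g' b') : IsLong P e (g + g') (b * b') := fun x => by
  show b.1 (b'.1 x) = _
  rw [hb, hb', polar_add_left, polar_smul_left, polar_self, he, smul_zero, smul_zero, add_zero,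
    LinearMap.add_apply, add_smul]
  abel

theorem IsLong.inv {e : V} (he : P e = 0) {g : K →ₗ[F] K} {b : oGroup Q} (hb : IsLong P e g b) :
    IsLong P e (-g) b⁻¹ := fun x => by
  show b.1.symm x = _
  rw [LinearEquiv.symm_apply_eq, hb, polar_add_left, polar_smul_left, polar_self, he, smul_zero,
    smul_zero, add_zero, LinearMap.neg_apply, neg_smul, neg_add_cancel_right]

theorem IsLong.ext {e : V} {g : K →ₗ[F] K} {b b' : oGroup Q} (hb : IsLong P e g b)
    (hb' : IsLong P e g b') : b = b' :=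
  Subtype.ext (LinearEquiv.ext fun x => by rw [hb, hb'])

variable (hF : Fld Q P)

include hF

omit hF in
/-- The long root maps of an overgroup at a singular vector. -/
def longs (M : Subgroup (oGroup Q)) {e : V} (he : P e = 0) : AddSubgroup (K →ₗ[F] K) where
  carrier := {g | ∃ b ∈ M, IsLong P e g b}
  zero_mem' := ⟨1, one_mem M, fun x => by simp⟩
  add_mem' := fun {g g'} hg hg' => by
    obtain ⟨b, hb, hbl⟩ := hg
    obtain ⟨b', hb', hbl'⟩ := hg'
    exact ⟨b * b', mul_mem hb hb', hbl.mul he hbl'⟩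
  neg_mem' := fun {g} hg => by
    obtain ⟨b, hb, hbl⟩ := hg
    exact ⟨b⁻¹, inv_mem hb, hbl.inv he⟩

omit hF in
theorem mem_longs {M : Subgroup (oGroup Q)} {e : V} {he : P e = 0} {g : K →ₗ[F] K} :
    g ∈ longs M he ↔ ∃ b ∈ M, IsLong P e g b := Iff.rfl

theorem Fld.long_skew {e f : V} (hfr : Frame P e f) {g : K →ₗ[F] K} {b : oGroup Q}
    (hb : IsLong P e g b) (t : K) : Algebra.trace F K (t * g t) = 0 := by
  have h := b.2 (t • f)
  rw [hb, polar_smul_left, hfr.hfe, smul_eq_mul, mul_one] at h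
  rw [← hF.tr, ← hF.tr, quad_add, quad_smul, quad_smul, hfr.he, hfr.hf, polar_smul_left,
    polar_smul_right, hfr.hfe, smul_eq_mul, smul_eq_mul] at h
  simpa using h

theorem Fld.long_fix {e f : V} (hfr : Frame P e f) {b : oGroup Q}
    (hb : ∀ x, polar P e x = 0 → b.1 x = x) : ∃ g : K →ₗ[F] K, IsLong P e g b := by
  let g : K →ₗ[F] K :=
    { toFun := fun t => polar P (b.1 (t • f)) f
      map_add' := fun s t => by rw [add_smul, map_add, polar_add_left]
      map_smul' := fun c t => by
        rw [RingHom.id_apply, smul_assoc, map_smul, ← algebraMap_smul K c (b.1 (t • f)), polar_smul_left,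
          smul_eq_mul, ← Algebra.smul_def] }
  have hg : ∀ t : K, b.1 (t • f) = t • f + g t • e := fun t => by
    have hperp : ∀ y, polar P e y = 0 → polar P (b.1 (t • f) - t • f) y = 0 := fun y hy => by
      rw [polar_comm]
      refine hF.perp_line.1 fun k => ?_
      have h1 : polar P e (k • y) = 0 := by rw [polar_smul_right, hy, smul_zero]
      rw [polar_sub_right]
      conv_lhs => arg 1; rw [← hb _ h1, polar_oGroup]
      exact sub_self _
    have he' := hperp e hfr.hee
    have hmid : mid P e f (b.1 (t • f) - t • f) = 0 := by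
      refine hF.ndP.1 _ fun y => ?_
      show polar P _ y = 0
      rw [hfr.polar_eq, hfr.mid_of_perp (hfr.mid_e _) (hfr.mid_f _), polar_comm (⇑P) (mid P e f _) f,
        hfr.mid_f, polar_comm (⇑P) (mid P e f _) e, hfr.mid_e, zero_mul, zero_mul, zero_add, zero_add]
      have h2 := hperp _ (hfr.mid_e y)
      rw [hfr.polar_eq, hfr.mid_of_perp (hfr.mid_e y) (hfr.mid_f y), polar_comm (⇑P) (mid P e f y) e,
        hfr.mid_e, polar_comm (⇑P) (mid P e f y) f, hfr.mid_f, mul_zero, mul_zero, zero_add,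
        zero_add] at h2
      exact h2
    have h := hfr.decomp (b.1 (t • f) - t • f)
    rw [hmid, he', zero_smul, add_zero, add_zero, polar_sub_left, polar_smul_left, hfr.hff, smul_zero,
      sub_zero, sub_eq_iff_eq_add] at h
    rw [h, add_comm]
    rfl
  refine ⟨g, fun x => ?_⟩
  have h1 : polar P e (x - polar P x e • f) = 0 := by
    rw [polar_sub_right, polar_smul_right, hfr.hef, smul_eq_mul, mul_one, polar_comm (⇑P) e x, sub_self]
  conv_lhs => rw [← sub_add_cancel x (polar P x e • f), map_add, hb _ h1, hg]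
  abel

theorem Fld.uK_mem_all {M : Subgroup (oGroup Q)} (hM : Over K M) {e f : V} (hfr : Frame P e f) {z : V}
    (hez : polar P e z = 0) (hfz : polar P f z = 0) : hF.uK e z ∈ M := by
  obtain ⟨a, b, ha, hb, hea, -, heb, -, rfl⟩ := hF.exists_aniso_split hfr hez hfz
  rw [← hF.uK_mul hfr.he hea heb]
  exact mul_mem (hF.uK_mem hM hfr.he hea ha) (hF.uK_mem hM hfr.he heb hb)

variable {M : Subgroup (oGroup Q)} (hM : Over K M)

include hM

/-- Long root maps are moved by the semilinear isometries. -/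
theorem Fld.longs_move {g₀ : oGroup P} (hg₀ : g₀ ∈ commutator (oGroup P)) {e : V} (he : P e = 0)
    (he' : P (g₀.1 e) = 0) {g : K →ₗ[F] K} (hg : g ∈ longs M he) : g ∈ longs M he' := by
  obtain ⟨b, hb, hbl⟩ := hg
  have h0 := hF.res_mem hM hg₀
  refine ⟨hF.res g₀ * b * (hF.res g₀)⁻¹, mul_mem (mul_mem h0 hb) (inv_mem h0), fun x => ?_⟩
  obtain ⟨y, rfl⟩ := g₀.1.surjective x
  show (hF.res g₀).1 (b.1 ((hF.res g₀).1.symm (g₀.1 y))) = _
  rw [show (hF.res g₀).1.symm (g₀.1 y) = y from LinearEquiv.symm_apply_apply _ y, hbl, map_add,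
    hF.res_apply, hF.res_apply, LinearEquiv.map_smul g₀.1, polar_oGroup]

omit hM in
theorem Fld.longs_smul {e : V} (he : P e = 0) {c : K} (hce : P (c • e) = 0) {g : K →ₗ[F] K}
    (hg : g ∈ longs M hce) :
    ((LinearMap.mulLeft F c).comp g).comp (LinearMap.mulLeft F c) ∈ longs M he := by
  obtain ⟨b, hb, hbl⟩ := hg
  refine ⟨b, hb, fun x => ?_⟩
  rw [hbl, polar_smul_right, smul_eq_mul, smul_smul, mul_comm (g _) c]
  rfl

omit hM in
theorem Fld.quad_swap {e f : V} (hfr : Frame P e f) (s : K) : P (e - s • f) = -s := by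
  rw [sub_eq_add_neg, ← neg_smul, quad_add, quad_smul, hfr.he, hfr.hf, polar_smul_right, hfr.hef,
    smul_eq_mul]
  ring

omit hM in
theorem Fld.refl_swap_e {e f : V} (hfr : Frame P e f) {s : K} (hs : s ≠ 0) :
    (refl P (e - s • f)).1 e = s • f := by
  rw [refl_apply, hF.quad_swap hfr, polar_sub_right, polar_smul_right, hfr.hee, hfr.hef, smul_eq_mul,
    mul_one, zero_sub, inv_neg, neg_neg, mul_neg, inv_mul_cancel₀ hs, neg_smul, one_smul]
  abel

omit hM in
theorem Fld.refl_swap_f {e f : V} (hfr : Frame P e f) {s : K} (hs : s ≠ 0) (t : K) :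
    (refl P (e - s • f)).1 (t • f) = (t / s) • e := by
  rw [refl_apply, hF.quad_swap hfr, polar_smul_left, polar_sub_right, hfr.hfe, polar_smul_right, hfr.hff,
    smul_eq_mul, smul_eq_mul, mul_zero, sub_zero, mul_one, inv_neg, neg_neg, smul_sub, smul_smul,
    show s⁻¹ * t * s = t by rw [mul_comm s⁻¹ t, mul_assoc, inv_mul_cancel₀ hs, mul_one],
    div_eq_inv_mul]
  abel

omit hM in
/-- An element of `Ω` scaling the centre by a square, or by anything when the middle is large enough. -/
theorem Fld.exists_scale {e f : V} (hfr : Frame P e f) {c : K} (hc : c ≠ 0)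
    (h : IsSquare c ∨ ∃ a b, P a ≠ 0 ∧ P b ≠ 0 ∧ polar P e a = 0 ∧ polar P e b = 0 ∧
      IsSquare (c * (P a * P b))) :
    ∃ g ∈ commutator (oGroup P), g.1 e = c • e := by
  have h2 : (refl P (e - c⁻¹ • f)).1 ((1 : K) • f) = c • e := by
    rw [hF.refl_swap_f hfr (inv_ne_zero hc), one_div, inv_inv]
  have h1 : (refl P (e - (1 : K) • f)).1 e = (1 : K) • f := hF.refl_swap_e hfr one_ne_zero
  have hne1 : P (e - (1 : K) • f) ≠ 0 := by rw [hF.quad_swap hfr]; exact neg_ne_zero.2 one_ne_zero
  have hne2 : P (e - c⁻¹ • f) ≠ 0 := by rw [hF.quad_swap hfr]; exact neg_ne_zero.2 (inv_ne_zero hc)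
  have hgen : (∃ t : K, t ≠ 0 ∧ t ≠ 1) ∨ finrank K V ≠ 4 :=
    Or.inl ⟨-1, neg_ne_zero.2 one_ne_zero, fun h => hF.two' (by linear_combination -h)⟩
  rcases h with h | ⟨a, b, ha, hb, hea, heb, hsq⟩
  · refine ⟨reflProd P [e - c⁻¹ • f, e - (1 : K) • f], ?_, ?_⟩
    · refine (reflProd_mem_commutator_iff hF.ndP hgen (by simpa using ⟨hne2, by simpa using hne1⟩)).2 ⟨by simp, ?_⟩
      have : c⁻¹ = c * (c⁻¹ * c⁻¹) := by field_simp
      simp only [List.map_cons, List.map_nil, List.prod_cons, List.prod_nil, hF.quad_swap hfr]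
      rw [show -c⁻¹ * (-1 * 1) = c⁻¹ by ring, this]
      exact h.mul (IsSquare.mul_self _)
    · simp only [reflProd, List.map_cons, List.map_nil, List.prod_cons, List.prod_nil, mul_one]
      show (refl P (e - c⁻¹ • f)).1 ((refl P (e - (1 : K) • f)).1 e) = _
      rw [h1, h2]
  · refine ⟨reflProd P [e - c⁻¹ • f, e - (1 : K) • f, a, b], ?_, ?_⟩
    · refine (reflProd_mem_commutator_iff hF.ndP hgen (by simpa using ⟨hne2, by simpa using hne1, ha, hb⟩)).2
        ⟨by simp [Nat.even_iff], ?_⟩
      simp only [List.map_cons, List.map_nil, List.prod_cons, List.prod_nil, hF.quad_swap hfr]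
      rw [show -c⁻¹ * (-1 * (P a * (P b * 1))) = c * (P a * P b) * (c⁻¹ * c⁻¹) by field_simp]
      exact hsq.mul (IsSquare.mul_self _)
    · simp only [reflProd, List.map_cons, List.map_nil, List.prod_cons, List.prod_nil, mul_one]
      show (refl P (e - c⁻¹ • f)).1 ((refl P (e - (1 : K) • f)).1 ((refl P a).1 ((refl P b).1 e))) = _
      rw [refl_apply b e, heb, mul_zero, zero_smul, add_zero, refl_apply a e, hea, mul_zero, zero_smul,
        add_zero, h1, h2]

omit hM in
/-- An element of `Ω` carrying the centre to the opposite one. -/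
theorem Fld.exists_swap {e f : V} (hfr : Frame P e f) {d : V} (hd : P d ≠ 0) (hed : polar P e d = 0)
    {s : K} (hs : s ≠ 0) (hsq : IsSquare (-s * P d)) :
    ∃ g ∈ commutator (oGroup P), g.1 e = s • f := by
  refine ⟨refl P (e - s • f) * refl P d, ?_, ?_⟩
  · have hne : P (e - s • f) ≠ 0 := by rw [hF.quad_swap hfr]; exact neg_ne_zero.2 hs
    exact refl_pair_mem_commutator hF.ndP hne hd (by rw [hF.quad_swap hfr]; exact hsq)
  · show (refl P (e - s • f)).1 ((refl P d).1 e) = _
    rw [refl_apply d e, hed, mul_zero, zero_smul, add_zero, hF.refl_swap_e hfr hs]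

/-- The long root maps are stable under the scalings by squares. -/
theorem Fld.longs_scale {e f : V} (hfr : Frame P e f) {c : K} (hc : c ≠ 0)
    (h : IsSquare c ∨ ∃ a b, P a ≠ 0 ∧ P b ≠ 0 ∧ polar P e a = 0 ∧ polar P e b = 0 ∧
      IsSquare (c * (P a * P b)))
    {g : K →ₗ[F] K} (hg : g ∈ longs M hfr.he) :
    ((LinearMap.mulLeft F c).comp g).comp (LinearMap.mulLeft F c) ∈ longs M hfr.he := by
  obtain ⟨g₀, hg₀, hge⟩ := hF.exists_scale hfr hc h
  have hce : P (c • e) = 0 := by rw [quad_smul, hfr.he, mul_zero]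
  have hge' : P (g₀.1 e) = 0 := by rw [hge]; exact hce
  refine hF.longs_smul hfr.he hce ?_
  have := hF.longs_move hM hg₀ hfr.he hge' hg
  obtain ⟨b, hb, hbl⟩ := this
  exact ⟨b, hb, hge ▸ hbl⟩

end CfsgLib.OrthField
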