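import Cfsg.Agent.Aschbacher.FieldMax.TracePairs
import Mathlib.FieldTheory.Finite.Basic

/-!
Additive groups of skew maps of a finite field stable under the twisted scalings by squares contain the whole pair
of each of their components; a skew map is made of its pairs.
-/

set_option autoImplicit false
set_option linter.unusedSectionVars false
set_option linter.style.haveILetI false

namespace CfsgLib.OrthField

open Module CfsgLib.FieldMax

variable {F : Type*} [Field F] [Finite F] {K : Type*} [Field K] [Finite K] [Algebra F K]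

/-- Skew for the trace form. -/
def Skew (g : K →ₗ[F] K) : Prop := ∀ t, Algebra.trace F K (t * g t) = 0

/-- The pair of an automorphism and its inverse, skew. -/
noncomputable def skewPair (σ : K →ₐ[F] K) (t : K) : K →ₗ[F] K :=
  t • σ.toLinearMap - (ainv σ) t • (ainv σ).toLinearMap

theorem skewPair_apply (σ : K →ₐ[F] K) (t x : K) :
    skewPair σ t x = t * σ x - ainv σ t * ainv σ x := rfl

theorem Skew.isAdj {g : K →ₗ[F] K} (hg : Skew g) : IsAdj g (-g) := fun x y => by
  have h := hg (x + y)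
  rw [map_add, add_mul, mul_add, mul_add, map_add, map_add, map_add, hg x, hg y, zero_add, add_zero] at h
  rw [LinearMap.neg_apply, mul_neg, map_neg, mul_comm (g x) y]
  linear_combination h

theorem skew_skewPair (σ : K →ₐ[F] K) (t : K) : Skew (skewPair σ t) := fun x => by
  rw [skewPair_apply, mul_sub, map_sub, sub_eq_zero]
  have h := isAdj_smul t σ x x
  simp only [LinearMap.smul_apply, AlgHom.toLinearMap_apply, smul_eq_mul] at h
  rw [← h, mul_comm x]

theorem ainv_ainv (σ : K →ₐ[F] K) : ainv (ainv σ) = σ := AlgHom.ext fun x => by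
  have h1 := ainv_apply (ainv σ) (σ x)
  rwa [ainv_apply σ] at h1

theorem skewPair_repr (σ : K →ₐ[F] K) (t : K) (ρ : K →ₐ[F] K) [Decidable (σ = ρ)] [Decidable (ainv σ = ρ)] :
    (autBasis F K).repr (skewPair σ t) ρ =
      (if σ = ρ then t else 0) - if ainv σ = ρ then ainv σ t else 0 := by
  rw [skewPair, map_sub, Finsupp.sub_apply, autBasis_repr_smul, autBasis_repr_smul]

theorem Skew.repr_ainv {g : K →ₗ[F] K} (hg : Skew g) (σ : K →ₐ[F] K) :
    (autBasis F K).repr g (ainv σ) = -(ainv σ ((autBasis F K).repr g σ)) := by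
  have h := adj_repr hg.isAdj σ
  rw [map_neg, Finsupp.neg_apply] at h
  rw [← h, neg_neg]

theorem Skew.repr_id (h2 : (2 : K) ≠ 0) {g : K →ₗ[F] K} (hg : Skew g) :
    (autBasis F K).repr g (AlgHom.id F K) = 0 := by
  have hid : ainv (AlgHom.id F K) = AlgHom.id F K :=
    AlgHom.ext fun x => ainv_apply (AlgHom.id F K) x
  have h := hg.repr_ainv (AlgHom.id F K)
  rw [hid, AlgHom.id_apply] at h
  exact (mul_eq_zero.1 (show (2 : K) * _ = 0 by rw [two_mul]; linear_combination h)).resolve_left h2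

/-- Skew maps are sums of pairs, up to a factor two. -/
theorem mem_of_pairs (h2 : (2 : F) ≠ 0) {D : AddSubgroup (K →ₗ[F] K)}
    (h : ∀ σ : K →ₐ[F] K, σ ≠ AlgHom.id F K → ∀ t, skewPair σ t ∈ D) {g : K →ₗ[F] K} (hg : Skew g) :
    g ∈ D := by
  classical
  haveI : Fintype (K →ₐ[F] K) := Fintype.ofFinite _
  have hid : ainv (AlgHom.id F K) = AlgHom.id F K :=
    AlgHom.ext fun x => ainv_apply (AlgHom.id F K) x
  have hsum : g + g ∈ D := by
    have e : g + g = ∑ σ : K →ₐ[F] K, skewPair σ ((autBasis F K).repr g σ) := by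
      refine (autBasis F K).repr.injective (Finsupp.ext fun ρ => ?_)
      rw [map_add, Finsupp.add_apply, map_sum, Finsupp.finsetSum_apply]
      simp only [skewPair_repr, Finset.sum_sub_distrib, Finset.sum_ite_eq', Finset.mem_univ, if_pos]
      rw [Finset.sum_eq_single (ainv ρ), if_pos (ainv_ainv ρ)]
      · rw [ainv_ainv, hg.repr_ainv ρ]
        have := congrArg ρ (show ((autBasis F K).repr g ρ) = (autBasis F K).repr g ρ from rfl)
        rw [map_neg]
        have h3 := hg.repr_ainv (ainv ρ)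
        rw [ainv_ainv] at h3
        rw [show ρ (ainv ρ ((autBasis F K).repr g ρ)) = (autBasis F K).repr g ρ from apply_ainv ρ _]
        ring
      · intro σ _ hσ
        rw [if_neg]
        intro e
        exact hσ (by rw [← e, ainv_ainv])
      · simp
    rw [e]
    refine D.sum_mem fun σ _ => ?_
    by_cases hσ : σ = AlgHom.id F K
    · subst hσ
      rw [show skewPair (AlgHom.id F K) ((autBasis F K).repr g (AlgHom.id F K)) = 0 by
        rw [skewPair, hid, AlgHom.id_apply, sub_self]]
      exact D.zero_mem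
    · exact h σ hσ _
  haveI := ringChar.charP F
  have hodd : Odd (ringChar F) := (CharP.char_is_prime F (ringChar F)).odd_of_ne_two fun e => h2 (by
    have := ringChar.Nat.cast_ringChar (R := F)
    rw [e] at this
    exact_mod_cast this)
  obtain ⟨m, hm⟩ := hodd
  have : g = (m + 1) • (g + g) := by
    rw [← two_smul ℕ g, smul_smul, show (m + 1) * 2 = ringChar F + 1 by omega, add_smul, one_smul,
      ← Nat.cast_smul_eq_nsmul F, ringChar.Nat.cast_ringChar, zero_smul, zero_add]
  rw [this]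
  exact D.nsmul_mem hsum _

/-- Two sums of two distinct powers agree only when the exponents do. -/
theorem two_pow_sum {p N a b c d : ℕ} (hp : 3 ≤ p) (hN : 3 ≤ N) (ha : a < N) (hb : b < N) (hc : c < N)
    (hd : d < N) (hab : a ≠ b) (hcd : c ≠ d)
    (h : 2 * (p ^ a + p ^ b) ≡ 2 * (p ^ c + p ^ d) [MOD p ^ N - 1]) :
    (a = c ∧ b = d) ∨ (a = d ∧ b = c) := by
  have hbound : ∀ a b : ℕ, a < b → b < N → 2 * (p ^ a + p ^ b) < p ^ N - 1 := by
    intro a b hab hb
    obtain ⟨N', rfl⟩ : ∃ N', N = N' + 2 := ⟨N - 2, by omega⟩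
    have h1 : p ^ a ≤ p ^ N' := Nat.pow_le_pow_right (by omega) (by omega)
    have h2 : p ^ b ≤ p ^ (N' + 1) := Nat.pow_le_pow_right (by omega) (by omega)
    have h3 : 3 ≤ p ^ N' := le_trans hp (Nat.le_self_pow (by omega) p)
    rw [pow_succ] at h2
    rw [pow_add, show p ^ 2 = p * p by ring]
    have h4 : p ^ N' * (2 * p + 3) ≤ p ^ N' * (p * p) := Nat.mul_le_mul_left _ (by nlinarith)
    have h5 : p ^ N' * (2 * p + 3) = 2 * (p ^ N' * p) + 3 * p ^ N' := by ring
    omega
  have hbound' : ∀ a b : ℕ, a < N → b < N → a ≠ b → 2 * (p ^ a + p ^ b) < p ^ N - 1 := fun a b ha hb hab => by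
    rcases lt_or_gt_of_ne hab with h | h
    · exact hbound a b h hb
    · rw [add_comm]; exact hbound b a h ha
  have heq := h.eq_of_lt_of_lt (hbound' a b ha hb hab) (hbound' c d hc hd hcd)
  have heq' : p ^ a + p ^ b = p ^ c + p ^ d := by omega
  have key : ∀ a b c d : ℕ, a < b → c < d → p ^ a + p ^ b = p ^ c + p ^ d → a = c ∧ b = d := by
    intro a b c d hab hcd e
    have h1 : ∀ x y z w : ℕ, x < y → z < w → p ^ x + p ^ y = p ^ z + p ^ w → x ≤ z → x = z := by
      intro x y z w hxy hzw e hxz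
      by_contra hne
      have hd1 : p ^ (x + 1) ∣ p ^ z + p ^ w :=
        Nat.dvd_add (pow_dvd_pow p (by omega)) (pow_dvd_pow p (by omega))
      rw [← e] at hd1
      have hd2 := (Nat.dvd_add_left (pow_dvd_pow p (by omega : x + 1 ≤ y))).1 hd1
      have := Nat.le_of_dvd (pow_pos (by omega) _) hd2
      rw [pow_succ] at this
      have := pow_pos (show 0 < p by omega) x
      nlinarith
    have hac : a = c := by
      rcases le_total a c with h | h
      · exact h1 a b c d hab hcd e h
      · exact (h1 c d a b hcd hab e.symm h).symm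
    subst hac
    exact ⟨rfl, Nat.pow_right_injective (by omega) (by omega : p ^ b = p ^ d)⟩
  rcases lt_or_gt_of_ne hab with h1 | h1 <;> rcases lt_or_gt_of_ne hcd with h2 | h2
  · exact Or.inl (key _ _ _ _ h1 h2 heq')
  · exact Or.inr (key _ _ _ _ h1 h2 (heq'.trans (add_comm _ _)))
  · exact Or.inr (and_comm.1 (key _ _ _ _ h1 h2 ((add_comm _ _).trans heq')))
  · exact Or.inl (and_comm.1 (key _ _ _ _ h1 h2 (by omega)))

/-- Some component brings in its whole pair. -/
theorem pairs_of_component (h2 : (2 : F) ≠ 0) (hr : (finrank F K).Prime) (hr2 : finrank F K ≠ 2)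
    {D : AddSubgroup (K →ₗ[F] K)} (hskew : ∀ g ∈ D, Skew g)
    (hscale : ∀ g ∈ D, ∀ c : K, c ≠ 0 → IsSquare c →
      ((LinearMap.mulLeft F c).comp g).comp (LinearMap.mulLeft F c) ∈ D)
    {g : K →ₗ[F] K} (hg : g ∈ D) {σ : K →ₐ[F] K} (hσ : σ ≠ AlgHom.id F K)
    (hc : (autBasis F K).repr g σ ≠ 0) (t : K) : skewPair σ t ∈ D := by
  classical
  haveI := Fintype.ofFinite F
  haveI := Fintype.ofFinite K
  haveI : Fintype (K →ₐ[F] K) := Fintype.ofFinite _
  have h2K : (2 : K) ≠ 0 := fun h => h2 ((algebraMap F K).injective (by rw [map_ofNat, map_zero, h]))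
  set p := ringChar F with hp
  haveI := ringChar.charP F
  obtain ⟨e, hp', hFq⟩ := FiniteField.card F p
  haveI := Fact.mk hp'
  haveI : CharP K p := charP_of_injective_algebraMap (algebraMap F K).injective p
  have hp3 : 3 ≤ p := by
    rcases Nat.lt_or_ge p 3 with h | h
    · exfalso
      have h22 : p = 2 := by have := hp'.two_le; omega
      refine h2 ?_
      have := ringChar.Nat.cast_ringChar (R := F)
      rw [← hp, h22] at this
      exact_mod_cast this
    · exact h
  set r := finrank F K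
  have hr3 : 3 ≤ r := by have := hr.two_le; omega
  obtain ⟨N, hN⟩ : ∃ N, N = (e : ℕ) * r := ⟨_, rfl⟩
  have hepos : 1 ≤ (e : ℕ) := e.pos
  have hN3 : 3 ≤ N := hN ▸ le_trans hr3 (Nat.le_mul_of_pos_left r hepos)
  have hKq : Fintype.card K = p ^ N := by
    rw [hN, pow_mul, ← hFq]
    exact Module.card_eq_pow_finrank
  have hperiod : ∀ (x : K) (i : ℕ), x ^ p ^ i = x ^ p ^ (i % N) := by
    intro x i
    conv_lhs => rw [← Nat.mod_add_div i N, pow_add, pow_mul]
    generalize x ^ p ^ (i % N) = y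
    induction i / N with
    | zero => simp
    | succ k ih => rw [Nat.mul_succ, pow_add, pow_mul, ih, ← hKq, FiniteField.pow_card]
  have hfrob : ∀ τ : K →ₐ[F] K, ∃ s, s < N ∧ (τ ≠ AlgHom.id F K → s ≠ 0) ∧ (∀ x, τ x = x ^ p ^ s) ∧
      ((2 * s) % N = 0 → τ = AlgHom.id F K) := by
    intro τ
    obtain ⟨j, rfl⟩ := (FiniteField.bijective_frobeniusAlgHom_pow F K).2 τ
    have hx : ∀ x, (FiniteField.frobeniusAlgHom F K ^ (j : ℕ)) x = x ^ p ^ ((e : ℕ) * j) := by
      intro x
      rw [pow_mul, ← hFq]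
      induction (j : ℕ) generalizing x with
      | zero => simp
      | succ k ih =>
        rw [pow_succ, AlgHom.mul_apply, ih, FiniteField.coe_frobeniusAlgHom, ← pow_mul, ← pow_succ']
    refine ⟨(e : ℕ) * j, ?_, ?_, hx, ?_⟩
    · rw [hN]; exact Nat.mul_lt_mul_of_pos_left j.2 hepos
    · intro hne h0
      refine hne ?_
      have : (j : ℕ) = 0 := by
        rcases Nat.mul_eq_zero.1 h0 with h | h
        · omega
        · exact h
      show FiniteField.frobeniusAlgHom F K ^ (j : ℕ) = _
      rw [this, pow_zero]; rfl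
    · intro h0
      rw [hN, Nat.mul_left_comm, Nat.mul_mod_mul_left] at h0
      have hdvd : r ∣ 2 * (j : ℕ) := Nat.dvd_of_mod_eq_zero
        ((Nat.mul_eq_zero.1 h0).resolve_left (by omega))
      rcases hr.dvd_mul.1 hdvd with h | h
      · exact absurd (Nat.le_of_dvd two_pos h) (by omega)
      · have : (j : ℕ) = 0 := Nat.eq_zero_of_dvd_of_lt h j.2
        show FiniteField.frobeniusAlgHom F K ^ (j : ℕ) = _
        rw [this, pow_zero]; rfl
  obtain ⟨u, hu⟩ := IsCyclic.exists_generator (α := Kˣ)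
  have hord : orderOf u = p ^ N - 1 := by
    rw [orderOf_eq_card_of_forall_mem_zpowers hu, Nat.card_eq_fintype_card, Fintype.card_units, hKq]
  have hupow : ∀ A B : ℕ, (u : K) ^ A = (u : K) ^ B → A ≡ B [MOD p ^ N - 1] := fun A B h => by
    rw [← hord]
    exact pow_eq_pow_iff_modEq.1 (Units.ext (by simpa using h))
  -- the ring of multipliers
  let T : ((K →ₐ[F] K) → K) → (K →ₗ[F] K) → (K →ₗ[F] K) := fun x h =>
    ∑ τ, (x τ * (autBasis F K).repr h τ) • τ.toLinearMap
  have hTr : ∀ x h ρ, (autBasis F K).repr (T x h) ρ = x ρ * (autBasis F K).repr h ρ := by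
    intro x h ρ
    rw [map_sum, Finsupp.finsetSum_apply]
    simp only [autBasis_repr_smul, Finset.sum_ite_eq', Finset.mem_univ, if_pos]
  have hext : ∀ h h' : K →ₗ[F] K, (∀ ρ, (autBasis F K).repr h ρ = (autBasis F K).repr h' ρ) → h = h' :=
    fun h h' hh => (autBasis F K).repr.injective (Finsupp.ext hh)
  let A : Subring ((K →ₐ[F] K) → K) :=
    { carrier := {x | ∀ h ∈ D, T x h ∈ D}
      one_mem' := fun h hh => by
        rw [hext (T 1 h) h fun ρ => by rw [hTr, Pi.one_apply, one_mul]]; exact hh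
      mul_mem' := fun {x y} hx hy h hh => by
        rw [hext (T (x * y) h) (T x (T y h)) fun ρ => by rw [hTr, hTr, hTr, Pi.mul_apply, mul_assoc]]
        exact hx _ (hy h hh)
      zero_mem' := fun h hh => by
        rw [hext (T 0 h) 0 fun ρ => by rw [hTr, Pi.zero_apply, zero_mul, map_zero, Finsupp.zero_apply]]
        exact D.zero_mem
      add_mem' := fun {x y} hx hy h hh => by
        rw [hext (T (x + y) h) (T x h + T y h) fun ρ => by
          rw [map_add, Finsupp.add_apply, hTr, hTr, hTr, Pi.add_apply, add_mul]]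
        exact D.add_mem (hx h hh) (hy h hh)
      neg_mem' := fun {x} hx h hh => by
        rw [hext (T (-x) h) (-T x h) fun ρ => by
          rw [map_neg, Finsupp.neg_apply, hTr, hTr, Pi.neg_apply, neg_mul]]
        exact D.neg_mem (hx h hh) }
  set χ : (K →ₐ[F] K) → K := fun τ => ((u : K) * u) * τ ((u : K) * u) with hχ
  have hχA : χ ∈ A := by
    intro h hh
    have := hscale h hh ((u : K) * u) (mul_ne_zero u.ne_zero u.ne_zero) (IsSquare.mul_self _)
    convert this using 1
    refine hext _ _ fun ρ => ?_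
    rw [hTr, autBasis_repr_compMul, show (LinearMap.mulLeft F ((u : K) * u)).comp h = ((u : K) * u) • h from
      LinearMap.ext fun x => by simp [mul_assoc], map_smul, Finsupp.smul_apply, smul_eq_mul, hχ]
    ring
  have hχpow : ∀ τ : K →ₐ[F] K, ∀ s, (∀ x, τ x = x ^ p ^ s) → χ τ = (u : K) ^ (2 * (p ^ 0 + p ^ s)) := by
    intro τ s hs
    rw [hχ]; simp only [hs]
    ring
  -- projections are onto
  have honto : ∀ τ : K →ₐ[F] K, τ ≠ AlgHom.id F K → ∀ k, ∃ x ∈ A, x τ = k := by
    intro τ hτ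
    obtain ⟨s, hsN, hs0, hsx, hs2⟩ := hfrob τ
    let S : Subring K := A.map (Pi.evalRingHom (fun _ => K) τ)
    haveI : Finite S := inferInstance
    haveI : IsDomain S := inferInstance
    haveI := Fintype.ofFinite S
    letI : Field S := Fintype.fieldOfDomain S
    have hcharS : CharP S p := (RingHom.charP_iff S.subtype Subtype.val_injective p).2 inferInstance
    obtain ⟨d, -, hd⟩ := FiniteField.card S p
    have hall : ∀ x ∈ A, x τ ^ p ^ (d : ℕ) = x τ := by
      intro x hx
      have := FiniteField.pow_card (⟨x τ, x, hx, rfl⟩ : S)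
      rw [hd] at this
      exact congrArg Subtype.val this
    have h1 := hall χ hχA
    rw [hχpow τ s hsx] at h1
    have h2 : (u : K) ^ (2 * (p ^ ((d : ℕ) % N) + p ^ ((s + d) % N))) = (u : K) ^ (2 * (p ^ 0 + p ^ s)) := by
      rw [← h1, ← pow_mul, mul_assoc, pow_mul (u : K) 2, pow_mul (u : K) 2]
      generalize (u : K) ^ 2 = y
      rw [pow_add, ← hperiod, ← hperiod, ← pow_add, pow_zero, pow_add]
      ring_nf
    have hne : (d : ℕ) % N ≠ (s + d) % N := by
      intro h
      have := Nat.ModEq.add_right_cancel' (d : ℕ) (show 0 + (d : ℕ) ≡ s + d [MOD N] by rwa [zero_add])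
      exact hs0 hτ (Nat.eq_zero_of_dvd_of_lt ((Nat.modEq_zero_iff_dvd).1 this.symm) hsN)
    rcases two_pow_sum hp3 hN3 (Nat.mod_lt _ (by omega)) (Nat.mod_lt _ (by omega)) (by omega) hsN hne
      (Ne.symm (hs0 hτ)) (hupow _ _ h2) with ⟨hd0, -⟩ | ⟨hds, hsd⟩
    · have hSK : Fintype.card S = Fintype.card K := by
        have hle := Fintype.card_subtype_le (fun x => x ∈ S)
        have hd' : N ∣ (d : ℕ) := Nat.dvd_of_mod_eq_zero hd0
        have : N ≤ (d : ℕ) := Nat.le_of_dvd d.pos hd'
        refine le_antisymm hle ?_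
        rw [hd, hKq]
        exact Nat.pow_le_pow_right hp'.pos this
      intro k
      have hsurj : Function.Surjective (Subtype.val : S → K) :=
        ((Fintype.bijective_iff_injective_and_card _).2 ⟨Subtype.val_injective, hSK⟩).2
      obtain ⟨⟨y, x, hx, hxy⟩, rfl⟩ := hsurj k
      exact ⟨x, hx, hxy⟩
    · exfalso
      refine hτ (hs2 ?_)
      rw [← hsd, Nat.add_mod s (d : ℕ), hds, two_mul, Nat.add_mod s s, Nat.mod_eq_of_lt hsN]
  -- components are separated
  have hsep : ∀ τ : K →ₐ[F] K, τ ≠ σ → τ ≠ ainv σ → τ ≠ AlgHom.id F K → ∃ x ∈ A, x τ = 0 ∧ x σ ≠ 0 := by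
    intro τ hτσ hτσ' hτ
    by_contra hno
    push Not at hno
    choose ψ hψA hψ using honto τ hτ
    have hwd : ∀ x ∈ A, x σ = ψ (x τ) σ := fun x hx => sub_eq_zero.1 (hno (x - ψ (x τ)) (A.sub_mem hx (hψA _))
      (by rw [Pi.sub_apply, hψ, sub_self]))
    let φ : K →+* K :=
      { toFun := fun k => ψ k σ
        map_one' := by
          have := hwd 1 A.one_mem
          rw [Pi.one_apply, Pi.one_apply] at this; exact this.symm
        map_mul' := fun a b => by
          have := hwd (ψ a * ψ b) (A.mul_mem (hψA a) (hψA b))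
          rw [Pi.mul_apply, Pi.mul_apply, hψ, hψ] at this; exact this.symm
        map_zero' := by
          have := hwd 0 A.zero_mem
          rw [Pi.zero_apply, Pi.zero_apply] at this; exact this.symm
        map_add' := fun a b => by
          have := hwd (ψ a + ψ b) (A.add_mem (hψA a) (hψA b))
          rw [Pi.add_apply, Pi.add_apply, hψ, hψ] at this; exact this.symm }
    letI : Algebra (ZMod p) K := ZMod.algebra K p
    obtain ⟨a, ha⟩ := (FiniteField.bijective_frobeniusAlgHom_pow (ZMod p) K).2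
      { φ with commutes' := fun r => RingHom.congr_fun (RingHom.ext_zmod (φ.comp (algebraMap (ZMod p) K)) (algebraMap (ZMod p) K)) r }
    have hφpow : ∀ x, φ x = x ^ p ^ (a : ℕ) := by
      intro x
      rw [show φ x = (FiniteField.frobeniusAlgHom (ZMod p) K ^ (a : ℕ)) x from (AlgHom.congr_fun ha x).symm]
      clear ha
      induction (a : ℕ) generalizing x with
      | zero => simp
      | succ k ih =>
        rw [pow_succ, AlgHom.mul_apply, ih, FiniteField.coe_frobeniusAlgHom, ZMod.card, ← pow_mul, ← pow_succ']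
    obtain ⟨s, hsN, hs0, hsx, -⟩ := hfrob σ
    obtain ⟨s', hsN', hs0', hsx', -⟩ := hfrob τ
    have h1 : φ (χ τ) = χ σ := (hwd χ hχA).symm
    rw [hφpow, hχpow τ s' hsx', hχpow σ s hsx] at h1
    have h2 : (u : K) ^ (2 * (p ^ ((a : ℕ) % N) + p ^ ((s' + a) % N))) = (u : K) ^ (2 * (p ^ 0 + p ^ s)) := by
      rw [← h1, ← pow_mul, mul_assoc, pow_mul (u : K) 2, pow_mul (u : K) 2]
      generalize (u : K) ^ 2 = y
      rw [pow_add, ← hperiod, ← hperiod, ← pow_add, pow_zero, pow_add]
      ring_nf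
    have hne : (a : ℕ) % N ≠ (s' + a) % N := by
      intro h
      have := Nat.ModEq.add_right_cancel' (a : ℕ) (show 0 + (a : ℕ) ≡ s' + a [MOD N] by rwa [zero_add])
      exact hs0' hτ (Nat.eq_zero_of_dvd_of_lt ((Nat.modEq_zero_iff_dvd).1 this.symm) hsN')
    rcases two_pow_sum hp3 hN3 (Nat.mod_lt _ (by omega)) (Nat.mod_lt _ (by omega)) (by omega) hsN hne
      (Ne.symm (hs0 hσ)) (hupow _ _ h2) with ⟨ha0, has⟩ | ⟨has, ha0⟩
    · refine hτσ (AlgHom.ext fun x => ?_)
      rw [hsx, hsx', ← has, hperiod x s']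
      congr 2
      rw [Nat.add_mod, ha0]
      simp
    · refine hτσ' (AlgHom.ext fun x => σ.toRingHom.injective ?_)
      show σ (τ x) = σ (ainv σ x)
      rw [apply_ainv, hsx, hsx', ← pow_mul, ← pow_add, ← has, hperiod]
      rw [Nat.add_mod s', Nat.mod_mod, ← Nat.add_mod, ha0, pow_zero, pow_one]
  choose X hXA hX0 hX1 using hsep
  let Y : (K →ₐ[F] K) → ((K →ₐ[F] K) → K) := fun τ =>
    if h : τ ≠ σ ∧ τ ≠ ainv σ ∧ τ ≠ AlgHom.id F K then X τ h.1 h.2.1 h.2.2 else 1
  set P := ∏ τ, Y τ with hP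
  have hPA : P ∈ A := A.prod_mem fun τ _ => by
    simp only [Y]; split_ifs with h
    · exact hXA _ _ _ _
    · exact A.one_mem
  have hPσ : P σ ≠ 0 := by
    rw [hP, Finset.prod_apply]
    refine Finset.prod_ne_zero_iff.2 fun τ _ => ?_
    simp only [Y]; split_ifs with h
    · exact hX1 _ _ _ _
    · exact one_ne_zero
  have hPτ : ∀ τ, τ ≠ σ → τ ≠ ainv σ → τ ≠ AlgHom.id F K → P τ = 0 := by
    intro τ h1 h2 h3
    rw [hP, Finset.prod_apply]
    refine Finset.prod_eq_zero (Finset.mem_univ τ) ?_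
    simp only [Y, dif_pos (show τ ≠ σ ∧ τ ≠ ainv σ ∧ τ ≠ AlgHom.id F K from ⟨h1, h2, h3⟩)]
    exact hX0 _ _ _ _
  obtain ⟨x, hxA, hx⟩ := honto σ hσ (t / (P σ * (autBasis F K).repr g σ))
  have hmem : T (x * P) g ∈ D := A.mul_mem hxA hPA g hg
  have hσne : ainv σ ≠ σ := fun h => hr2 (ainv_eq_self hr hσ h)
  have hval : (autBasis F K).repr (T (x * P) g) σ = t := by
    rw [hTr, Pi.mul_apply, hx]; field_simp
  convert hmem using 1
  refine hext _ _ fun ρ => ?_
  rw [skewPair_repr]
  by_cases h1 : σ = ρ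
  · subst h1
    rw [if_pos rfl, if_neg hσne, sub_zero, hval]
  · by_cases h2' : ainv σ = ρ
    · subst h2'
      rw [if_neg h1, if_pos rfl, zero_sub, (hskew _ hmem).repr_ainv, hval]
    · rw [if_neg h1, if_neg h2', sub_zero, hTr]
      by_cases h3 : ρ = AlgHom.id F K
      · rw [h3, (hskew g hg).repr_id h2K, mul_zero]
      · rw [Pi.mul_apply, hPτ ρ (Ne.symm h1) (Ne.symm h2') h3, mul_zero, zero_mul]

end CfsgLib.OrthField
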