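import Cfsg.Agent.OrthField.Long
import Cfsg.Agent.OrthField.Skew
import Mathlib.FieldTheory.Finite.GaloisField

/-!
Long root maps in an overgroup: stability under scalings, the opposite centre, whole pairs.
-/

set_option autoImplicit false
set_option linter.unusedSectionVars false
set_option linter.unusedVariables false
set_option linter.style.haveILetI false

namespace CfsgLib.OrthField

open QuadraticMap CfsgLib.Forms CfsgLib.Quad Module CfsgLib.FieldMax

variable {F : Type*} [Field F] [Finite F] {K : Type*} [Field K] [Finite K] [Algebra F K]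
  {V : Type*} [AddCommGroup V] [Module F V] [Module K V] [IsScalarTower F K V] [Finite V]
  {Q : QuadraticForm F V} {P : QuadraticForm K V}

theorem scale_skewPair (σ : K →ₐ[F] K) (t c : K) :
    ((LinearMap.mulLeft F c).comp (skewPair σ t)).comp (LinearMap.mulLeft F c) = skewPair σ (t * c * σ c) :=
  LinearMap.ext fun x => by
    simp only [LinearMap.comp_apply, LinearMap.mulLeft_apply, skewPair_apply, map_mul, ainv_apply]
    ring

theorem skewPair_ainv (σ : K →ₐ[F] K) (t : K) : skewPair (ainv σ) t = -skewPair σ (σ t) :=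
  LinearMap.ext fun x => by
    rw [skewPair_apply, LinearMap.neg_apply, skewPair_apply, ainv_ainv, ainv_apply]
    ring

variable (hF : Fld Q P)

include hF

theorem Fld.skew_longs {M : Subgroup (oGroup Q)} {e : V} (he0 : e ≠ 0) (he : P e = 0) {g : K →ₗ[F] K}
    (hg : g ∈ longs M he) : Skew g := by
  obtain ⟨b, -, hb⟩ := hg
  obtain ⟨f, hfr⟩ := hF.exists_frame he0 he
  exact hF.long_skew hfr hb

variable {M : Subgroup (oGroup Q)} (hM : Over K M)

include hM

theorem Fld.longs_square {e f : V} (hfr : Frame P e f) {g : K →ₗ[F] K} (hg : g ∈ longs M hfr.he) {c : K}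
    (hc : c ≠ 0) (hsq : IsSquare c) :
    ((LinearMap.mulLeft F c).comp g).comp (LinearMap.mulLeft F c) ∈ longs M hfr.he :=
  hF.longs_scale hM hfr hc (Or.inl hsq) hg

/-- A scalar carrying the long root maps to the opposite centre. -/
theorem Fld.exists_longs_swap {e f : V} (hfr : Frame P e f) : ∃ s : K, s ≠ 0 ∧ ∀ g ∈ longs M hfr.he,
    ((LinearMap.mulLeft F s).comp g).comp (LinearMap.mulLeft F s) ∈ longs M hfr.hf := by
  obtain ⟨d, hd, hed, -⟩ := hF.exists_aniso_perp hfr.he hfr.hf (by rw [hfr.hef]; exact one_ne_zero)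
  set s := -(P d)⁻¹ with hs
  have hs0 : s ≠ 0 := neg_ne_zero.2 (inv_ne_zero hd)
  obtain ⟨g₀, hg₀, hge⟩ := hF.exists_swap hfr hd hed hs0 (by
    rw [hs, neg_neg, inv_mul_cancel₀ hd]; exact IsSquare.one)
  refine ⟨s, hs0, fun g hg => ?_⟩
  have hsf : P (s • f) = 0 := by rw [quad_smul, hfr.hf, mul_zero]
  refine hF.longs_smul hfr.hf hsf ?_
  obtain ⟨b, hb, hbl⟩ := hF.longs_move hM hg₀ hfr.he (by rw [hge]; exact hsf) hg
  exact ⟨b, hb, hge ▸ hbl⟩

/-- In degree two every skew map is a long root map. -/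
theorem Fld.full_two (hr2 : finrank F K = 2) {e f : V} (hfr : Frame P e f) {g₀ : K →ₗ[F] K}
    (hg₀ : g₀ ∈ longs M hfr.he) (hne : g₀ ≠ 0) {g : K →ₗ[F] K} (hg : Skew g) : g ∈ longs M hfr.he := by
  classical
  haveI := Fintype.ofFinite F
  haveI := Fintype.ofFinite K
  haveI : Fintype (K →ₐ[F] K) := Fintype.ofFinite _
  have h2K := hF.two'
  obtain ⟨τ, hτ⟩ : ∃ τ : K →ₐ[F] K, τ ≠ AlgHom.id F K := by
    by_contra hno
    push Not at hno
    have h1 : Nat.card (K →ₐ[F] K) ≤ 1 :=
      Finite.card_le_one_iff_subsingleton.2 ⟨fun a b => (hno a).trans (hno b).symm⟩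
    rw [card_algHom] at h1
    omega
  have hall : ∀ σ : K →ₐ[F] K, σ = AlgHom.id F K ∨ σ = τ := by
    intro σ
    by_contra hno
    push Not at hno
    have h3 : ({AlgHom.id F K, τ, σ} : Set (K →ₐ[F] K)).ncard = 3 := by
      rw [Set.ncard_eq_three]
      exact ⟨_, _, _, Ne.symm hτ, Ne.symm hno.1, Ne.symm hno.2, rfl⟩
    have h4 := Set.ncard_le_card ({AlgHom.id F K, τ, σ} : Set (K →ₐ[F] K))
    rw [card_algHom] at h4
    omega
  have hτinv : ainv τ = τ := (hall _).resolve_left fun h => hτ (ainv_eq_id h)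
  have hform : ∀ g : K →ₗ[F] K, Skew g → ∀ x, g x = (autBasis F K).repr g τ * τ x := by
    intro g hg x
    conv_lhs => rw [← (autBasis F K).sum_repr g]
    rw [LinearMap.coe_sum, Finset.sum_apply, Finset.sum_eq_single τ]
    · simp
    · intro σ _ hσ
      rw [(hall σ).resolve_right hσ, hg.repr_id h2K]
      simp
    · simp
  set b₀ := (autBasis F K).repr g₀ τ
  have hsk₀ : Skew g₀ := hF.skew_longs hfr.e_ne hfr.he hg₀
  have hb₀ : b₀ ≠ 0 := fun h => hne (LinearMap.ext fun x => by rw [hform g₀ hsk₀, show (autBasis F K).repr g₀ τ = 0 from h, zero_mul]; rfl)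
  set b := (autBasis F K).repr g τ
  have hsk : ∀ g : K →ₗ[F] K, Skew g → τ ((autBasis F K).repr g τ) = -(autBasis F K).repr g τ := fun g hg => by
    have h := hg.repr_ainv τ
    rw [hτinv] at h
    rw [eq_neg_iff_add_eq_zero, add_comm, ← eq_neg_iff_add_eq_zero]
    exact h
  -- the ratio is a scalar
  obtain ⟨a, ha⟩ : ∃ a : F, algebraMap F K a = b / b₀ := by
    by_contra hno
    have hfix : τ (b / b₀) = b / b₀ := by rw [map_div₀, hsk g hg, hsk g₀ hsk₀, neg_div_neg_eq]
    have hcl : ∀ σ : K ≃ₐ[F] K, σ (b / b₀) = b / b₀ := by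
      intro σ
      rcases hall σ.toAlgHom with h | h
      · exact AlgHom.congr_fun h _
      · exact (AlgHom.congr_fun h _).trans hfix
    exact hno ((IsGalois.mem_range_algebraMap_iff_fixed _).2 hcl)
  by_cases ha0 : a = 0
  · have : g = 0 := LinearMap.ext fun x => by
      rw [hform g hg]
      show b * τ x = 0
      rw [show b = 0 by
        rw [ha0, map_zero, eq_comm, div_eq_zero_iff] at ha
        exact ha.resolve_right hb₀, zero_mul]
    rw [this]; exact zero_mem _
  obtain ⟨c, hc⟩ := FiniteField.norm_surjective F K a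
  have hcc : c * τ c = algebraMap F K a := by
    rw [← hc, Algebra.norm_eq_prod_automorphisms,
      Fintype.prod_equiv (Algebra.IsAlgebraic.algEquivEquivAlgHom F K).toEquiv (fun σ : K ≃ₐ[F] K => σ c)
        (fun σ => σ c) fun σ => rfl,
      show (Finset.univ : Finset (K →ₐ[F] K)) = {AlgHom.id F K, τ} from
        Finset.ext fun σ => by simpa using hall σ,
      Finset.prod_pair (Ne.symm hτ), AlgHom.id_apply]
  have hc0 : c ≠ 0 := fun h => by
    rw [h, zero_mul, eq_comm, map_eq_zero] at hcc; exact ha0 hcc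
  have hk : 4 ≤ finrank K V := by
    have h1 : finrank F K * finrank K V = finrank F V := Module.finrank_mul_finrank F K V
    have := hF.big
    rw [hr2] at h1
    omega
  obtain ⟨u, hu, v, hv, hsq, heu, hev⟩ : ∃ u, P u ≠ 0 ∧ ∃ v, P v ≠ 0 ∧ IsSquare (c * (P u * P v)) ∧
      polar P e u = 0 ∧ polar P e v = 0 := by
    obtain ⟨u, hu, heu, hfu⟩ := hF.exists_aniso_perp hfr.he hfr.hf (by rw [hfr.hef]; exact one_ne_zero)
    obtain ⟨v, hev, -, hv⟩ := hF.exists_mid_value hk hfr (c * P u)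
    exact ⟨u, hu, v, by rw [hv]; exact mul_ne_zero hc0 hu, ⟨c * P u, by rw [hv]; ring⟩, heu, hev⟩
  have hg' := hF.longs_scale hM hfr hc0 (Or.inr ⟨u, v, hu, hv, heu, hev, hsq⟩) hg₀
  convert hg' using 1
  refine LinearMap.ext fun x => ?_
  show g x = c * g₀ (c * x)
  rw [hform g hg, hform g₀ hsk₀, map_mul]
  calc b * τ x = (b / b₀) * b₀ * τ x := by rw [div_mul_cancel₀ _ hb₀]
    _ = c * (b₀ * (τ c * τ x)) := by rw [← ha, ← hcc]; ring

/-- In odd degree some pair is made of long root maps, at both centres. -/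
theorem Fld.exists_pairs (hr2 : finrank F K ≠ 2) {e f : V} (hfr : Frame P e f) {g₀ : K →ₗ[F] K}
    (hg₀ : g₀ ∈ longs M hfr.he) (hne : g₀ ≠ 0) :
    ∃ σ : K →ₐ[F] K, σ ≠ AlgHom.id F K ∧ (∀ t, skewPair σ t ∈ longs M hfr.he) ∧
      ∀ t, skewPair σ t ∈ longs M hfr.hf := by
  classical
  obtain ⟨σ, hσ⟩ : ∃ σ, (autBasis F K).repr g₀ σ ≠ 0 := by
    by_contra hno
    push Not at hno
    exact hne ((autBasis F K).repr.injective (Finsupp.ext fun σ => by rw [hno, map_zero, Finsupp.zero_apply]))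
  have hσid : σ ≠ AlgHom.id F K := fun h =>
    hσ (by rw [h]; exact (hF.skew_longs hfr.e_ne hfr.he hg₀).repr_id hF.two')
  have he := pairs_of_component hF.two hF.prime hr2 (fun g hg => hF.skew_longs hfr.e_ne hfr.he hg)
    (fun g hg c hc hsq => hF.longs_square hM hfr hg hc hsq) hg₀ hσid hσ
  obtain ⟨s, hs, hswap⟩ := hF.exists_longs_swap hM hfr
  refine ⟨σ, hσid, he, fun t => ?_⟩
  have := hswap _ (he (t / (s * σ s)))
  rwa [scale_skewPair, mul_assoc, div_mul_cancel₀] at this
  exact mul_ne_zero hs fun h => hs (σ.toRingHom.injective (h.trans (map_zero σ).symm))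

end CfsgLib.OrthField
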