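import Cfsg.Agent.OrthField.Fusion
import Cfsg.Agent.OrthField.Burnside
import Cfsg.Agent.OrthField.Expand
import Cfsg.Agent.OrthField.PairMaps

/-!
Three dimensions over the larger field: rigid line stabilisers force semilinearity.
-/

set_option autoImplicit false
set_option linter.unusedSectionVars false
set_option linter.unusedVariables false
set_option linter.style.haveILetI false

namespace CfsgLib.OrthField

open QuadraticMap CfsgLib.Forms CfsgLib.Quad Module

variable {F : Type*} [Field F] [Finite F] {K : Type*} [Field K] [Finite K] [Algebra F K]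
  {V : Type*} [AddCommGroup V] [Module F V] [Module K V] [IsScalarTower F K V] [Finite V]
  {Q : QuadraticForm F V} {P : QuadraticForm K V}

variable (hF : Fld Q P)

include hF

/-- The centralising group over the larger field at a frame. -/
def Fld.uGroup {e f : V} (hfr : Frame P e f) : Subgroup (oGroup Q) where
  carrier := {g | ∃ z, polar P e z = 0 ∧ polar P f z = 0 ∧ g = hF.uK e z}
  one_mem' := ⟨0, polar_zero_right P e, polar_zero_right P f, (hF.uK_zero hfr.he).symm⟩
  mul_mem' := fun {a b} ha hb => by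
    obtain ⟨z, h1, h2, rfl⟩ := ha
    obtain ⟨z', h1', h2', rfl⟩ := hb
    exact ⟨z + z', by rw [polar_add_right, h1, h1', add_zero], by rw [polar_add_right, h2, h2', add_zero],
      hF.uK_mul hfr.he h1 h1'⟩
  inv_mem' := fun {a} ha => by
    obtain ⟨z, h1, h2, rfl⟩ := ha
    exact ⟨-z, by rw [polar_neg_right, h1, neg_zero], by rw [polar_neg_right, h2, neg_zero],
      hF.uK_inv hfr.he h1⟩

theorem Fld.mem_uGroup {e f : V} (hfr : Frame P e f) {g : oGroup Q} :
    g ∈ hF.uGroup hfr ↔ ∃ z, polar P e z = 0 ∧ polar P f z = 0 ∧ g = hF.uK e z := Iff.rfl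

variable (hk : finrank K V = 3)

include hk

omit hk in
theorem Fld.three_r (hk : finrank K V = 3) : finrank F K ≠ 2 ∧ Odd (finrank F K) := by
  have h1 : finrank F K * finrank K V = finrank F V := Module.finrank_mul_finrank F K V
  have h2 := hF.big
  rw [hk] at h1
  exact ⟨by omega, hF.prime.odd_of_ne_two (by omega)⟩

/-- The middle is a line. -/
theorem Fld.mid_line {e f : V} (hfr : Frame P e f) {z0 : V} (hz0 : z0 ≠ 0) (h1 : polar P e z0 = 0)
    (h2 : polar P f z0 = 0) {z : V} (h1' : polar P e z = 0) (h2' : polar P f z = 0) :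
    ∃ c : K, z = c • z0 := by
  set U := Submodule.span K (Set.range ![e, f])
  have hli : LinearIndependent K ![e, f] := (LinearIndependent.pair_iff' hfr.e_ne).2 fun a ha => by
    have := hfr.hef
    rw [← ha, polar_smul_right, hfr.hee, smul_zero] at this
    exact zero_ne_one this
  have hU : finrank K U = 2 := by
    rw [finrank_span_eq_card hli, Fintype.card_fin]
  have hperp : finrank K (perpS P U) = 1 := by
    have := finrank_perpS hF.ndP U
    omega
  have hmem : ∀ y, polar P e y = 0 → polar P f y = 0 → y ∈ perpS P U := by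
    intro y hy1 hy2 u hu
    obtain ⟨c, rfl⟩ := (Submodule.mem_span_range_iff_exists_fun K).1 hu
    simp [Fin.sum_univ_two, polar_add_left, polar_smul_left, hy1, hy2]
  obtain ⟨c, hc⟩ := exists_smul_eq_of_finrank_eq_one hperp
    (x := (⟨z0, hmem z0 h1 h2⟩ : perpS P U)) (fun h => hz0 (congrArg Subtype.val h)) ⟨z, hmem z h1' h2'⟩
  exact ⟨c, (congrArg Subtype.val hc).symm⟩

/-- An isometry linear over the larger field fixing the centre, moving the middle along it, is a Siegel
transformation. -/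
theorem Fld.mem_uGroup_of_fix {e f : V} (hfr : Frame P e f) {z0 : V} (hz0 : P z0 ≠ 0)
    (h1 : polar P e z0 = 0) (h2 : polar P f z0 = 0) {g : oGroup Q} (hlin : ∀ (k : K) x, g.1 (k • x) = k • g.1 x)
    (hge : g.1 e = e) {a : K} (hgz : g.1 z0 = a • e + z0) : g ∈ hF.uGroup hfr := by
  have hz0' : z0 ≠ 0 := fun h => hz0 (by rw [h, QuadraticMap.map_zero])
  have h2K := hF.two'
  set z := (-(a / (2 * P z0))) • z0 with hz
  have hez : polar P e z = 0 := by rw [hz, polar_smul_right, h1, smul_zero]
  have hfz : polar P f z = 0 := by rw [hz, polar_smul_right, h2, smul_zero]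
  refine ⟨z, hez, hfz, ?_⟩
  have hfix : ∀ x, polar P e x = 0 → ((hF.uK e z)⁻¹ * g).1 x = x := by
    intro x hx
    show (hF.uK e z).1.symm (g.1 x) = x
    rw [LinearEquiv.symm_apply_eq, hF.uK_apply hfr.he hez, polar_comm (⇑P) x e, hx, zero_smul, add_zero,
      mul_zero, add_zero]
    obtain ⟨c, hc⟩ := hF.mid_line hk hfr hz0' h1 h2 (hfr.mid_e x) (hfr.mid_f x)
    have hx' : x = polar P x f • e + c • z0 := by
      conv_lhs => rw [hfr.decomp x, hc]
      rw [polar_comm (⇑P) x e, hx, zero_smul, add_zero]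
    have hxz : polar P x z = -(c * a) := by
      rw [hx', hz, polar_add_left, polar_smul_left, polar_smul_right, h1, smul_zero, smul_zero, zero_add,
        polar_smul_left, polar_smul_right, polar_self, smul_eq_mul, smul_eq_mul, nsmul_eq_mul, Nat.cast_ofNat]
      field_simp
    rw [hxz]
    have e1 : g.1 x = polar P x f • e + c • (a • e + z0) := by
      conv_lhs => rw [hx', map_add, hlin, hlin, hge, hgz]
    rw [e1]
    conv_rhs => arg 1; rw [hx']
    module
  obtain ⟨G, hG⟩ := hF.long_fix hfr hfix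
  have hGlin : ∀ t : K, G t = t * G 1 := by
    intro t
    have hlin' : ((hF.uK e z)⁻¹ * g).1 (t • f) = t • ((hF.uK e z)⁻¹ * g).1 f := by
      show (hF.uK e z).1.symm (g.1 (t • f)) = t • (hF.uK e z).1.symm (g.1 f)
      rw [hlin, LinearEquiv.symm_apply_eq]
      exact (congrArg (t • ·) (LinearEquiv.apply_symm_apply (hF.uK e z).1 _).symm).trans
        ((siegel P e z).1.map_smul t _).symm
    rw [hG, hG, polar_smul_left, hfr.hfe, smul_eq_mul, mul_one, smul_add, smul_smul, add_right_inj] at hlin'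
    exact smul_left_injective K hfr.e_ne hlin'
  have hG1 : G 1 = 0 := by
    refine eq_of_trace (F := F) fun k => ?_
    rw [mul_zero, map_zero]
    refine hF.sq_induction (p := fun k => Algebra.trace F K (k * G 1) = 0)
      (fun u v hu hv => by rw [add_mul, map_add, hu, hv, add_zero]) (fun t => ?_) k
    have := hF.long_skew hfr hG t
    rwa [hGlin, ← mul_assoc] at this
  have h1' : (hF.uK e z)⁻¹ * g = 1 := hG.ext (g := G) (by intro x; rw [hGlin, hG1]; simp)
  rw [inv_mul_eq_one] at h1'
  exact h1'.symm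

variable {M : Subgroup (oGroup Q)} (hM : Over K M)
  (hR : ∀ e : V, e ≠ 0 → P e = 0 → RigidAt K M e)

include hM hR

/-- Elements preserving the plane of two independent vectors of a singular line are semilinear. -/
theorem Fld.stab_pair_semi {v : V} (hv0 : v ≠ 0) (hv : P v = 0) {c : K}
    (hc : ∀ a : F, algebraMap F K a ≠ c) {s : oGroup Q} (hs : s ∈ M)
    (h1 : ∃ a b : F, s.1 v = a • v + b • (c • v)) (h2 : ∃ a b : F, s.1 (c • v) = a • v + b • (c • v)) :
    Semi K s := by
  obtain ⟨hr2, hodd⟩ := hF.three_r hk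
  obtain ⟨f, hfr⟩ := hF.exists_frame hv0 hv
  obtain ⟨z0, hz0, hvz0, hfz0⟩ := hF.exists_aniso_perp hfr.he hfr.hf (by rw [hfr.hef]; exact one_ne_zero)
  have hz0' : z0 ≠ 0 := fun h => hz0 (by rw [h, QuadraticMap.map_zero])
  haveI : Finite (oGroup Q) := Finite.of_injective (fun g : oGroup Q => (g.1 : V → V))
    fun a b h => Subtype.ext (LinearEquiv.ext fun x => congrFun h x)
  set G0 : Subgroup (oGroup Q) := M ⊓
    { carrier := {g | g.1 v = v ∧ g.1 (c • v) = c • v}
      one_mem' := ⟨rfl, rfl⟩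
      mul_mem' := fun {a b} ha hb => ⟨by
          show a.1 (b.1 v) = v
          rw [hb.1, ha.1], by
          show a.1 (b.1 (c • v)) = c • v
          rw [hb.2, ha.2]⟩
      inv_mem' := fun {a} ha => ⟨by
          show a.1.symm v = v
          rw [LinearEquiv.symm_apply_eq]; exact ha.1.symm, by
          show a.1.symm (c • v) = c • v
          rw [LinearEquiv.symm_apply_eq]; exact ha.2.symm⟩ } with hG0
  have huz : ∀ z, polar P v z = 0 → polar P f z = 0 → hF.uK v z ∈ G0 := by
    intro z h h'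
    refine ⟨hF.uK_mem_all hM hfr h h', ?_, ?_⟩
    · show (hF.uK v z).1 v = v
      rw [hF.uK_apply hv h, hfr.hee, h, zero_smul, mul_zero, add_zero, add_zero, zero_smul, sub_zero]
    · show (hF.uK v z).1 (c • v) = c • v
      rw [hF.uK_apply hv h, polar_smul_left, polar_smul_left, hfr.hee, h, smul_zero, zero_smul, mul_zero,
        add_zero, add_zero, zero_smul, sub_zero]
  have hsemi : ∀ g ∈ G0, Semi K g → g ∈ hF.uGroup hfr := by
    intro g hg hgs
    obtain ⟨σ, hσ⟩ := hF.exists_hom hgs
    have hgv : g.1 v = v := hg.2.1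
    have hgc : g.1 (c • v) = c • v := hg.2.2
    have hσc : σ c = c := smul_left_injective K hv0 (by
      show σ c • v = c • v
      conv_lhs => rw [← hgv]
      rw [← hσ, hgc])
    have hid : σ = AlgHom.id F K := by
      by_contra hne
      obtain ⟨a, ha⟩ := fixed_eq hF.prime hne hσc
      exact hc a ha
    have hlin : ∀ (k : K) x, g.1 (k • x) = k • g.1 x := fun k x => by rw [hσ, hid]; rfl
    have hpol : ∀ x y, polar P (g.1 x) (g.1 y) = polar P x y := fun x y => by
      rw [hF.semi_polar hσ, hid, AlgHom.id_apply]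
    have hPg : ∀ x, P (g.1 x) = P x := fun x => by rw [hF.semi_quad hσ, hid, AlgHom.id_apply]
    have hvg : polar P v (g.1 z0) = 0 := by
      conv_lhs => rw [← hgv]
      rw [hpol, hvz0]
    obtain ⟨b, hb⟩ := hF.mid_line hk hfr hz0' hvz0 hfz0 (hfr.mid_e (g.1 z0)) (hfr.mid_f (g.1 z0))
    have hgz : g.1 z0 = polar P (g.1 z0) f • v + b • z0 := by
      conv_lhs => rw [hfr.decomp (g.1 z0), hb]
      rw [polar_comm (⇑P) (g.1 z0) v, hvg, zero_smul, add_zero]
    have hb2 : b * b = 1 := by
      have h := hPg z0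
      rw [hgz, quad_add, quad_smul, quad_smul, hv, polar_smul_left, polar_smul_right, hvz0, smul_zero,
        smul_zero, mul_zero, zero_add, add_zero] at h
      exact mul_right_cancel₀ hz0 (h.trans (one_mul _).symm)
    rcases mul_self_eq_one_iff.1 hb2 with rfl | rfl
    · rw [one_smul] at hgz
      exact hF.mem_uGroup_of_fix hk hfr hz0 hvz0 hfz0 hlin hgv hgz
    · exfalso
      have hR0 : ∀ x, (hF.res (refl P z0)).1 x = x + (-(P z0)⁻¹ * polar P x z0) • z0 := fun x => by
        rw [hF.res_apply, refl_apply]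
      have hz : -(P z0)⁻¹ * polar P z0 z0 = -2 := by
        rw [polar_self, nsmul_eq_mul, Nat.cast_ofNat]
        field_simp
      have hmem : hF.res (refl P z0) * g ∈ hF.uGroup hfr := by
        refine hF.mem_uGroup_of_fix hk hfr hz0 hvz0 hfz0 (a := polar P (g.1 z0) f) (fun k x => ?_) ?_ ?_
        · show (hF.res (refl P z0)).1 (g.1 (k • x)) = k • (hF.res (refl P z0)).1 (g.1 x)
          rw [hlin, hF.res_apply, hF.res_apply, LinearEquiv.map_smul (refl P z0).1]
        · show (hF.res (refl P z0)).1 (g.1 v) = v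
          rw [hgv, hR0, hvz0, mul_zero, zero_smul, add_zero]
        · show (hF.res (refl P z0)).1 (g.1 z0) = _
          conv_lhs => rw [hgz]
          rw [hR0, polar_add_left, polar_smul_left, hvz0, smul_zero, zero_add, polar_smul_left, smul_eq_mul,
            neg_one_mul, mul_neg, hz]
          module
      obtain ⟨z, hz1, hz2, hzeq⟩ := hmem
      have hres : hF.res (refl P z0) ∈ commutator (oGroup Q) := by
        rw [eq_mul_inv_of_mul_eq hzeq]
        exact mul_mem (hM.le (huz z hz1 hz2).1) (inv_mem (hM.le hg.1))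
      exact hF.res_refl_not_mem hodd hz0 hres
  have hconj : ∀ g ∈ G0, ∀ z, polar P v z = 0 → polar P f z = 0 → P z ≠ 0 →
      g * hF.uK v z * g⁻¹ ∈ hF.uGroup hfr → g ∈ hF.uGroup hfr := by
    intro g hg z h1 h2 hz hmem
    obtain ⟨z', -, -, hz'⟩ := hmem
    exact hsemi g hg (hF.semi_of_conj hM hR hv0 hv h1 hz hg.1 (hz' ▸ hF.res_semi _))
  have hp := hF.p_prime
  set A : Subgroup G0 := (hF.uGroup hfr).subgroupOf G0 with hA
  have hAel : Cfsg.IsElementaryAbelian (ringChar F) A := by
    refine ⟨⟨⟨fun a b => ?_⟩⟩, fun a ha => ?_⟩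
    · obtain ⟨z, h1, h2, hz⟩ := a.2
      obtain ⟨z', h1', h2', hz'⟩ := b.2
      refine Subtype.ext (Subtype.ext ?_)
      show (a.1 : oGroup Q) * b.1 = b.1 * a.1
      rw [show (a.1 : oGroup Q) = hF.uK v z from hz, show (b.1 : oGroup Q) = hF.uK v z' from hz',
        hF.uK_mul hv h1 h1', hF.uK_mul hv h1' h1, add_comm]
    · obtain ⟨z, h1, -, hz⟩ := ha
      refine Subtype.ext ?_
      rw [SubmonoidClass.coe_pow, show (a : oGroup Q) = hF.uK v z from hz]
      exact hF.uK_pow hv h1
  have hAtop : A = ⊤ := by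
    refine eq_top_of_selfNormalizing hp hAel ?_ le_rfl ?_ ?_
    · intro g hg
      refine hconj _ g.2 z0 hvz0 hfz0 hz0 ?_
      exact (Subgroup.mem_normalizer_iff.1 hg ⟨hF.uK v z0, huz z0 hvz0 hfz0⟩).1 ⟨z0, hvz0, hfz0, rfl⟩
    · have hinj : Function.Injective (fun t : K =>
          (⟨⟨hF.uK v (t • z0), huz _ (by rw [polar_smul_right, hvz0, smul_zero])
              (by rw [polar_smul_right, hfz0, smul_zero])⟩,
            ⟨t • z0, by rw [polar_smul_right, hvz0, smul_zero], by rw [polar_smul_right, hfz0, smul_zero],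
              rfl⟩⟩ : A)) := by
        intro s t hst
        have h := congrArg (fun a : A => mid P v f (((a.1 : oGroup Q)).1 f)) hst
        simp only at h
        rw [hF.uK_apply hv (by rw [polar_smul_right, hvz0, smul_zero]),
          hF.uK_apply hv (by rw [polar_smul_right, hvz0, smul_zero]), hfr.hfe, one_smul, one_smul,
          sub_eq_add_neg, sub_eq_add_neg, ← neg_smul, ← neg_smul, hfr.mid_add, hfr.mid_add, hfr.mid_add,
          hfr.mid_add, hfr.mid_smul, hfr.mid_smul, hfr.mid_smul, hfr.mid_smul, hfr.mid_self, hfr.mid_self',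
          smul_zero, smul_zero, add_zero, add_zero, zero_add, zero_add, hfr.mid_of_perp hvz0 hfz0] at h
        exact smul_left_injective K hz0' h
      refine le_trans ?_ (Nat.card_le_card_of_injective _ hinj)
      haveI := Fintype.ofFinite F
      haveI := ringChar.charP F
      obtain ⟨n, -, hn⟩ := FiniteField.card F (ringChar F)
      rw [Module.natCard_eq_pow_finrank (K := F) (V := K), Nat.card_eq_fintype_card, hn, ← pow_mul]
      exact Nat.pow_le_pow_right hp.pos (le_trans hF.prime.two_le (Nat.le_mul_of_pos_left _ n.pos))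
    · intro e he he1 g hg
      obtain ⟨z, h1, h2, hz⟩ := he
      have hz' : P z ≠ 0 := by
        intro h
        obtain ⟨b, rfl⟩ := hF.mid_line hk hfr hz0' hvz0 hfz0 h1 h2
        rw [quad_smul] at h
        have hb : b = 0 := mul_self_eq_zero.1 ((mul_eq_zero.1 h).resolve_right hz0)
        apply he1
        refine Subtype.ext ?_
        show (e : oGroup Q) = 1
        rw [show (e : oGroup Q) = hF.uK v (b • z0) from hz, hb, zero_smul, hF.uK_zero hv]
      refine hconj _ g.2 z h1 h2 hz' ?_
      have := congrArg (fun x : G0 => (x : oGroup Q)) (Subgroup.mem_centralizer_singleton_iff.1 hg)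
      simp only [Subgroup.coe_mul] at this
      rw [show (e : oGroup Q) = hF.uK v z from hz] at this
      exact ⟨z, h1, h2, by
        show (g : oGroup Q) * hF.uK v z * (g : oGroup Q)⁻¹ = hF.uK v z
        rw [this, mul_inv_cancel_right]⟩
  obtain ⟨a, b, hab⟩ := h1
  obtain ⟨a', b', hab'⟩ := h2
  have hu := huz z0 hvz0 hfz0
  have hfixspan : ∀ x y : F, (hF.uK v z0).1 (x • v + y • (c • v)) = x • v + y • (c • v) := fun x y => by
    rw [map_add, map_smul, map_smul, hu.2.1, hu.2.2]
  have hmem : s⁻¹ * hF.uK v z0 * s ∈ G0 := by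
    refine ⟨M.mul_mem (M.mul_mem (M.inv_mem hs) hu.1) hs, ?_, ?_⟩
    · show s.1.symm ((hF.uK v z0).1 (s.1 v)) = v
      rw [LinearEquiv.symm_apply_eq, hab, hfixspan]
    · show s.1.symm ((hF.uK v z0).1 (s.1 (c • v))) = c • v
      rw [LinearEquiv.symm_apply_eq, hab', hfixspan]
  have htop : (⟨_, hmem⟩ : G0) ∈ A := by rw [hAtop]; exact Subgroup.mem_top _
  obtain ⟨z', -, -, hz'⟩ := htop
  have hsem : Semi K (s⁻¹ * hF.uK v z0 * s⁻¹⁻¹) := by
    rw [inv_inv, show s⁻¹ * hF.uK v z0 * s = hF.uK v z' from hz']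
    exact hF.res_semi _
  have h3 := hF.semiSub.inv_mem (hF.mem_semiSub.2
    (hF.semi_of_conj hM hR hv0 hv hvz0 hz0 (inv_mem hs) hsem))
  rwa [inv_inv] at h3

/-- A Siegel transformation preserving the plane of two images forces semilinearity. -/
theorem Fld.semi_of_pair {v : V} (hv0 : v ≠ 0) (hv : P v = 0) {c : K}
    (hc : ∀ a : F, algebraMap F K a ≠ c) {h : oGroup Q} (hh : h ∈ M) {e z : V} (he0 : e ≠ 0) (he : P e = 0)
    (hez : polar P e z = 0) (hz : P z ≠ 0)
    (h1 : ∃ a b : F, (hF.uK e z).1 (h.1 v) = a • h.1 v + b • h.1 (c • v))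
    (h2 : ∃ a b : F, (hF.uK e z).1 (h.1 (c • v)) = a • h.1 v + b • h.1 (c • v)) : Semi K h := by
  obtain ⟨a, b, hab⟩ := h1
  obtain ⟨a', b', hab'⟩ := h2
  have hb : Semi K (h⁻¹ * hF.uK e z * h⁻¹⁻¹) := by
    rw [inv_inv]
    refine hF.stab_pair_semi hk hM hR hv0 hv hc (M.mul_mem (M.mul_mem (M.inv_mem hh) (hF.uK_mem hM he hez hz)) hh)
      ⟨a, b, ?_⟩ ⟨a', b', ?_⟩
    · show h.1.symm ((hF.uK e z).1 (h.1 v)) = _
      rw [hab, map_add, map_smul, map_smul, LinearEquiv.symm_apply_apply, LinearEquiv.symm_apply_apply]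
    · show h.1.symm ((hF.uK e z).1 (h.1 (c • v))) = _
      rw [hab', map_add, map_smul, map_smul, LinearEquiv.symm_apply_apply, LinearEquiv.symm_apply_apply]
  have := hF.semiSub.inv_mem (hF.mem_semiSub.2 (hF.semi_of_conj hM hR he0 he hez hz (inv_mem hh) hb))
  rwa [inv_inv] at this

omit hM hR in
/-- Two orthogonal anisotropic vectors are completed by a third. -/
theorem Fld.triple {w w' : V} (hw : P w ≠ 0) (hw' : P w' ≠ 0) (hww : polar P w w' = 0) :
    ∃ f, P f ≠ 0 ∧ polar P w f = 0 ∧ polar P w' f = 0 ∧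
      ∀ y, polar P w y = 0 → polar P w' y = 0 → ∃ c : K, y = c • f := by
  have h2 := hF.two'
  have hself : ∀ x, P x ≠ 0 → polar P x x ≠ 0 := fun x hx => by
    rw [polar_self, nsmul_eq_mul, Nat.cast_ofNat]; exact mul_ne_zero h2 hx
  set U := Submodule.span K (Set.range ![w, w'])
  have hw0 : w ≠ 0 := fun h => hw (by rw [h, QuadraticMap.map_zero])
  have hli : LinearIndependent K ![w, w'] := (LinearIndependent.pair_iff' hw0).2 fun a ha => by
    have h := hww
    rw [← ha, polar_smul_right, smul_eq_mul, mul_eq_zero] at h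
    rcases h with h | h
    · exact hw' (by rw [← ha, h, zero_smul, QuadraticMap.map_zero])
    · exact hself w hw h
  have hU : finrank K U = 2 := by rw [finrank_span_eq_card hli, Fintype.card_fin]
  have hperp : finrank K (perpS P U) = 1 := by
    have := finrank_perpS hF.ndP U
    omega
  have hmem : ∀ y, polar P w y = 0 → polar P w' y = 0 → y ∈ perpS P U := by
    intro y hy1 hy2 u hu
    obtain ⟨c, rfl⟩ := (Submodule.mem_span_range_iff_exists_fun K).1 hu
    simp [Fin.sum_univ_two, polar_add_left, polar_smul_left, hy1, hy2]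
  obtain ⟨f, hfU, hf0⟩ := Submodule.exists_mem_ne_zero_of_ne_bot (p := perpS P U) (fun h => by
    rw [h, finrank_bot] at hperp; exact zero_ne_one hperp)
  have hall : ∀ y, polar P w y = 0 → polar P w' y = 0 → ∃ c : K, y = c • f := fun y h1 h2 => by
    obtain ⟨c, hc⟩ := exists_smul_eq_of_finrank_eq_one hperp
      (x := (⟨f, hfU⟩ : perpS P U)) (fun h => hf0 (congrArg Subtype.val h)) ⟨y, hmem y h1 h2⟩
    exact ⟨c, (congrArg Subtype.val hc).symm⟩
  have h1 : polar P w f = 0 := hfU w (Submodule.subset_span ⟨0, rfl⟩)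
  have h2' : polar P w' f = 0 := hfU w' (Submodule.subset_span ⟨1, rfl⟩)
  refine ⟨f, fun hf => hf0 ?_, h1, h2', hall⟩
  refine hF.ndP.1 f fun y => ?_
  show polar P f y = 0
  obtain ⟨c, hc⟩ := hall (y - (polar P w y / polar P w w) • w - (polar P w' y / polar P w' w') • w')
    (by rw [polar_sub_right, polar_sub_right, polar_smul_right, polar_smul_right, hww, smul_zero, sub_zero,
      smul_eq_mul, div_mul_cancel₀ _ (hself w hw), sub_self])
    (by rw [polar_sub_right, polar_sub_right, polar_smul_right, polar_smul_right, polar_comm (⇑P) w' w, hww,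
      smul_zero, sub_zero, smul_eq_mul, div_mul_cancel₀ _ (hself w' hw'), sub_self])
  rw [sub_sub, sub_eq_iff_eq_add] at hc
  rw [hc, polar_add_right, polar_add_right, polar_smul_right, polar_smul_right, polar_smul_right, polar_self,
    hf, polar_comm (⇑P) f w, h1, polar_comm (⇑P) f w', h2', smul_zero]
  simp

/-- The data of an anisotropic image of a singular vector, when the element is not semilinear. -/
theorem Fld.partner_data {e : V} (he0 : e ≠ 0) (he : P e = 0) {h : oGroup Q} (hh : h ∈ M)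
    (hns : ¬ Semi K h) (k1 : K) (hw : P (h.1 (k1 • e)) ≠ 0) :
    ∃ k2 : K, polar P (h.1 (k1 • e)) (h.1 (k2 • e)) = 0 ∧ P (h.1 (k2 • e)) ≠ 0 ∧
    ∃ f, P f ≠ 0 ∧ polar P (h.1 (k1 • e)) f = 0 ∧ polar P (h.1 (k2 • e)) f = 0 ∧
      ¬ IsSquare (P (h.1 (k1 • e)) * P f) ∧ ¬ IsSquare (P (h.1 (k2 • e)) * P f) ∧
      (∀ k : K, polar P (h.1 (k • e)) f = 0) ∧
      (∀ y, polar P (h.1 (k1 • e)) y = 0 → polar P (h.1 (k2 • e)) y = 0 → ∃ c : K, y = c • f) ∧
      IsSquare (-1 : K) := by
  obtain ⟨hr2, hodd⟩ := hF.three_r hk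
  have h2K := hF.two'
  have hk1 : k1 ≠ 0 := fun h' => hw (by rw [h', zero_smul, map_zero, QuadraticMap.map_zero])
  set v := k1 • e with hvd
  have hv0 : v ≠ 0 := smul_ne_zero hk1 he0
  have hv : P v = 0 := by rw [hvd, quad_smul, he, mul_zero]
  set w := h.1 v with hwd
  let T : K →ₗ[F] K :=
    { toFun := fun k => polar P w (h.1 (k • v))
      map_add' := fun a b => by rw [add_smul, map_add, polar_add_right]
      map_smul' := fun a k => by
        rw [RingHom.id_apply, smul_assoc, map_smul, ← algebraMap_smul K a (h.1 (k • v)), polar_smul_right,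
          smul_eq_mul, ← Algebra.smul_def] }
  have hTtr : ∀ k, Algebra.trace F K (T k) = 0 := fun k => by
    show Algebra.trace F K (polar P w (h.1 (k • v))) = 0
    rw [hF.tr_polar, polar_oGroup, ← hF.tr_polar, polar_smul_right, polar_self, hv, smul_zero, smul_zero,
      map_zero]
  obtain ⟨c, hc0, hTc⟩ : ∃ c, c ≠ 0 ∧ T c = 0 := by
    by_contra hcon
    push Not at hcon
    have hinj : Function.Injective T := (injective_iff_map_eq_zero T).2 fun k hk => by
      by_contra h; exact hcon k h hk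
    obtain ⟨x, hx⟩ := Algebra.trace_surjective F K (1 : F)
    obtain ⟨k, rfl⟩ := Finite.injective_iff_surjective.1 hinj x
    rw [hTtr] at hx
    exact zero_ne_one hx
  have hcF : ∀ a : F, algebraMap F K a ≠ c := by
    intro a ha
    have h1 : T c = algebraMap F K a * (2 * P w) := by
      show polar P w (h.1 (c • v)) = _
      rw [← ha, algebraMap_smul, map_smul, ← hwd, ← algebraMap_smul K a w, polar_smul_right, polar_self,
        smul_eq_mul, nsmul_eq_mul, Nat.cast_ofNat]
    rw [hTc] at h1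
    exact mul_ne_zero (ha ▸ hc0) (mul_ne_zero h2K hw) h1.symm
  have hcv : c • v = (c * k1) • e := by rw [hvd, smul_smul]
  refine ⟨c * k1, by rw [← hcv]; exact hTc, ?_⟩
  rw [← hcv]
  set w' := h.1 (c • v) with hw'd
  have hww : polar P w w' = 0 := hTc
  have hw'0 : w' ≠ 0 := fun h' => smul_ne_zero hc0 hv0 (h.1.injective (h'.trans (map_zero h.1).symm))
  have hPw' : P w' ≠ 0 := by
    intro hP
    apply hns
    set z := (2 * P w)⁻¹ • w
    have hwz : polar P w z = 1 := by
      rw [polar_smul_right, polar_self, smul_eq_mul, nsmul_eq_mul, Nat.cast_ofNat,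
        inv_mul_cancel₀ (mul_ne_zero h2K hw)]
    have hw'z : polar P w' z = 0 := by rw [polar_smul_right, polar_comm (⇑P) w' w, hww, smul_zero]
    have hz : P z ≠ 0 := by
      rw [quad_smul]
      exact mul_ne_zero (mul_ne_zero (inv_ne_zero (mul_ne_zero h2K hw)) (inv_ne_zero (mul_ne_zero h2K hw))) hw
    refine hF.semi_of_pair hk hM hR hv0 hv hcF hh hw'0 hP hw'z hz ⟨1, -1, ?_⟩ ⟨0, 1, ?_⟩
    · rw [← hwd, ← hw'd, hF.uK_apply hP hw'z, hww, hwz]
      simp [sub_eq_add_neg]
    · rw [← hwd, ← hw'd, hF.uK_apply hP hw'z, hw'z, polar_self, hP]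
      simp
  refine ⟨hPw', ?_⟩
  obtain ⟨f, hf, hwf, hw'f, hall⟩ := hF.triple hk hw hPw' hww
  have hrefl : ∀ x y, polar P y x = 0 → (refl P x).1 y = y := fun x y h => by
    rw [refl_apply, h, mul_zero, zero_smul, add_zero]
  have hrefl' : ∀ x, P x ≠ 0 → (refl P x).1 x = -x := fun x hx => by
    rw [refl_apply, polar_self, nsmul_eq_mul, Nat.cast_ofNat, show -(P x)⁻¹ * (2 * P x) = (-2 : K) by
      field_simp]
    module
  have hneq : ∀ a b : V, P a ≠ 0 → P b ≠ 0 → IsSquare (P a * P b) →
      hF.res (refl P a * refl P b) ∈ M := fun a b ha hb hsq =>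
    hF.res_mem hM (refl_pair_mem_commutator hF.ndP ha hb hsq)
  have hσσ : ∀ σ : K →ₐ[F] K, σ c = -c → False := by
    intro σ hσc
    have hne : σ ≠ AlgHom.id F K := fun h' => by
      rw [h', AlgHom.id_apply] at hσc
      exact hc0 ((mul_eq_zero.1 (show (2 : K) * c = 0 by linear_combination hσc)).resolve_left h2K)
    by_cases hσ2 : σ.comp σ = AlgHom.id F K
    · exact hr2 (CfsgLib.FieldMax.finrank_eq_two_of_sq hF.prime hne fun k => AlgHom.congr_fun hσ2 k)
    · obtain ⟨a, ha⟩ := fixed_eq hF.prime hσ2 (k := c) (by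
        show σ (σ c) = c
        rw [hσc, map_neg, hσc, neg_neg])
      rw [← ha, AlgHom.commutes] at hσc
      exact hcF a ha
  have hnsq' : ¬ IsSquare (P w' * P f) := by
    intro hsq
    have ht := hneq w' f hPw' hf hsq
    set t := hF.res (refl P w' * refl P f)
    have hb := hF.stab_pair_semi hk hM hR hv0 hv hcF (M.mul_mem (M.mul_mem (M.inv_mem hh) ht) hh) ⟨1, 0, by
      show h.1.symm ((refl P w').1 ((refl P f).1 w)) = _
      rw [hrefl f w hwf, hrefl w' w hww, hwd, LinearEquiv.symm_apply_apply, one_smul, zero_smul, add_zero]⟩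
      ⟨0, -1, by
      show h.1.symm ((refl P w').1 ((refl P f).1 w')) = _
      rw [hrefl f w' hw'f, hrefl' w' hPw', map_neg, hw'd, LinearEquiv.symm_apply_apply, zero_smul, neg_smul,
        one_smul, zero_add]⟩
    obtain ⟨σ, hσ⟩ := hF.exists_hom hb
    have h1 : (h⁻¹ * t * h).1 v = v := by
      show h.1.symm ((refl P w').1 ((refl P f).1 w)) = _
      rw [hrefl f w hwf, hrefl w' w hww, hwd, LinearEquiv.symm_apply_apply]
    have h3 : (h⁻¹ * t * h).1 (c • v) = -(c • v) := by
      show h.1.symm ((refl P w').1 ((refl P f).1 w')) = _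
      rw [hrefl f w' hw'f, hrefl' w' hPw', map_neg, hw'd, LinearEquiv.symm_apply_apply]
    rw [hσ, h1, ← neg_smul] at h3
    exact hσσ σ (smul_left_injective K hv0 h3)
  have hnsq : ¬ IsSquare (P w * P f) := by
    intro hsq
    have ht := hneq w f hw hf hsq
    set t := hF.res (refl P w * refl P f)
    have e1 : (h⁻¹ * t * h).1 v = -v := by
      show h.1.symm ((refl P w).1 ((refl P f).1 w)) = _
      rw [hrefl f w hwf, hrefl' w hw, map_neg, hwd, LinearEquiv.symm_apply_apply]
    have e2 : (h⁻¹ * t * h).1 (c • v) = c • v := by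
      show h.1.symm ((refl P w).1 ((refl P f).1 w')) = _
      rw [hrefl f w' hw'f, hrefl w w' (by rw [polar_comm, hww]), hw'd, LinearEquiv.symm_apply_apply]
    obtain ⟨σ, hσ⟩ := hF.exists_hom (hF.stab_pair_semi hk hM hR hv0 hv hcF
      (M.mul_mem (M.mul_mem (M.inv_mem hh) ht) hh) ⟨-1, 0, by rw [e1]; simp⟩ ⟨0, 1, by rw [e2]; simp⟩)
    rw [hσ, e1, smul_neg, ← neg_smul] at e2
    exact hσσ σ (by linear_combination -(smul_left_injective K hv0 e2))
  refine ⟨f, hf, hwf, hw'f, hnsq, hnsq', ?_⟩
  have hsq : IsSquare (P w * P w') := by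
    obtain ⟨u, hu⟩ := sq_of_nonsq hnsq hnsq'
    exact ⟨u / P f, by field_simp; linear_combination hu⟩
  have ht := hneq w w' hw hPw' hsq
  set t := hF.res (refl P w * refl P w') with htd
  have htw : t.1 w = -w := by
    show (refl P w).1 ((refl P w').1 w) = _
    rw [hrefl w' w hww, hrefl' w hw]
  have htw' : t.1 w' = -w' := by
    show (refl P w).1 ((refl P w').1 w') = _
    rw [hrefl' w' hPw', map_neg, hrefl w w' (by rw [polar_comm, hww])]
  have htf : t.1 f = f := by
    show (refl P w).1 ((refl P w').1 f) = _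
    rw [hrefl w' f (by rw [polar_comm, hw'f]), hrefl w f (by rw [polar_comm, hwf])]
  set b := h⁻¹ * t * h with hbd
  have hbM : b ∈ M := M.mul_mem (M.mul_mem (M.inv_mem hh) ht) hh
  have hbv : b.1 v = -v := by
    show h.1.symm (t.1 w) = _
    rw [htw, map_neg, hwd, LinearEquiv.symm_apply_apply]
  have hbcv : b.1 (c • v) = -(c • v) := by
    show h.1.symm (t.1 w') = _
    rw [htw', map_neg, hw'd, LinearEquiv.symm_apply_apply]
  obtain ⟨σ, hσ⟩ := hF.exists_hom (hF.stab_pair_semi hk hM hR hv0 hv hcF hbM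
    ⟨-1, 0, by rw [hbv]; simp⟩ ⟨0, -1, by rw [hbcv]; simp⟩)
  have hid : σ = AlgHom.id F K := by
    by_contra hne
    rw [hσ, hbv, smul_neg, neg_inj] at hbcv
    obtain ⟨a, ha⟩ := fixed_eq hF.prime hne (smul_left_injective K hv0 hbcv)
    exact hcF a ha
  have hlin : ∀ (k : K) x, b.1 (k • x) = k • b.1 x := fun k x => by rw [hσ, hid]; rfl
  have hbe : b.1 e = -e := by
    have := hlin k1 e
    rw [← hvd, hbv, hvd] at this
    exact smul_right_injective V hk1 (show k1 • b.1 e = k1 • (-e) by rw [← this, smul_neg])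
  have hWf : ∀ k : K, polar P (h.1 (k • e)) f = 0 := by
    intro k
    have h1 : t.1 (h.1 (k • e)) = -(h.1 (k • e)) := by
      have h2 : h.1 (b.1 (k • e)) = t.1 (h.1 (k • e)) := LinearEquiv.apply_symm_apply _ _
      rw [← h2, hlin, hbe, smul_neg, map_neg]
    have h3 : polar P (t.1 (h.1 (k • e))) (t.1 f) = polar P (h.1 (k • e)) f := by
      rw [htd, hF.res_apply, hF.res_apply, polar_oGroup]
    rw [h1, htf, polar_neg_left] at h3
    exact (mul_eq_zero.1 (show (2 : K) * polar P (h.1 (k • e)) f = 0 by linear_combination -h3)).resolve_left h2K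
  refine ⟨hWf, hall, ?_⟩
  have hpol : ∀ x y, polar P (b.1 x) (b.1 y) = polar P x y := fun x y => by
    rw [hF.semi_polar hσ, hid, AlgHom.id_apply]
  have htt : ∀ x, t.1 (t.1 x) = x := by
    intro x
    set a := polar P x w / polar P w w
    set a' := polar P x w' / polar P w' w'
    have hself : ∀ u, P u ≠ 0 → polar P u u ≠ 0 := fun u hu => by
      rw [polar_self, nsmul_eq_mul, Nat.cast_ofNat]; exact mul_ne_zero h2K hu
    obtain ⟨d, hd⟩ := hall (x - a • w - a' • w')
      (by rw [polar_sub_right, polar_sub_right, polar_smul_right, polar_smul_right, hww, smul_zero, sub_zero,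
        smul_eq_mul, div_mul_cancel₀ _ (hself w hw), polar_comm (⇑P) w x, sub_self])
      (by rw [polar_sub_right, polar_sub_right, polar_smul_right, polar_smul_right, polar_comm (⇑P) w' w, hww,
        smul_zero, sub_zero, smul_eq_mul, div_mul_cancel₀ _ (hself w' hPw'), polar_comm (⇑P) w' x, sub_self])
    rw [sub_sub, sub_eq_iff_eq_add] at hd
    have hts : ∀ (k : K) y, t.1 (k • y) = k • t.1 y := fun k y => (refl P w * refl P w').1.map_smul k y
    have e1 : ∀ d a a' : K, t.1 (d • f + (a • w + a' • w')) = d • f + ((-a) • w + (-a') • w') := fun d a a' => by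
      rw [map_add, map_add, hts, hts, hts, htf, htw, htw', smul_neg, smul_neg, neg_smul, neg_smul]
    rw [hd, e1, e1, neg_neg, neg_neg]
  have hbb : ∀ x, b.1 (b.1 x) = x := fun x => by
    show h.1.symm (t.1 (h.1 (h.1.symm (t.1 (h.1 x))))) = x
    rw [LinearEquiv.apply_symm_apply, htt, LinearEquiv.symm_apply_apply]
  obtain ⟨f₀, hfr₀⟩ := hF.exists_frame he0 he
  obtain ⟨y0, hy0⟩ : ∃ y0, y0 = (2 : K)⁻¹ • (f₀ - b.1 f₀) := ⟨_, rfl⟩
  have hby0 : b.1 y0 = -y0 := by
    rw [hy0, hlin, map_sub, hbb, ← smul_neg, neg_sub]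
  have hey0 : polar P e y0 = 1 := by
    have h1 : polar P e (b.1 f₀) = -1 := by
      have := hpol e f₀
      rw [hbe, polar_neg_left, hfr₀.hef] at this
      linear_combination -this
    rw [hy0, polar_smul_right, polar_sub_right, hfr₀.hef, h1, smul_eq_mul, sub_neg_eq_add, one_add_one_eq_two,
      inv_mul_cancel₀ h2K]
  obtain ⟨y, hy⟩ : ∃ y, y = y0 + (-(P y0)) • e := ⟨_, rfl⟩
  have hby : b.1 y = -y := by
    rw [hy, map_add, hlin, hby0, hbe, smul_neg, neg_add]
  have hfr : Frame P e y := ⟨he, by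
      rw [hy, quad_add, quad_smul, he, polar_smul_right, polar_comm (⇑P) y0 e, hey0, smul_eq_mul]; ring, by
      rw [hy, polar_add_right, polar_smul_right, polar_self, he, smul_zero, smul_zero, hey0, add_zero]⟩
  obtain ⟨z0, hz0, hez0, hyz0⟩ := hF.exists_aniso_perp hfr.he hfr.hf (by rw [hfr.hef]; exact one_ne_zero)
  have hz00 : z0 ≠ 0 := fun h => hz0 (by rw [h, QuadraticMap.map_zero])
  obtain ⟨d, hd⟩ := hF.mid_line hk hfr hz00 hez0 hyz0 (z := b.1 z0)
    (by
      have := hpol e z0
      rw [hbe, polar_neg_left, hez0, neg_eq_zero] at this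
      exact this)
    (by
      have := hpol y z0
      rw [hby, polar_neg_left, hyz0, neg_eq_zero] at this
      exact this)
  have hdec : ∀ x, ∃ a c' u : K, x = a • e + c' • z0 + u • y := fun x => by
    obtain ⟨c', hc'⟩ := hF.mid_line hk hfr hz00 hez0 hyz0 (hfr.mid_e x) (hfr.mid_f x)
    exact ⟨_, c', _, by rw [← hc']; exact hfr.decomp x⟩
  have hdd : d * d = 1 := by
    have := hbb z0
    rw [hd, hlin, hd, smul_smul] at this
    exact smul_left_injective K hz00 (show (d * d) • z0 = (1 : K) • z0 by rw [one_smul, this])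
  have hd1 : d = 1 := by
    rcases mul_self_eq_one_iff.1 hdd with h' | h'
    · exact h'
    exfalso
    have hneg : ∀ x, b.1 x = -x := by
      intro x
      obtain ⟨a, c', u, hx⟩ := hdec x
      rw [hx, map_add, map_add, hlin, hlin, hlin, hbe, hby, hd, h']
      module
    obtain ⟨x, hx⟩ := h.1.surjective f
    have h1 : h.1 (b.1 x) = t.1 (h.1 x) := LinearEquiv.apply_symm_apply _ _
    rw [hneg, map_neg, hx, htf] at h1
    have : (2 : K) • f = 0 := by
      rw [two_smul]
      nth_rw 1 [← h1]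
      exact neg_add_cancel f
    exact hf (by rw [(smul_eq_zero.1 this).resolve_left h2K, QuadraticMap.map_zero])
  rw [hd1, one_smul] at hd
  have hx1 : P (e + y) = 1 := by rw [quad_add, he, hfr.hf, hfr.hef, zero_add, zero_add]
  have hx2 : P (e - y) = -1 := by
    rw [sub_eq_add_neg, quad_add, he, QuadraticMap.map_neg, hfr.hf, polar_neg_right, hfr.hef, zero_add, zero_add]
  refine hF.neg_one_square hodd hx1 hx2 ?_
  suffices hF.res (refl P (e + y) * refl P (e - y)) = b by rw [this]; exact hM.le hbM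
  refine Subtype.ext (LinearEquiv.ext fun x => ?_)
  obtain ⟨a, c', u, rfl⟩ := hdec x
  show (refl P (e + y)).1 ((refl P (e - y)).1 _) = _
  rw [refl_apply, refl_apply, hx1, hx2, map_add, map_add, hlin, hlin, hlin, hbe, hby, hd]
  have i1 : polar P (a • e + c' • z0 + u • y) (e - y) = u - a := by
    rw [polar_add_left, polar_add_left, polar_smul_left, polar_smul_left, polar_smul_left, polar_sub_right,
      polar_sub_right, polar_sub_right, hfr.hee, hfr.hef, hfr.hff, hfr.hfe, polar_comm (⇑P) z0 e, hez0,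
      polar_comm (⇑P) z0 y, hyz0]
    simp only [smul_eq_mul]; ring
  rw [i1]
  have i2 : polar P (a • e + c' • z0 + u • y + (-(-1 : K)⁻¹ * (u - a)) • (e - y)) (e + y) = u + a := by
    rw [polar_add_left, polar_add_left, polar_add_left, polar_smul_left, polar_smul_left, polar_smul_left,
      polar_smul_left, polar_sub_left, polar_add_right, polar_add_right, polar_add_right, hfr.hee, hfr.hef,
      hfr.hff, hfr.hfe, polar_comm (⇑P) z0 e, hez0, polar_comm (⇑P) z0 y, hyz0]
    simp only [smul_eq_mul]; ring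
  rw [i2, inv_neg, inv_one]
  module

/-- With rigid line stabilisers in dimension three, the overgroup is semilinear. -/
theorem Fld.semi_of_three : M ≤ hF.semiSub := by
  intro h hh
  by_contra hns
  rw [hF.mem_semiSub] at hns
  obtain ⟨hr2, hodd⟩ := hF.three_r hk
  have h2K := hF.two'
  obtain ⟨e, he0, he⟩ := hF.exists_singular
  by_cases hall : ∀ k : K, P (h.1 (k • e)) = 0
  · have hhe : P (h.1 e) = 0 := by have := hall 1; rwa [one_smul] at this
    refine hns (hF.semi_of_line hM hR he0 he hh hhe fun k => ?_)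
    have hw : h.1 e ≠ 0 := fun h' => he0 (h.1.injective (h'.trans (map_zero h.1).symm))
    obtain ⟨f, hfr⟩ := hF.exists_frame hw hhe
    have horth : polar P (h.1 (k • e)) (h.1 e) = 0 := by
      have := hall (k + 1)
      rwa [add_smul, one_smul, map_add, quad_add, hall k, hhe, zero_add, zero_add] at this
    obtain ⟨z0, hz0, hez0, hfz0⟩ := hF.exists_aniso_perp hfr.he hfr.hf (by rw [hfr.hef]; exact one_ne_zero)
    obtain ⟨c, hc⟩ := hF.mid_line hk hfr (fun h => hz0 (by rw [h, QuadraticMap.map_zero])) hez0 hfz0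
      (hfr.mid_e (h.1 (k • e))) (hfr.mid_f (h.1 (k • e)))
    have hq := hfr.quad_eq (h.1 (k • e))
    rw [hall, horth, mul_zero, zero_add, hc, quad_smul] at hq
    have hc0 : c = 0 := mul_self_eq_zero.1 ((mul_eq_zero.1 hq.symm).resolve_right hz0)
    refine ⟨polar P (h.1 (k • e)) f, ?_⟩
    conv_lhs => rw [hfr.decomp (h.1 (k • e)), horth, hc, hc0]
    rw [zero_smul, zero_smul, add_zero, add_zero]
  push Not at hall
  obtain ⟨k1, hk1⟩ := hall
  obtain ⟨k2, hww, hk2, f, hf, hwf, hw'f, hnsq, hnsq', hWf, hline, hneg⟩ :=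
    hF.partner_data hk hM hR he0 he hh hns k1 hk1
  set w := h.1 (k1 • e)
  set w' := h.1 (k2 • e)
  obtain ⟨i, hi⟩ := hneg
  have hww2 : IsSquare (P w * P w') := by
    obtain ⟨u, hu⟩ := sq_of_nonsq hnsq hnsq'
    exact ⟨u / P f, by field_simp; linear_combination hu⟩
  obtain ⟨q, hq⟩ := hww2
  set s := i * q / P w with hs
  have hsw : s * s * P w + P w' = 0 := by
    rw [hs]; field_simp
    linear_combination (-(q * q)) * hi + hq
  have hs0 : s ≠ 0 := fun h' => hk2 (by rw [h', zero_mul, zero_mul, zero_add] at hsw; exact hsw)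
  obtain ⟨e1, he1⟩ : ∃ e1, e1 = s • w + w' := ⟨_, rfl⟩
  have hPe1 : P e1 = 0 := by
    rw [he1, quad_add, quad_smul, polar_smul_left, hww, smul_zero, add_zero, hsw]
  obtain ⟨f1, hf1⟩ : ∃ f1, f1 = (-(4 * P w'))⁻¹ • (s • w - w') := ⟨_, rfl⟩
  have hPf1 : P f1 = 0 := by
    rw [hf1, quad_smul, sub_eq_add_neg, quad_add, quad_smul, QuadraticMap.map_neg, polar_smul_left,
      polar_neg_right, hww, neg_zero, smul_zero, add_zero, hsw, mul_zero]
  have hef : polar P e1 f1 = 1 := by
    have h4 : (4 : K) ≠ 0 := by rw [show (4 : K) = 2 * 2 by norm_num]; exact mul_ne_zero h2K h2K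
    have : polar P e1 (s • w - w') = -(4 * P w') := by
      rw [he1, polar_add_left, polar_sub_right, polar_sub_right, polar_smul_left, polar_smul_left,
        polar_smul_right, polar_smul_right, polar_comm (⇑P) w' w, hww, polar_self, polar_self]
      simp only [smul_eq_mul, nsmul_eq_mul, Nat.cast_ofNat]
      linear_combination 2 * hsw
    rw [hf1, polar_smul_right, this, smul_eq_mul, inv_mul_cancel₀ (neg_ne_zero.2 (mul_ne_zero h4 hk2))]
  have hfr : Frame P e1 f1 := ⟨hPe1, hPf1, hef⟩
  have he1f : polar P e1 f = 0 := by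
    rw [he1, polar_add_left, polar_smul_left, hwf, hw'f, smul_zero, add_zero]
  have hf1f : polar P f1 f = 0 := by
    rw [hf1, polar_smul_left, polar_sub_left, polar_smul_left, hwf, hw'f, smul_zero, sub_zero, smul_zero]
  have hf0 : f ≠ 0 := fun h => hf (by rw [h, QuadraticMap.map_zero])
  have hcoord : ∀ k : K, h.1 (k • e) = polar P (h.1 (k • e)) f1 • e1 + polar P (h.1 (k • e)) e1 • f1 := by
    intro k
    obtain ⟨c, hc⟩ := hF.mid_line hk hfr hf0 he1f hf1f (hfr.mid_e (h.1 (k • e))) (hfr.mid_f (h.1 (k • e)))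
    have h0 := hfr.polar_eq (h.1 (k • e)) f
    rw [hWf, polar_comm (⇑P) f e1, he1f, polar_comm (⇑P) f f1, hf1f, mul_zero, mul_zero, zero_add, zero_add,
      hc, hfr.mid_of_perp he1f hf1f, polar_smul_left, polar_self, smul_eq_mul, nsmul_eq_mul, Nat.cast_ofNat]
      at h0
    have hc0 : c = 0 := (mul_eq_zero.1 h0.symm).resolve_right (mul_ne_zero h2K hf)
    conv_lhs => rw [hfr.decomp (h.1 (k • e)), hc, hc0]
    rw [zero_smul, add_zero]
  let α : K →ₗ[F] K :=
    { toFun := fun k => polar P (h.1 (k • e)) f1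
      map_add' := fun a b => by rw [add_smul, map_add, polar_add_left]
      map_smul' := fun a k => by
        rw [RingHom.id_apply, smul_assoc, map_smul, ← algebraMap_smul K a (h.1 (k • e)), polar_smul_left,
          smul_eq_mul, ← Algebra.smul_def] }
  let β : K →ₗ[F] K :=
    { toFun := fun k => polar P (h.1 (k • e)) e1
      map_add' := fun a b => by rw [add_smul, map_add, polar_add_left]
      map_smul' := fun a k => by
        rw [RingHom.id_apply, smul_assoc, map_smul, ← algebraMap_smul K a (h.1 (k • e)), polar_smul_left,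
          smul_eq_mul, ← Algebra.smul_def] }
  have hPk : ∀ k, P (h.1 (k • e)) = α k * β k := fun k => by
    conv_lhs => rw [hcoord k]
    rw [quad_add, quad_smul, quad_smul, hPe1, hPf1, polar_smul_left, polar_smul_right, hef]
    simp [α, β]
  have hzero : ∀ k, α k = 0 → β k = 0 → k = 0 := by
    intro k ha hb
    have hk : h.1 (k • e) = 0 := by
      rw [hcoord k, show polar P (h.1 (k • e)) f1 = 0 from ha, show polar P (h.1 (k • e)) e1 = 0 from hb,
        zero_smul, zero_smul, add_zero]
    exact (smul_eq_zero.1 (h.1.injective (hk.trans (map_zero h.1).symm))).resolve_right he0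
  -- two independent vectors on an isotropic line are impossible
  have hker : ∀ u : V, u ≠ 0 → P u = 0 → polar P u f = 0 → ∀ k k' : K, k ≠ 0 →
      (∃ a : K, h.1 (k • e) = a • u) → (∃ a : K, h.1 (k' • e) = a • u) → ∃ x : F, k' = x • k := by
    intro u hu0 hu huf k k' hk0 ⟨a, ha⟩ ⟨a', ha'⟩
    by_contra hno
    push Not at hno
    apply hns
    have hcF : ∀ x : F, algebraMap F K x ≠ k' / k := fun x hx => hno x (by
      rw [Algebra.smul_def, hx, div_mul_cancel₀ _ hk0])
    have hcv : (k' / k) • (k • e) = k' • e := by rw [smul_smul, div_mul_cancel₀ _ hk0]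
    have hfix : ∀ a : K, (hF.uK u f).1 (a • u) = a • u := fun a => by
      rw [hF.uK_apply hu huf, polar_smul_left, polar_smul_left, polar_self, hu, huf]
      simp
    refine hF.semi_of_pair hk hM hR (v := k • e) (smul_ne_zero hk0 he0) (by rw [quad_smul, he, mul_zero]) hcF hh
      hu0 hu huf hf ⟨1, 0, ?_⟩ ⟨0, 1, ?_⟩
    · rw [ha, hfix, one_smul, zero_smul, add_zero]
    · rw [hcv, ha', hfix, one_smul, zero_smul, zero_add]
  refine no_pair_maps hF.two hF.prime hr2 (α := α) (β := β) (d := P f) (fun k hk => ?_) hzero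
    (fun k k' hk0 hb hb' => hker e1 hfr.e_ne hPe1 he1f k k' hk0
      ⟨α k, by conv_lhs => rw [hcoord k, show polar P (h.1 (k • e)) e1 = 0 from hb, zero_smul, add_zero]
               rfl⟩
      ⟨α k', by conv_lhs => rw [hcoord k', show polar P (h.1 (k' • e)) e1 = 0 from hb', zero_smul, add_zero]
                rfl⟩)
    (fun k k' hk0 hb hb' => hker f1 hfr.symm.e_ne hPf1 hf1f k k' hk0
      ⟨β k, by conv_lhs => rw [hcoord k, show polar P (h.1 (k • e)) f1 = 0 from hb, zero_smul, zero_add]
               rfl⟩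
      ⟨β k', by conv_lhs => rw [hcoord k', show polar P (h.1 (k' • e)) f1 = 0 from hb', zero_smul, zero_add]
                rfl⟩)
    (fun k => by rw [← hPk, hF.tr, h.2, hF.sing_smul he]) ⟨k1, by rw [← hPk]; exact hk1⟩
  rw [← hPk] at hk ⊢
  obtain ⟨k', hwx, -, f', hf', hxf', -, hnsq2, -, hWf', -, -⟩ :=
    hF.partner_data (by assumption) hM hR he0 he hh hns k hk
  obtain ⟨c, hc⟩ := hline f' (hWf' k1) (hWf' k2)
  intro hsq
  apply hnsq2
  rw [hc, quad_smul, show P (h.1 (k • e)) * (c * c * P f) = (c * c) * (P (h.1 (k • e)) * P f) by ring]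
  exact (IsSquare.mul_self c).mul hsq

end CfsgLib.OrthField
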