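import Cfsg.Agent.OrthField.Finish
import Cfsg.Agent.OrthField.Three
import Cfsg.Agent.OrthField.Fusion
import Cfsg.Agent.Quad.SimpleOmega

/-!
The semilinear isometries form a maximal subgroup of `Ω`.
-/

set_option autoImplicit false
set_option linter.unusedSectionVars false
set_option linter.style.haveILetI false

namespace CfsgLib.OrthField

open QuadraticMap CfsgLib.Forms CfsgLib.Quad Module

variable {F : Type*} [Field F] [Finite F] {K : Type*} [Field K] [Finite K] [Algebra F K]
  {V : Type*} [AddCommGroup V] [Module F V] [Module K V] [IsScalarTower F K V] [Finite V]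
  {Q : QuadraticForm F V} {P : QuadraticForm K V}

variable (hF : Fld Q P)

include hF

/-- An overgroup is semilinear or all of `Ω`. -/
theorem Fld.dichotomy {M : Subgroup (oGroup Q)} (hM : Over K M) :
    M ≤ hF.semiSub ∨ commutator (oGroup Q) ≤ M := by
  by_cases h : ∃ (e : V) (_ : e ≠ 0) (he : P e = 0), ∃ g ∈ longs M he, g ≠ 0
  · obtain ⟨e, he0, he, g₀, hg₀, hne⟩ := h
    obtain ⟨f, hfr⟩ := hF.exists_frame he0 he
    exact Or.inr (hF.commutator_le hM fun v hv0 hv g hg => hF.full_all hM hfr hg₀ hne hv0 hv hg)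
  · push Not at h
    have hR : ∀ e : V, e ≠ 0 → P e = 0 → RigidAt K M e := fun e he0 he =>
      hF.rigid_of_longs hM he0 he (h e he0 he)
    left
    rcases hF.three.eq_or_lt' with h3 | h4
    · exact hF.semi_of_three h3 hM hR
    · exact hF.semi_of_four hM hR h4

/-- Not every element of `Ω` is semilinear. -/
theorem Fld.not_le_semiSub : ¬ commutator (oGroup Q) ≤ hF.semiSub := by
  intro hle
  obtain ⟨e, he0, he⟩ := hF.exists_singular
  obtain ⟨f, hfr⟩ := hF.exists_frame he0 he
  obtain ⟨z, hz, hez, hfz⟩ := hF.exists_aniso_perp hfr.he hfr.hf (by rw [hfr.hef]; exact one_ne_zero)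
  obtain ⟨t, ht0, ht⟩ := hF.exists_trace_zero 1
  rw [one_mul] at ht
  obtain ⟨b, hb⟩ := Algebra.trace_surjective F K (1 : F)
  have hQe : Q e = 0 := by
    have := hF.sing_smul he 1
    rwa [one_smul] at this
  have hQez : polar Q e z = 0 := by rw [← hF.tr_polar, hez, map_zero]
  have hs := hle (siegel_mem_commutator hF.ndQ (by have := hF.big; omega) hQe hQez)
  obtain ⟨σ, hσ⟩ := hF.exists_hom (hF.mem_semiSub.1 hs)
  have key : ∀ c : K, (siegel Q e z).1 (c • f) = c • f + Algebra.trace F K c • z -
      (Q z * Algebra.trace F K c) • e := fun c => by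
    rw [siegel_apply hQe hQez, hF.polar_smul_tr, hF.polar_smul_tr, hfr.hfe, hfz, mul_one, mul_zero,
      map_zero, zero_add]
  have h1 := hσ (b * t⁻¹) (t • f)
  rw [smul_smul, mul_assoc, inv_mul_cancel₀ ht0, mul_one, key, key, hb, ht, one_smul, mul_one,
    mul_zero, zero_smul, zero_smul, add_zero, sub_zero, smul_smul] at h1
  have h2 := congrArg (fun v => polar P v z) h1
  rw [polar_sub_left, polar_add_left, polar_smul_left, polar_smul_left, hfz, smul_zero, zero_add,
    smul_zero, ← algebraMap_smul K (Q z) e, polar_smul_left, hez, smul_zero, sub_zero, polar_self,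
    nsmul_eq_mul, Nat.cast_ofNat] at h2
  exact mul_ne_zero hF.two' hz h2

/-- The semilinear isometries in `Ω` form a maximal subgroup of `Ω`. -/
theorem Fld.isMaximal :
    Cfsg.Geo.IsMaximalIn (commutator (oGroup Q)) (hF.semiSub ⊓ commutator (oGroup Q)) := by
  refine ⟨lt_of_le_of_ne inf_le_right fun h => hF.not_le_semiSub (h.ge.trans inf_le_left),
    fun M hM hle => ?_⟩
  have hO : Over K M := ⟨fun g hg hs => hM ⟨hs, hg⟩, hle⟩
  rcases hF.dichotomy hO with h | h
  · exact Or.inl (le_antisymm (le_inf h hle) hM)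
  · exact Or.inr (le_antisymm hle h)

end CfsgLib.OrthField
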