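import Cfsg.Agent.OrthField.Long

/-!
Without long root maps at a singular line, the stabiliser of that line in an overgroup is semilinear.
-/

set_option autoImplicit false
set_option linter.unusedSectionVars false
set_option linter.unusedVariables false
set_option linter.style.haveILetI false

namespace CfsgLib.OrthField

open QuadraticMap CfsgLib.Forms CfsgLib.Quad Module

variable {F : Type*} [Field F] [Finite F] {K : Type*} [Field K] [Finite K] [Algebra F K]
  {V : Type*} [AddCommGroup V] [Module F V] [Module K V] [IsScalarTower F K V] [Finite V]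
  {Q : QuadraticForm F V} {P : QuadraticForm K V}

variable (K) in
/-- The line of `e` over the larger field is mapped into itself. -/
def Stab (e : V) (b : oGroup Q) : Prop := ∀ k : K, ∃ k' : K, b.1 (k • e) = k' • e

variable (K) in
/-- The stabiliser of the line of `e` in the subgroup is semilinear. -/
def RigidAt (M : Subgroup (oGroup Q)) (e : V) : Prop := ∀ b ∈ M, Stab K e b → Semi K b

/-- The map centralises the line and the quotient of its perpendicular by it. -/
structure IsRad (P : QuadraticForm K V) (e : V) (b : oGroup Q) : Prop where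
  fix : ∀ k : K, b.1 (k • e) = k • e
  mid : ∀ x, polar P e x = 0 → ∃ k : K, b.1 x = x + k • e

theorem Stab.surj {e : V} (he : e ≠ 0) {b : oGroup Q} (hb : Stab K e b) (k : K) :
    ∃ k' : K, b.1 (k' • e) = k • e := by
  choose c hc using hb
  have hinj : Function.Injective c := fun x y h =>
    smul_left_injective K he (b.1.injective (by rw [hc, hc, h]))
  obtain ⟨k', hk'⟩ := (Finite.injective_iff_surjective.1 hinj) k
  exact ⟨k', by rw [hc, hk']⟩

theorem Stab.inv {e : V} (he : e ≠ 0) {b : oGroup Q} (hb : Stab K e b) : Stab K e b⁻¹ := fun k => by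
  obtain ⟨k', hk'⟩ := hb.surj he k
  exact ⟨k', by show b.1.symm (k • e) = _; rw [LinearEquiv.symm_apply_eq, hk']⟩

theorem Stab.mul {e : V} {a b : oGroup Q} (ha : Stab K e a) (hb : Stab K e b) : Stab K e (a * b) :=
  fun k => by
    obtain ⟨k₁, h₁⟩ := hb k
    obtain ⟨k₂, h₂⟩ := ha k₁
    exact ⟨k₂, by show a.1 (b.1 (k • e)) = _; rw [h₁, h₂]⟩

variable (hF : Fld Q P)

include hF

theorem Fld.stab_perp {e : V} (he : e ≠ 0) {b : oGroup Q} (hb : Stab K e b) {x : V} :
    polar P e x = 0 ↔ polar P e (b.1 x) = 0 := by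
  rw [← hF.perp_line, ← hF.perp_line]
  constructor
  · intro h k
    obtain ⟨k', hk'⟩ := hb.surj he k
    rw [← hk', polar_oGroup, h]
  · intro h k
    obtain ⟨k', hk'⟩ := hb k
    rw [← polar_oGroup b, hk', h]

theorem Fld.rad_polar {e : V} {b : oGroup Q} (hb : IsRad P e b) (x : V) :
    polar P e (b.1 x) = polar P e x := by
  refine eq_of_trace (F := F) fun k => ?_
  rw [← hF.polar_smul_tr, ← hF.polar_smul_tr, ← hb.fix k, polar_oGroup]
  rw [hb.fix]

theorem Fld.rad_pow {e : V} (he : P e = 0) {b : oGroup Q} (hb : IsRad P e b) :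
    b ^ ringChar F = 1 := by
  have hee : polar P e e = 0 := by rw [polar_self, he, smul_zero]
  have hfixK : ∀ (k : K), b.1 (k • e) = k • e := hb.fix
  have hstep : ∀ x, ∃ k : K, b.1 (b.1 x - x) = b.1 x - x + k • e := fun x =>
    hb.mid _ (by rw [polar_sub_right, hF.rad_polar hb, sub_self])
  have key : ∀ (x : V) (n : ℕ) (k : K), b.1 (b.1 x - x) = b.1 x - x + k • e →
      (b ^ n).1 x = x + n • (b.1 x - x) + (n.choose 2) • (k • e) := by
    intro x n k hk
    induction n with
    | zero => simp
    | succ n ih =>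
      rw [pow_succ', Subgroup.coe_mul, LinearEquiv.mul_apply, ih, map_add, map_add, map_nsmul,
        map_nsmul, hk, hfixK, Nat.choose_succ_succ, Nat.choose_one_right]
      simp only [smul_add, add_smul, succ_nsmul]
      abel
  refine Subtype.ext (LinearEquiv.ext fun x => ?_)
  obtain ⟨k, hk⟩ := hstep x
  rw [key x _ k hk, hF.nsmul_p]
  obtain ⟨m, hm⟩ : ringChar F ∣ (ringChar F).choose 2 := hF.p_prime.dvd_choose_self (by norm_num)
    (lt_of_le_of_ne hF.p_prime.two_le (Ne.symm hF.p_ne_two))
  rw [hm, mul_nsmul, hF.nsmul_p, smul_zero, add_zero, add_zero]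
  rfl

variable {M : Subgroup (oGroup Q)} (hM : Over K M)

include hM

/-- The commutator of a centralising element with a Siegel transformation is long. -/
theorem Fld.comm_long {e f : V} (hfr : Frame P e f) {h : oGroup Q} (hh : h ∈ M) (hr : IsRad P e h) {z : V}
    (hez : polar P e z = 0) (hfz : polar P f z = 0) :
    ∃ g ∈ longs M hfr.he, ∀ t : K, g t = polar P (h.1 (t • z)) f + polar P (h.1 (t • f)) z := by
  have hu := hF.uK_mem_all hM hfr hez hfz
  obtain ⟨g, hg⟩ : ∃ g : K →ₗ[F] K, ∀ t, g t = polar P (h.1 (t • z)) f + polar P (h.1 (t • f)) z := by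
    refine ⟨{ toFun := fun t => polar P (h.1 (t • z)) f + polar P (h.1 (t • f)) z,
              map_add' := fun s t => ?_, map_smul' := fun c t => ?_ }, fun t => rfl⟩
    · rw [add_smul, add_smul, map_add, map_add, polar_add_left, polar_add_left]; abel
    · rw [RingHom.id_apply, smul_assoc, smul_assoc, LinearEquiv.map_smul h.1 c, LinearEquiv.map_smul h.1 c, ← algebraMap_smul K c (h.1 _),
        ← algebraMap_smul K c (h.1 (t • f)), polar_smul_left, polar_smul_left, smul_eq_mul, smul_eq_mul,
        ← mul_add, ← Algebra.smul_def]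
  have hlong : IsLong P e g (h * hF.uK e z * (hF.uK e z * h)⁻¹) := by
    intro x
    obtain ⟨y, rfl⟩ := (hF.uK e z * h).1.surjective x
    show (h * hF.uK e z).1 ((hF.uK e z * h).1.symm ((hF.uK e z * h).1 y)) = _
    rw [LinearEquiv.symm_apply_apply]
    show h.1 ((hF.uK e z).1 y) = (hF.uK e z).1 (h.1 y) + g (polar P ((hF.uK e z).1 (h.1 y)) e) • e
    have hhe : polar P (h.1 y) e = polar P y e := by
      rw [polar_comm (⇑P) (h.1 y), hF.rad_polar hr, polar_comm]
    have htop : polar P ((hF.uK e z).1 (h.1 y)) e = polar P y e := by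
      rw [hF.uK_apply hfr.he hez, polar_sub_left, polar_add_left, polar_smul_left, polar_smul_left,
        polar_comm (⇑P) z e, hez, hfr.hee, smul_zero, smul_zero, add_zero, sub_zero, hhe]
    rw [htop, hg, hF.uK_apply hfr.he hez, hF.uK_apply hfr.he hez, hhe, map_sub, map_add, hr.fix]
    obtain ⟨k, hk⟩ := hr.mid (polar P y e • z) (by rw [polar_smul_right, hez, smul_zero])
    have hk' : k = polar P (h.1 (polar P y e • z)) f := by
      rw [hk, polar_add_left, polar_smul_left, polar_comm (⇑P) z f, hfz, smul_zero, zero_add,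
        polar_smul_left, hfr.hef, smul_eq_mul, mul_one]
    have hyz : polar P (h.1 y) z = polar P y z + polar P (h.1 (polar P y e • f)) z := by
      have h1 : polar P e (y - polar P y e • f) = 0 := by
        rw [polar_sub_right, polar_smul_right, hfr.hef, smul_eq_mul, mul_one, polar_comm (⇑P) e y,
          sub_self]
      obtain ⟨k', hk''⟩ := hr.mid _ h1
      conv_lhs => rw [← sub_add_cancel y (polar P y e • f), map_add, hk'']
      rw [polar_add_left, polar_add_left, polar_smul_left, hez, smul_zero, add_zero, polar_sub_left,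
        polar_smul_left, hfz, smul_zero, sub_zero]
    rw [← hk', hk, hyz]
    module
  have hmem : h * hF.uK e z * (hF.uK e z * h)⁻¹ ∈ M :=
    mul_mem (mul_mem hh hu) (inv_mem (mul_mem hu hh))
  exact ⟨g, ⟨_, hmem, hlong⟩, hg⟩

/-- A centralising element of the overgroup is a Siegel transformation over the larger field. -/
theorem Fld.rad_eq_uK {e f : V} (hfr : Frame P e f) (hD : ∀ g ∈ longs M hfr.he, g = 0)
    {h : oGroup Q} (hh : h ∈ M) (hr : IsRad P e h) :
    ∃ z, polar P e z = 0 ∧ polar P f z = 0 ∧ h = hF.uK e z := by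
  set z0 := mid P e f (h.1 f) with hz0
  have hez0 : polar P e z0 = 0 := hfr.mid_e _
  have hfz0 : polar P f z0 = 0 := hfr.mid_f _
  refine ⟨z0, hez0, hfz0, ?_⟩
  -- the commutators with Siegel transformations over the larger field are long
  have hcomm : ∀ z, polar P e z = 0 → polar P f z = 0 → polar P (h.1 z) f + polar P (h.1 f) z = 0 := by
    intro z hez hfz
    obtain ⟨g, hgD, hg⟩ := hF.comm_long hM hfr hh hr hez hfz
    have h0 := hD g hgD
    have := hg 1
    rw [h0, LinearMap.zero_apply, one_smul, one_smul] at this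
    exact this.symm
  have hu0 := hF.uK_mem_all hM hfr hez0 hfz0
  have hfixperp : ∀ x, polar P e x = 0 → ((hF.uK e z0)⁻¹ * h).1 x = x := by
    intro x hx
    show (hF.uK e z0).1.symm (h.1 x) = x
    rw [LinearEquiv.symm_apply_eq, hF.uK_apply hfr.he hez0, polar_comm (⇑P) x e, hx, zero_smul, add_zero,
      mul_zero, add_zero]
    have hx' : x = polar P x f • e + mid P e f x := by
      conv_lhs => rw [hfr.decomp x]
      rw [polar_comm (⇑P) x e, hx, zero_smul, add_zero]
    obtain ⟨k, hk⟩ := hr.mid (mid P e f x) (hfr.mid_e x)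
    have hk' : k = - polar P x z0 := by
      have h1 := hcomm _ (hfr.mid_e x) (hfr.mid_f x)
      rw [hk, polar_add_left, polar_comm (⇑P) (mid P e f x) f, hfr.mid_f, polar_smul_left, hfr.hef,
        smul_eq_mul, mul_one, zero_add] at h1
      have h2 : polar P (h.1 f) (mid P e f x) = polar P x z0 := by
        rw [hfr.polar_eq, hfr.polar_eq x z0, hfr.mid_of_perp (hfr.mid_e _) (hfr.mid_f _),
          hfr.mid_of_perp hez0 hfz0, polar_comm (⇑P) (mid P e f x) f, hfr.mid_f,
          polar_comm (⇑P) (mid P e f x) e, hfr.mid_e, polar_comm (⇑P) z0 f, hfz0, polar_comm (⇑P) z0 e,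
          hez0]
        simp only [mul_zero, zero_add, ← hz0]
        rw [polar_comm]
      rw [h2] at h1
      linear_combination h1
    have e1 : h.1 x = polar P x f • e + (mid P e f x + k • e) := by
      conv_lhs => rw [hx', map_add, hr.fix, hk]
    rw [e1, hk']
    conv_rhs => arg 1; rw [hx']
    module
  obtain ⟨g, hg⟩ := hF.long_fix hfr hfixperp
  have h0 := hD g ⟨_, mul_mem (inv_mem hu0) hh, hg⟩
  have h1 : (hF.uK e z0)⁻¹ * h = 1 := hg.ext (g := g) (by intro x; rw [h0]; simp)
  rw [inv_mul_eq_one] at h1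
  exact h1.symm

/-- Without long root maps at a singular line its stabiliser is semilinear. -/
theorem Fld.rigid_of_longs {e : V} (he0 : e ≠ 0) (he : P e = 0) (hD : ∀ g ∈ longs M he, g = 0) :
    RigidAt K M e := by
  obtain ⟨f, hfr⟩ := hF.exists_frame he0 he
  intro b hbM hb
  obtain ⟨z₀, hz₀, hez₀, hfz₀⟩ := hF.exists_aniso_perp hfr.he hfr.hf (by rw [hfr.hef]; exact one_ne_zero)
  -- the conjugates of the Siegel transformations
  have hconj : ∀ z, polar P e z = 0 → polar P f z = 0 → ∃ z', polar P e z' = 0 ∧ polar P f z' = 0 ∧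
      ∀ x, b.1 ((hF.uK e z).1 x) = (hF.uK e z').1 (b.1 x) := by
    intro z hez hfz
    have hmem : b * hF.uK e z * b⁻¹ ∈ M := mul_mem (mul_mem hbM (hF.uK_mem_all hM hfr hez hfz)) (inv_mem hbM)
    have hrad : IsRad P e (b * hF.uK e z * b⁻¹) := by
      constructor
      · intro k
        obtain ⟨k', hk'⟩ := hb.surj he0 k
        show b.1 ((hF.uK e z).1 (b.1.symm (k • e))) = _
        rw [← hk', LinearEquiv.symm_apply_apply, hF.uK_apply he hez, polar_smul_left, polar_smul_left, hez,
          hfr.hee, smul_zero, zero_smul, add_zero, mul_zero, add_zero, zero_smul, sub_zero]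
      · intro x hx
        obtain ⟨y, rfl⟩ := b.1.surjective x
        have hy : polar P e y = 0 := (hF.stab_perp he0 hb).2 hx
        obtain ⟨k', hk'⟩ := hb (-(polar P y z))
        refine ⟨k', ?_⟩
        show b.1 ((hF.uK e z).1 (b.1.symm (b.1 y))) = _
        rw [LinearEquiv.symm_apply_apply, hF.uK_apply he hez, polar_comm (⇑P) y e, hy, zero_smul, add_zero,
          mul_zero, add_zero, sub_eq_add_neg, ← neg_smul, map_add, hk']
    obtain ⟨z', h1, h2, h3⟩ := hF.rad_eq_uK hM hfr hD hmem hrad
    exact ⟨z', h1, h2, fun x => by rw [← h3]; show _ = b.1 ((hF.uK e z).1 (b.1.symm (b.1 x)));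
                                   rw [LinearEquiv.symm_apply_apply]⟩
  choose α hα using hb
  set γ1 := polar P (b.1 f) e with hγ1
  have htz : ∀ (t : K) z, polar P e z = 0 → polar P f z = 0 → ∀ z', polar P e z' = 0 → polar P f z' = 0 →
      (∀ x, b.1 ((hF.uK e z).1 x) = (hF.uK e z').1 (b.1 x)) →
      mid P e f (b.1 (t • z)) = polar P (b.1 (t • f)) e • z' := by
    intro t z hez hfz z' hez' hfz' hzz
    have h := congrArg (mid P e f) (hzz (t • f))
    rw [hF.uK_apply he hez, hF.uK_apply he hez', polar_smul_left, hfr.hfe, smul_eq_mul, mul_one,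
      polar_smul_left, hfz, smul_zero, zero_add, sub_eq_add_neg, ← neg_smul, map_add, map_add, hα,
      sub_eq_add_neg, ← neg_smul, hfr.mid_add, hfr.mid_add, hfr.mid_add, hfr.mid_add, hfr.mid_smul,
      hfr.mid_smul, hfr.mid_smul, hfr.mid_self, smul_zero, smul_zero, add_zero, add_zero,
      hfr.mid_of_perp hez' hfz', add_left_cancel_iff] at h
    exact h
  have hpi0 : ∀ y, polar P e y = 0 → polar P f y = 0 → mid P e f (b.1 y) = 0 → y = 0 := by
    intro y hey hfy h
    have he' : polar P (b.1 y) e = 0 := by rw [polar_comm]; exact (hF.stab_perp he0 fun k => ⟨_, hα k⟩).1 hey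
    have h1 : b.1 y = polar P (b.1 y) f • e := by
      conv_lhs => rw [hfr.decomp (b.1 y)]
      rw [h, he', zero_smul, add_zero, add_zero]
    obtain ⟨k', hk'⟩ := Stab.surj he0 (fun k => ⟨_, hα k⟩) (polar P (b.1 y) f)
    have h2 := b.1.injective (h1.trans hk'.symm)
    have h3 : polar P y f = k' := by rw [h2, polar_smul_left, hfr.hef, smul_eq_mul, mul_one]
    rw [polar_comm, hfy] at h3
    rw [h2, ← h3, zero_smul]
  have hz₀0 : z₀ ≠ 0 := fun h => hz₀ (by rw [h, QuadraticMap.map_zero])
  have hγ10 : γ1 ≠ 0 := fun h => by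
    obtain ⟨z', h1, h2, h3⟩ := hconj z₀ hez₀ hfz₀
    have := htz 1 z₀ hez₀ hfz₀ z' h1 h2 h3
    rw [one_smul, one_smul, ← hγ1, h, zero_smul] at this
    exact hz₀0 (hpi0 _ hez₀ hfz₀ this)
  let σ₀ : K → K := fun t => polar P (b.1 (t • f)) e / γ1
  have hπ : ∀ (t : K) z, polar P e z = 0 → polar P f z = 0 →
      mid P e f (b.1 (t • z)) = σ₀ t • mid P e f (b.1 z) := by
    intro t z hez hfz
    obtain ⟨z', h1, h2, h3⟩ := hconj z hez hfz
    have ht := htz t z hez hfz z' h1 h2 h3
    have h1' := htz 1 z hez hfz z' h1 h2 h3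
    rw [one_smul, one_smul, ← hγ1] at h1'
    rw [ht, h1', smul_smul, div_mul_cancel₀ _ hγ10]
  have hinj : ∀ a c : K, a • mid P e f (b.1 z₀) = c • mid P e f (b.1 z₀) → a = c := fun a c h =>
    smul_left_injective K (fun h' => hz₀0 (hpi0 _ hez₀ hfz₀ h')) h
  have hσmul : ∀ s t, σ₀ (s * t) = σ₀ s * σ₀ t := fun s t => hinj _ _ (by
    rw [← hπ _ _ hez₀ hfz₀, mul_smul, hπ _ _ (by rw [polar_smul_right, hez₀, smul_zero])
      (by rw [polar_smul_right, hfz₀, smul_zero]), hπ _ _ hez₀ hfz₀, smul_smul])
  have hσadd : ∀ s t, σ₀ (s + t) = σ₀ s + σ₀ t := fun s t => by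
    simp only [σ₀, add_smul, map_add, polar_add_left, add_div]
  have hσ1 : σ₀ 1 = 1 := by simp only [σ₀, one_smul]; exact div_self hγ10
  let σ : K →ₐ[F] K :=
    { toFun := σ₀
      map_one' := hσ1
      map_mul' := hσmul
      map_zero' := by simp [σ₀]
      map_add' := hσadd
      commutes' := fun a => by
        show polar P (b.1 (algebraMap F K a • f)) e / γ1 = _
        rw [algebraMap_smul, map_smul, ← algebraMap_smul K a (b.1 f), polar_smul_left, smul_eq_mul,
          mul_div_assoc, ← hγ1, div_self hγ10, mul_one] }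
  have hσsurj : Function.Surjective σ := Finite.injective_iff_surjective.1 σ.toRingHom.injective
  have hγσ : ∀ t, polar P (b.1 (t • f)) e = γ1 * σ t := fun t => by
    show _ = γ1 * (_ / γ1)
    rw [mul_div_cancel₀ _ hγ10]
  have hασ : ∀ a, α a = σ a / γ1 := fun a => by
    rw [eq_div_iff hγ10]
    refine eq_of_trace (F := F) fun k => ?_
    obtain ⟨t, rfl⟩ := hσsurj k
    rw [show σ t * (α a * γ1) = α a * (γ1 * σ t) by ring, ← map_mul, CfsgLib.FieldMax.trace_aut, ← hγσ,
      polar_comm (⇑P) (b.1 (t • f)) e, ← hF.polar_smul_tr, ← hα, polar_oGroup, hF.polar_smul_tr,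
      polar_smul_right, hfr.hef, smul_eq_mul, mul_one, mul_comm]
  have hπB : ∀ y z, polar P e y = 0 → polar P f y = 0 → polar P e z = 0 → polar P f z = 0 →
      polar P (mid P e f (b.1 y)) (mid P e f (b.1 z)) = σ (polar P y z) := by
    intro y z hey hfy hez hfz
    obtain ⟨z', h1, h2, h3⟩ := hconj z hez hfz
    have ht := htz 1 z hez hfz z' h1 h2 h3
    rw [one_smul, one_smul, ← hγ1] at ht
    have h := h3 y
    have hbe : polar P (b.1 y) e = 0 := by
      rw [polar_comm]; exact (hF.stab_perp he0 fun k => ⟨_, hα k⟩).1 hey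
    rw [hF.uK_apply he hez, hF.uK_apply he h1, polar_comm (⇑P) y e, hey, hbe, zero_smul, zero_smul,
      add_zero, add_zero, mul_zero, mul_zero, add_zero, add_zero, map_sub, hα, sub_right_inj] at h
    have h' := smul_left_injective K he0 h
    have e1 : polar P (b.1 y) z' = polar P (mid P e f (b.1 y)) z' := by
      rw [hfr.polar_eq, hfr.mid_of_perp h1 h2, polar_comm (⇑P) z' e, h1, hbe, mul_zero, zero_mul,
        zero_add, zero_add]
    rw [hασ, e1, div_eq_iff hγ10] at h'
    rw [ht, polar_smul_right, smul_eq_mul, h', mul_comm]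
  -- the semilinear isometry with the same action
  let L : V →ₗ[F] V :=
    { toFun := fun x => (σ (polar P x f) / γ1) • e + mid P e f (b.1 (mid P e f x)) +
        (γ1 * σ (polar P x e)) • f
      map_add' := fun x y => by
        rw [polar_add_left, polar_add_left, hfr.mid_add, map_add, map_add, map_add, hfr.mid_add, add_div,
          mul_add, add_smul, add_smul]
        abel
      map_smul' := fun c x => by
        rw [RingHom.id_apply, ← algebraMap_smul K c x, polar_smul_left, polar_smul_left, hfr.mid_smul,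
          smul_eq_mul, smul_eq_mul, map_mul, map_mul, AlgHom.commutes, algebraMap_smul, map_smul,
          ← algebraMap_smul K c (b.1 _), hfr.mid_smul, ← algebraMap_smul K c (_ + _ + _), smul_add, smul_add,
          smul_smul, smul_smul, mul_div_assoc, mul_left_comm γ1] }
  have hL : ∀ (k : K) x, L (k • x) = σ k • L x := fun k x => by
    show (σ (polar P (k • x) f) / γ1) • e + mid P e f (b.1 (mid P e f (k • x))) +
        (γ1 * σ (polar P (k • x) e)) • f = σ k • ((σ (polar P x f) / γ1) • e +
        mid P e f (b.1 (mid P e f x)) + (γ1 * σ (polar P x e)) • f)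
    rw [polar_smul_left, polar_smul_left, hfr.mid_smul, hπ _ _ (hfr.mid_e x) (hfr.mid_f x), smul_eq_mul,
      smul_eq_mul, map_mul, map_mul, smul_add, smul_add, smul_smul, smul_smul, mul_div_assoc,
      mul_left_comm γ1]
    rfl
  have hLe : ∀ x, polar P (L x) e = γ1 * σ (polar P x e) := fun x => by
    show polar P (_ + _ + _) e = _
    rw [polar_add_left, polar_add_left, polar_smul_left, polar_smul_left, hfr.hee, hfr.hfe,
      polar_comm (⇑P) (mid P e f _) e, hfr.mid_e, smul_zero, zero_add, zero_add, smul_eq_mul, mul_one]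
  have hLf : ∀ x, polar P (L x) f = σ (polar P x f) / γ1 := fun x => by
    show polar P (_ + _ + _) f = _
    rw [polar_add_left, polar_add_left, polar_smul_left, polar_smul_left, hfr.hef, hfr.hff,
      polar_comm (⇑P) (mid P e f _) f, hfr.mid_f, smul_zero, add_zero, add_zero, smul_eq_mul, mul_one]
  have hLm : ∀ x, mid P e f (L x) = mid P e f (b.1 (mid P e f x)) := fun x => by
    show mid P e f (_ + _ + _) = _
    rw [hfr.mid_add, hfr.mid_add, hfr.mid_smul, hfr.mid_smul, hfr.mid_self, hfr.mid_self', smul_zero,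
      smul_zero, zero_add, add_zero, hfr.mid_of_perp (hfr.mid_e _) (hfr.mid_f _)]
  have hLP : ∀ x, P (L x) = σ (P x) := fun x => by
    have hm : P (mid P e f (b.1 (mid P e f x))) = σ (P (mid P e f x)) := by
      have h := hπB _ _ (hfr.mid_e x) (hfr.mid_f x) (hfr.mid_e x) (hfr.mid_f x)
      rw [polar_self, polar_self, map_nsmul, nsmul_eq_mul, nsmul_eq_mul, Nat.cast_ofNat] at h
      exact mul_left_cancel₀ hF.two' h
    rw [hfr.quad_eq, hLe, hLf, hLm, hm, hfr.quad_eq x, map_add, map_mul]
    field_simp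
  have hLinj : Function.Injective L := by
    rw [injective_iff_map_eq_zero]
    intro x hx
    have h1 := hLe x
    have h2 := hLf x
    have h3 := hLm x
    rw [hx, polar_zero_left] at h1 h2
    have h4 : mid P e f (b.1 (mid P e f x)) = 0 := by rw [← h3, hx]; simp [mid]
    have h5 := hpi0 _ (hfr.mid_e x) (hfr.mid_f x) h4
    have h6 : polar P x e = 0 := σ.toRingHom.injective (by
      show σ _ = σ 0
      rw [map_zero, (mul_eq_zero.1 h1.symm).resolve_left hγ10])
    have h7 : polar P x f = 0 := σ.toRingHom.injective (by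
      show σ _ = σ 0
      rw [map_zero, (div_eq_zero_iff.1 h2.symm).resolve_right hγ10])
    rw [hfr.decomp x, h5, h6, h7, zero_smul, zero_smul, add_zero, add_zero]
  let b0 : oGroup Q := ⟨LinearEquiv.ofInjectiveEndo L hLinj, fun x => by
    rw [LinearEquiv.coe_ofInjectiveEndo, ← hF.tr, ← hF.tr, hLP, CfsgLib.FieldMax.trace_aut]⟩
  have hb0 : Semi K b0 := fun k => ⟨σ k, hL k⟩
  have hLk : ∀ k : K, L (k • e) = b.1 (k • e) := fun k => by
    show (σ (polar P (k • e) f) / γ1) • e + mid P e f (b.1 (mid P e f (k • e))) +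
        (γ1 * σ (polar P (k • e) e)) • f = _
    rw [polar_smul_left, polar_smul_left, hfr.hef, hfr.hee, hfr.mid_smul, hfr.mid_self, smul_zero, map_zero,
      smul_zero, map_zero, mul_zero, zero_smul, add_zero, hα, hασ, smul_eq_mul, mul_one]
    simp [mid]
  have hrad : IsRad P e (b0⁻¹ * b) := by
    constructor
    · intro k
      show b0.1.symm (b.1 (k • e)) = _
      rw [LinearEquiv.symm_apply_eq]
      exact (hLk k).symm
    · intro x hx
      have hbx : polar P (b.1 x) e = 0 := by
        rw [polar_comm]; exact (hF.stab_perp he0 fun k => ⟨_, hα k⟩).1 hx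
      have hxd : x = polar P x f • e + mid P e f x := by
        conv_lhs => rw [hfr.decomp x]
        rw [polar_comm (⇑P) x e, hx, zero_smul, add_zero]
      have h1 : mid P e f (b.1 x) = mid P e f (b.1 (mid P e f x)) := by
        conv_lhs => rw [hxd, map_add, hfr.mid_add, hα, hfr.mid_smul, hfr.mid_self, smul_zero, zero_add]
      obtain ⟨k, hk⟩ := Stab.surj he0 (fun k => ⟨_, hα k⟩) (polar P (b.1 x) f - polar P (L x) f)
      refine ⟨k, ?_⟩
      show b0.1.symm (b.1 x) = _
      rw [LinearEquiv.symm_apply_eq]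
      show b.1 x = L (x + k • e)
      rw [map_add, hLk, hk, sub_smul]
      have d1 := hfr.decomp (b.1 x)
      have d2 := hfr.decomp (L x)
      rw [hbx, h1, zero_smul, add_zero] at d1
      rw [hLe, hLm, polar_comm (⇑P) x e, hx, map_zero, mul_zero, zero_smul, add_zero] at d2
      linear_combination (norm := module) d1 - d2
  have hodd : (b0⁻¹ * b) ∈ commutator (oGroup Q) :=
    hF.mem_omega_of_odd hF.p_odd (hF.rad_pow he hrad)
  have hb0M : b0 ∈ M := hM.semi _ (by
    have := mul_mem (hM.le hbM) (inv_mem hodd)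
    rwa [mul_inv_rev, inv_inv, ← mul_assoc, mul_inv_cancel, one_mul] at this) hb0
  obtain ⟨z, -, -, hz⟩ := hF.rad_eq_uK hM hfr hD (mul_mem (inv_mem hb0M) hbM) hrad
  have hbe : b = b0 * hF.uK e z := by rw [← hz, mul_inv_cancel_left]
  rw [hbe]
  exact hF.semiSub.mul_mem hb0 (hF.res_semi _)

end CfsgLib.OrthField
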