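import Cfsg.Agent.OrthField.FullLong
import Cfsg.Agent.Geo.OrthDecompOvergroup

/-!
Root spaces over the small field from the full groups of long root maps.
-/

set_option autoImplicit false
set_option linter.unusedSectionVars false
set_option linter.unusedVariables false
set_option linter.style.haveILetI false

namespace CfsgLib.OrthField

open QuadraticMap CfsgLib.Forms CfsgLib.Quad Module CfsgLib.FieldMax CfsgLib.Geo.OS

section general

variable {F V : Type*} [Field F] [Finite F] [AddCommGroup V] [Module F V] [FiniteDimensional F V]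
  {Q : QuadraticForm F V} {M : Subgroup (oGroup Q)}

theorem root_symm {x y : V} {hx : Q x = 0} (hy : Q y = 0) (h : y ∈ rootSpace M hx) : x ∈ rootSpace M hy := by
  have h1 : polar Q y x = 0 := by rw [polar_comm]; exact h.1
  refine ⟨h1, fun s => ?_⟩
  have hs := h.2 (-s)
  convert hs using 1
  refine Subtype.ext (LinearEquiv.ext fun v => ?_)
  rw [siegel_apply hy (by rw [polar_smul_right, h1, smul_zero]),
    siegel_apply hx (by rw [polar_smul_right, h.1, smul_zero]), quad_smul, quad_smul, hx, hy,
    polar_smul_right, polar_smul_right]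
  module

theorem root_plane {x y z w : V} {hy : Q y = 0} (hx : x ∈ rootSpace M hy) {hz : Q z = 0}
    (hw : Q w = 0) (hzw : w ∈ rootSpace M hz) (hyz : polar Q y z = 0) (hyw : polar Q y w = 0) :
    polar Q x z • w - polar Q x w • z ∈ rootSpace M hy := by
  have h := rootSpace.move (rootSpace.self_mem hzw) (h := siegel Q z w) (by
    rw [siegel_apply hz hzw.1, hyz, hyw]; simp) hx
  rw [siegel_apply hz hzw.1, hw] at h
  convert h using 1
  module

/-- The plane rule for a root that need not be singular. -/
theorem root_plane_aniso {x y z w : V} {hy : Q y = 0} (hx : x ∈ rootSpace M hy) {hz : Q z = 0}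
    (hzw : w ∈ rootSpace M hz) (hyz : polar Q y z = 0) (hyw : polar Q y w = 0) (hxz : polar Q x z = 0) :
    polar Q x w • z ∈ rootSpace M hy := by
  have h := rootSpace.move (rootSpace.self_mem hzw) (h := siegel Q z w) (by
    rw [siegel_apply hz hzw.1, hyz, hyw]; simp) hx
  rw [siegel_apply hz hzw.1, hxz] at h
  convert Submodule.neg_mem _ h using 1
  module

theorem root_conj {x y : V} {hx : Q x = 0} (h : y ∈ rootSpace M hx) {g : oGroup Q} (hg : g ∈ M)
    (hgx : Q (g.1 x) = 0) : g.1 y ∈ rootSpace M hgx := by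
  refine ⟨by rw [polar_oGroup]; exact h.1, fun s => ?_⟩
  rw [← map_smul]
  exact siegel_conj_mem hg hx (by rw [polar_smul_right, h.1, smul_zero]) (h.2 s)

theorem root_of_eq {x x' y : V} {hx : Q x = 0} (h : y ∈ rootSpace M hx) (e : x = x') {hx' : Q x' = 0} :
    y ∈ rootSpace M hx' := by
  subst e; exact h

end general

variable {F : Type*} [Field F] [Finite F] {K : Type*} [Field K] [Finite K] [Algebra F K]
  {V : Type*} [AddCommGroup V] [Module F V] [Module K V] [IsScalarTower F K V] [Finite V]
  {Q : QuadraticForm F V} {P : QuadraticForm K V}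

variable (hF : Fld Q P) {M : Subgroup (oGroup Q)} (hM : Over K M)

include hF hM

/-- All skew maps are long root maps at every singular vector. -/
theorem Fld.full_all {e f : V} (hfr : Frame P e f) {g₀ : K →ₗ[F] K} (hg₀ : g₀ ∈ longs M hfr.he)
    (hne : g₀ ≠ 0) {v : V} (hv0 : v ≠ 0) (hv : P v = 0) {g : K →ₗ[F] K} (hg : Skew g) :
    g ∈ longs M hv := by
  obtain ⟨g1, hg1, c, hc, hgc⟩ := hF.exists_move hfr.e_ne hv0 hfr.he hv
  have hcv : P (c • v) = 0 := by rw [quad_smul, hv, mul_zero]
  have h1 : ((LinearMap.mulLeft F c⁻¹).comp g).comp (LinearMap.mulLeft F c⁻¹) ∈ longs M hcv := by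
    obtain ⟨b, hb, hbl⟩ := hF.longs_move hM hg1 hfr.he (by rw [hgc]; exact hcv)
      ((hF.full_longs hM hfr hg₀ hne).1 _ (skew_scale hg c⁻¹))
    exact ⟨b, hb, hgc ▸ hbl⟩
  have h2 := hF.longs_smul hv hcv h1
  convert h2 using 1
  exact LinearMap.ext fun t => by simp [hc]

omit hM in
/-- The rank two skew map of two vectors. -/
theorem Fld.exists_plane_map (a b : K) : ∃ g : K →ₗ[F] K, Skew g ∧
    ∀ t, g t = Algebra.trace F K (a * t) • b - Algebra.trace F K (b * t) • a := by
  refine ⟨((Algebra.traceForm F K) a).smulRight b - ((Algebra.traceForm F K) b).smulRight a, fun t => ?_,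
    fun t => rfl⟩
  simp only [LinearMap.sub_apply, LinearMap.smulRight_apply, Algebra.traceForm_apply]
  rw [mul_sub, mul_smul_comm, mul_smul_comm, map_sub, map_smul, map_smul, mul_comm t, mul_comm t, smul_eq_mul,
    smul_eq_mul, mul_comm, sub_self]

/-- The hypothesis that every skew map is a long root map. -/
theorem Fld.root_line (hfull : ∀ v : V, v ≠ 0 → ∀ hv : P v = 0, ∀ g, Skew g → g ∈ longs M hv)
    {v : V} (hv : P v = 0) (a b : K) :
    b • v ∈ rootSpace M (hF.sing_smul hv a) := by
  by_cases hv0 : v = 0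
  · subst hv0
    convert Submodule.zero_mem (rootSpace M (hF.sing_smul hv a))
    exact smul_zero b
  have hpol : ∀ x (c : K), polar Q x (c • v) = Algebra.trace F K (c * polar P x v) := fun x c => by
    rw [polar_comm, hF.polar_smul_tr, polar_comm]
  refine ⟨?_, fun s => ?_⟩
  · rw [hpol, polar_smul_left, polar_self, hv, smul_zero, smul_zero, mul_zero, map_zero]
  rw [← smul_assoc]
  obtain ⟨g, hg, hgt⟩ := hF.exists_plane_map a (s • b)
  obtain ⟨l, hlM, hl⟩ := hfull v hv0 hv g hg
  convert hlM using 1
  refine Subtype.ext (LinearEquiv.ext fun x => ?_)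
  rw [hl, hgt, siegel_apply (hF.sing_smul hv a) (by
    rw [hpol, polar_smul_left, polar_self, hv, smul_zero, smul_zero, mul_zero, map_zero]),
    hpol, hpol, hF.sing_smul hv, zero_mul, add_zero, sub_smul]
  simp only [smul_assoc]
  abel

end CfsgLib.OrthField
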