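import Cfsg.Agent.Geo.OrthSiegel
import Cfsg.Agent.Aschbacher.FieldMax.TracePairs

/-!
Extension field structure on an orthogonal space: `P` over `K` with trace `Q` over `F`; restriction of
scalars of isometries, semilinear isometries, Siegel transformations over `K`, transitivity.
-/

set_option autoImplicit false
set_option linter.unusedSectionVars false
set_option linter.style.haveILetI false

namespace CfsgLib.OrthField

open QuadraticMap CfsgLib.Forms CfsgLib.Quad Module

variable {F : Type*} [Field F] [Finite F] {K : Type*} [Field K] [Finite K] [Algebra F K]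
  {V : Type*} [AddCommGroup V] [Module F V] [Module K V] [IsScalarTower F K V] [Finite V]

/-- The standing hypotheses: `Q` is the trace of a non-degenerate form over an extension of prime
degree, odd characteristic, at least three dimensions over the extension, eight over `F`; in four
dimensions over a quadratic extension no totally singular plane. -/
structure Fld (Q : QuadraticForm F V) (P : QuadraticForm K V) : Prop where
  tr : ∀ v, Algebra.trace F K (P v) = Q v
  ndQ : (polarBilin Q).Nondegenerate
  ndP : (polarBilin P).Nondegenerate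
  two : (2 : F) ≠ 0
  prime : (finrank F K).Prime
  three : 3 ≤ finrank K V
  big : 8 ≤ finrank F V
  four : finrank F K = 2 → finrank K V = 4 → ∀ u v : V, P u = 0 → P v = 0 → polar P u v = 0 →
    u ≠ 0 → v ∈ Submodule.span K {u}

variable {Q : QuadraticForm F V} {P : QuadraticForm K V} (hF : Fld Q P)

include hF

theorem Fld.tr_polar (x y : V) : Algebra.trace F K (polar P x y) = polar Q x y := by
  simp only [polar, map_sub, hF.tr]

theorem Fld.polar_smul_tr (k : K) (x y : V) :
    polar Q (k • x) y = Algebra.trace F K (k * polar P x y) := by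
  rw [← hF.tr_polar, polar_smul_left, smul_eq_mul]

theorem Fld.two' : (2 : K) ≠ 0 := fun h => hF.two ((algebraMap F K).injective (by
  rw [map_ofNat, map_zero, h]))

omit hF in
/-- Trace pairs separate. -/
theorem eq_of_trace {a b : K} (h : ∀ k, Algebra.trace F K (k * a) = Algebra.trace F K (k * b)) :
    a = b :=
  sub_eq_zero.1 (CfsgLib.FieldMax.eq_zero_of_trace (F := F) fun k => by
    rw [sub_mul, map_sub, mul_comm a, mul_comm b, h, sub_self])

omit hF in
/-- Every element of a finite field of odd order is a sum of two squares. -/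
theorem exists_two_sq {L : Type*} [Field L] [Finite L] (h2 : (2 : L) ≠ 0) (x : L) :
    ∃ a b : L, x = a * a + b * b := by
  haveI := Fintype.ofFinite L
  obtain ⟨a, b, hab⟩ := FiniteField.exists_root_sum_quadratic (R := L)
    (f := Polynomial.X ^ 2) (g := Polynomial.X ^ 2 - Polynomial.C x) (Polynomial.degree_X_pow 2)
    (Polynomial.degree_X_pow_sub_C (by decide) _) (by
      refine FiniteField.odd_card_of_char_ne_two fun h => h2 ?_
      have := ringChar.Nat.cast_ringChar (R := L)
      rw [h] at this
      exact_mod_cast this)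
  refine ⟨a, b, ?_⟩
  simp only [Polynomial.eval_pow, Polynomial.eval_X, Polynomial.eval_sub, Polynomial.eval_C] at hab
  linear_combination -hab

/-- An additive predicate true on all squares is true everywhere. -/
theorem Fld.sq_induction {p : K → Prop} (hadd : ∀ a b, p a → p b → p (a + b))
    (hsq : ∀ a, p (a * a)) (x : K) : p x := by
  obtain ⟨a, b, rfl⟩ := exists_two_sq hF.two' x
  exact hadd _ _ (hsq a) (hsq b)

/-- A vector whose whole line is singular over `F` is singular over `K`. -/
theorem Fld.sing_of_line {w : V} (h : ∀ k : K, Q (k • w) = 0) : P w = 0 := by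
  refine eq_of_trace (F := F) fun k => ?_
  rw [mul_zero, map_zero]
  obtain ⟨a, b, rfl⟩ := exists_two_sq hF.two' k
  rw [add_mul, map_add, ← quad_smul P, ← quad_smul P, hF.tr, hF.tr, h, h, add_zero]

theorem Fld.sing_smul {e : V} (he : P e = 0) (k : K) : Q (k • e) = 0 := by
  rw [← hF.tr, quad_smul, he, mul_zero, map_zero]

/-- Restriction of scalars of isometries. -/
def Fld.res : oGroup P →* oGroup Q where
  toFun g := ⟨g.1.restrictScalars F, fun v => by
    rw [← hF.tr, ← hF.tr, LinearEquiv.restrictScalars_apply, g.2]⟩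
  map_one' := rfl
  map_mul' _ _ := rfl

theorem Fld.res_apply (g : oGroup P) (x : V) : (hF.res g).1 x = g.1 x := rfl

theorem Fld.res_injective : Function.Injective hF.res := fun g h e =>
  Subtype.ext (LinearEquiv.ext fun x => LinearEquiv.congr_fun (congrArg Subtype.val e) x)

theorem Fld.res_commutator {g : oGroup P} (hg : g ∈ commutator (oGroup P)) :
    hF.res g ∈ commutator (oGroup Q) := by
  have h := Subgroup.mem_map_of_mem hF.res hg
  rw [commutator_def, Subgroup.map_commutator] at h
  exact (Subgroup.commutator_mono le_top le_top : ⁅_, _⁆ ≤ _) h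

omit hF in
variable (K) in
/-- The map sends scalar multiplications to scalar multiplications. -/
def Semi (g : oGroup Q) : Prop := ∀ k : K, ∃ k' : K, ∀ x, g.1 (k • x) = k' • g.1 x

theorem Fld.exists_ne_zero : ∃ v : V, v ≠ 0 := by
  haveI : Nontrivial V := Module.nontrivial_of_finrank_pos (R := F) (by have := hF.big; omega)
  exact exists_ne 0

theorem Fld.exists_hom {g : oGroup Q} (hg : Semi K g) :
    ∃ σ : K →ₐ[F] K, ∀ (k : K) (x : V), g.1 (k • x) = σ k • g.1 x := by
  choose σ hσ using hg
  obtain ⟨v, hv⟩ := hF.exists_ne_zero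
  have hgv : g.1 v ≠ 0 := fun h => hv (g.1.injective (h.trans (map_zero g.1).symm))
  have hinj : ∀ a b : K, a • g.1 v = b • g.1 v → a = b := fun a b h => smul_left_injective K hgv h
  refine ⟨
    { toFun := σ
      map_one' := hinj _ _ (by rw [← hσ, one_smul, one_smul])
      map_mul' := fun a b => hinj _ _ (by rw [← hσ, mul_smul, hσ, hσ, mul_smul])
      map_zero' := hinj _ _ (by rw [← hσ, zero_smul, zero_smul, map_zero])
      map_add' := fun a b => hinj _ _ (by rw [← hσ, add_smul, map_add, hσ, hσ, add_smul])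
      commutes' := fun a => hinj _ _ (by
        rw [← hσ, algebraMap_smul, map_smul, algebraMap_smul]) }, hσ⟩

theorem Fld.semi_polar {g : oGroup Q} {σ : K →ₐ[F] K}
    (hσ : ∀ (k : K) (x : V), g.1 (k • x) = σ k • g.1 x) (x y : V) :
    polar P (g.1 x) (g.1 y) = σ (polar P x y) := by
  refine eq_of_trace (F := F) fun k => ?_
  obtain ⟨l, rfl⟩ := (Finite.injective_iff_surjective.1 σ.toRingHom.injective) k
  show Algebra.trace F K (σ l * _) = Algebra.trace F K (σ l * _)
  rw [← map_mul, CfsgLib.FieldMax.trace_aut, ← hF.polar_smul_tr, ← hF.polar_smul_tr, ← hσ,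
    polar_oGroup]

theorem Fld.semi_quad {g : oGroup Q} {σ : K →ₐ[F] K}
    (hσ : ∀ (k : K) (x : V), g.1 (k • x) = σ k • g.1 x) (x : V) : P (g.1 x) = σ (P x) := by
  have h := hF.semi_polar hσ x x
  rw [polar_self, polar_self, map_nsmul, nsmul_eq_mul, nsmul_eq_mul, Nat.cast_ofNat] at h
  exact mul_left_cancel₀ hF.two' h

/-- The semilinear isometries. -/
def Fld.semiSub : Subgroup (oGroup Q) where
  carrier := {g | Semi K g}
  one_mem' := fun k => ⟨k, fun _ => rfl⟩
  mul_mem' := fun {g h} hg hh k => by
    obtain ⟨k₁, h₁⟩ := hh k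
    obtain ⟨k₂, h₂⟩ := hg k₁
    exact ⟨k₂, fun x => by show g.1 (h.1 (k • x)) = k₂ • g.1 (h.1 x); rw [h₁, h₂]⟩
  inv_mem' := fun {g} hg k => by
    obtain ⟨σ, hσ⟩ := hF.exists_hom hg
    obtain ⟨k', hk'⟩ := (Finite.injective_iff_surjective.1 σ.toRingHom.injective) k
    refine ⟨k', fun x => ?_⟩
    show g.1.symm (k • x) = k' • g.1.symm x
    rw [LinearEquiv.symm_apply_eq, hσ, LinearEquiv.apply_symm_apply]
    exact congrArg (· • x) hk'.symm

theorem Fld.mem_semiSub {g : oGroup Q} : g ∈ hF.semiSub ↔ Semi K g := Iff.rfl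

theorem Fld.res_semi (g : oGroup P) : Semi K (hF.res g) := fun k => ⟨k, fun x => g.1.map_smul k x⟩

/-- The image of a Siegel transformation over `K`. -/
noncomputable def Fld.uK (e z : V) : oGroup Q := hF.res (siegel P e z)

theorem Fld.uK_apply {e z : V} (he : P e = 0) (hez : polar P e z = 0) (x : V) :
    (hF.uK e z).1 x = x + polar P x e • z - (polar P x z + P z * polar P x e) • e :=
  siegel_apply he hez x

theorem Fld.uK_mul {e z z' : V} (he : P e = 0) (hez : polar P e z = 0) (hez' : polar P e z' = 0) :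
    hF.uK e z * hF.uK e z' = hF.uK e (z + z') := by
  rw [Fld.uK, Fld.uK, Fld.uK, ← map_mul, siegel_mul he hez hez']

theorem Fld.uK_zero {e : V} (he : P e = 0) : hF.uK e 0 = 1 := by
  rw [Fld.uK, siegel_zero he, map_one]

theorem Fld.uK_inv {e z : V} (he : P e = 0) (hez : polar P e z = 0) :
    (hF.uK e z)⁻¹ = hF.uK e (-z) := by
  rw [Fld.uK, Fld.uK, ← map_inv, siegel_inv he hez]

theorem Fld.uK_mem_of_aniso {e z : V} (he : P e = 0) (hez : polar P e z = 0) (hz : P z ≠ 0) :
    hF.uK e z ∈ commutator (oGroup Q) := by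
  refine hF.res_commutator ?_
  have hv : P (z + P z • e) = P z := by
    rw [quad_add, quad_smul, he, polar_smul_right, polar_comm (⇑P) z e, hez, smul_zero, mul_zero,
      add_zero, add_zero]
  rw [siegel_eq_refl_mul he hez hz]
  exact refl_pair_mem_commutator hF.ndP hz (by rw [hv]; exact hz)
    (by rw [hv]; exact IsSquare.mul_self _)

omit hF in
variable (K) in
/-- An overgroup inside `Ω` of the semilinear isometries of `Ω`. -/
structure Over (M : Subgroup (oGroup Q)) : Prop where
  semi : ∀ g ∈ commutator (oGroup Q), Semi K g → g ∈ M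
  le : M ≤ commutator (oGroup Q)

variable {M : Subgroup (oGroup Q)}

theorem Fld.res_mem (hM : Over K M) {g : oGroup P} (hg : g ∈ commutator (oGroup P)) :
    hF.res g ∈ M :=
  hM.semi _ (hF.res_commutator hg) (hF.res_semi g)

theorem Fld.uK_mem (hM : Over K M) {e z : V} (he : P e = 0) (hez : polar P e z = 0) (hz : P z ≠ 0) :
    hF.uK e z ∈ M :=
  hM.semi _ (hF.uK_mem_of_aniso he hez hz) (hF.res_semi _)

theorem Fld.exists_partner {e : V} (he : e ≠ 0) (hPe : P e = 0) :
    ∃ f, P f = 0 ∧ polar P e f = 1 := by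
  obtain ⟨y, hy⟩ := exists_polar_ne hF.ndP he
  obtain ⟨y', h1⟩ : ∃ y', polar P e y' = 1 :=
    ⟨(polar P e y)⁻¹ • y, by rw [polar_smul_right, smul_eq_mul, inv_mul_cancel₀ hy]⟩
  refine ⟨y' + (-(P y')) • e, ?_, ?_⟩
  · rw [quad_add, quad_smul, hPe, polar_smul_right, polar_comm (⇑P) y' e, h1, smul_eq_mul]; ring
  · rw [polar_add_right, polar_smul_right, polar_self, hPe, smul_zero, smul_zero, h1, add_zero]

/-- An anisotropic vector orthogonal to a singular pair. -/
theorem Fld.exists_aniso_perp {e f : V} (hPe : P e = 0) (hPf : P f = 0) (hef : polar P e f ≠ 0) :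
    ∃ z, P z ≠ 0 ∧ polar P e z = 0 ∧ polar P f z = 0 := by
  set U := Submodule.span K (Set.range ![e, f])
  have hU : finrank K U ≤ 2 := (finrank_range_le_card _).trans (by simp)
  have he : e ∈ U := Submodule.subset_span ⟨0, rfl⟩
  have hf : f ∈ U := Submodule.subset_span ⟨1, rfl⟩
  by_contra hc
  push Not at hc
  have hsing : ∀ z ∈ perpS P U, P z = 0 := fun z hz => by
    by_contra hzz
    exact hc z hzz (hz e he) (hz f hf)
  have hle : perpS P U ≤ perpS P (perpS P U) := fun a ha b hb => by
    simp only [polar, hsing _ (Submodule.add_mem _ hb ha), hsing a ha, hsing b hb, sub_zero]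
  rw [perpS_perpS hF.ndP] at hle
  have h1 := finrank_perpS hF.ndP U
  have h3 := hF.three
  obtain ⟨z, hz, hz0⟩ := Submodule.exists_mem_ne_zero_of_ne_bot (p := perpS P U) (fun h => by
    rw [h, finrank_bot] at h1; omega)
  obtain ⟨c, hc'⟩ := (Submodule.mem_span_range_iff_exists_fun K).1 (hle hz)
  simp only [Fin.sum_univ_two, Matrix.cons_val_zero, Matrix.cons_val_one] at hc'
  have h4 := hz e he
  have h5 := hz f hf
  rw [← hc', polar_add_right, polar_smul_right, polar_smul_right, polar_self, hPe, smul_zero,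
    smul_zero, zero_add, smul_eq_mul] at h4
  rw [← hc', polar_add_right, polar_smul_right, polar_smul_right, polar_self, hPf, smul_zero,
    smul_zero, add_zero, polar_comm (⇑P) f e, smul_eq_mul] at h5
  exact hz0 (by rw [← hc', (mul_eq_zero.1 h4).resolve_right hef, (mul_eq_zero.1 h5).resolve_right hef,
    zero_smul, zero_smul, add_zero])

/-- Two singular vectors that are not orthogonal are exchanged up to scalars inside `Ω` over `K`. -/
theorem Fld.exists_move_nonorth {e f : V} (hPe : P e = 0) (hPf : P f = 0) (hef : polar P e f ≠ 0) :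
    ∃ g ∈ commutator (oGroup P), ∃ c : K, c ≠ 0 ∧ g.1 e = c • f := by
  obtain ⟨z, hz, hez, hfz⟩ := hF.exists_aniso_perp hPe hPf hef
  set μ := -(P z) / polar P e f with hμ
  have hμ0 : μ ≠ 0 := div_ne_zero (neg_ne_zero.2 hz) hef
  set x := e + z + μ • f with hx
  have hPx : P x = 0 := by
    rw [hx, quad_add, quad_add, quad_smul, hPe, hPf, hez, polar_add_left, polar_smul_right,
      polar_smul_right, polar_comm (⇑P) z f, hfz, smul_zero, smul_eq_mul, hμ, div_mul_cancel₀ _ hef]
    ring
  have hxe : polar P x e = μ * polar P e f := by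
    rw [hx, polar_add_left, polar_add_left, polar_smul_left, polar_self, hPe, smul_zero,
      polar_comm (⇑P) z e, hez, polar_comm (⇑P) f e, smul_eq_mul, zero_add, zero_add]
  have hxf : polar P x f = polar P e f := by
    rw [hx, polar_add_left, polar_add_left, polar_smul_left, polar_self, hPf, smul_zero,
      polar_comm (⇑P) z f, hfz, smul_zero, add_zero, add_zero]
  have hxe0 : polar P x e ≠ 0 := by rw [hxe]; exact mul_ne_zero hμ0 hef
  have hxf0 : polar P x f ≠ 0 := by rw [hxf]; exact hef
  obtain ⟨e1, he1d⟩ : ∃ e1, e1 = (polar P x e)⁻¹ • e := ⟨_, rfl⟩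
  obtain ⟨f1, hf1d⟩ : ∃ f1, f1 = (polar P x f)⁻¹ • f := ⟨_, rfl⟩
  have he1 : P e1 = 0 := by rw [he1d, quad_smul, hPe, mul_zero]
  have hf1 : P f1 = 0 := by rw [hf1d, quad_smul, hPf, mul_zero]
  obtain ⟨ha, hmove⟩ := CfsgLib.Geo.OS.siegel_move hPx he1 hf1
    (by rw [he1d, polar_smul_right, smul_eq_mul, inv_mul_cancel₀ hxe0])
    (by rw [hf1d, polar_smul_right, smul_eq_mul, inv_mul_cancel₀ hxf0])
  have haniso : P (f1 - e1) ≠ 0 := by
    have e' : P (f1 - e1) = -((polar P x f)⁻¹ * (polar P x e)⁻¹ * polar P e f) := by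
      rw [sub_eq_add_neg, ← neg_one_smul K e1, quad_add, quad_smul, hf1, he1, polar_smul_right,
        hf1d, he1d, polar_smul_left, polar_smul_right, polar_comm (⇑P) f e]
      simp only [smul_eq_mul]; ring
    rw [e']
    exact neg_ne_zero.2 (mul_ne_zero (mul_ne_zero (inv_ne_zero hxf0) (inv_ne_zero hxe0)) hef)
  refine ⟨siegel P x (f1 - e1), ?_, polar P x e / polar P x f, div_ne_zero hxe0 hxf0, ?_⟩
  · have hv : P (f1 - e1 + P (f1 - e1) • x) = P (f1 - e1) := by
      rw [quad_add, quad_smul, hPx, polar_smul_right, polar_comm (⇑P) (f1 - e1) x, ha, smul_zero,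
        mul_zero, add_zero, add_zero]
    rw [siegel_eq_refl_mul hPx ha haniso]
    exact refl_pair_mem_commutator hF.ndP haniso (by rw [hv]; exact haniso)
      (by rw [hv]; exact IsSquare.mul_self _)
  · have : e = polar P x e • e1 := by rw [he1d]; exact (smul_inv_smul₀ hxe0 e).symm
    rw [this, map_smul, hmove, hf1d, smul_smul, ← this, div_eq_mul_inv]

/-- `Ω` over `K` is transitive on singular lines. -/
theorem Fld.exists_move {e f : V} (he : e ≠ 0) (hf : f ≠ 0) (hPe : P e = 0) (hPf : P f = 0) :
    ∃ g ∈ commutator (oGroup P), ∃ c : K, c ≠ 0 ∧ g.1 e = c • f := by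
  by_cases hef : polar P e f ≠ 0
  · exact hF.exists_move_nonorth hPe hPf hef
  push Not at hef
  by_cases hdep : ∃ c : K, c • f = e
  · obtain ⟨c, rfl⟩ := hdep
    refine ⟨1, one_mem _, c, fun h => he (by rw [h, zero_smul]), rfl⟩
  push Not at hdep
  have hli : LinearIndependent K ![e, f] :=
    (LinearIndependent.pair_symm_iff).1 ((LinearIndependent.pair_iff' hf).2 hdep)
  obtain ⟨y, hy⟩ := exists_polar_eq_on hF.ndP (Submodule.span K (Set.range ![e, f]))
    (Basis.constr (Basis.span hli) K (fun _ => (1 : K)))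
  have hye : polar P e y = 1 := by
    have h := hy (Basis.span hli 0)
    rw [Basis.constr_basis] at h
    simpa [Basis.span_apply] using h
  have hyf : polar P f y = 1 := by
    have h := hy (Basis.span hli 1)
    rw [Basis.constr_basis] at h
    simpa [Basis.span_apply] using h
  set x := y + (-(P y)) • e with hx
  have hex : polar P e x = 1 := by
    rw [hx, polar_add_right, polar_smul_right, polar_self, hPe, smul_zero, smul_zero, hye, add_zero]
  have hfx : polar P f x = 1 := by
    rw [hx, polar_add_right, polar_smul_right, polar_comm (⇑P) f e, hef, smul_zero, hyf, add_zero]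
  have hPx : P x = 0 := by
    rw [hx, quad_add, quad_smul, hPe, polar_smul_right, polar_comm (⇑P) y e, hye, smul_eq_mul]; ring
  obtain ⟨g₁, hg₁, c₁, hc₁, h₁⟩ := hF.exists_move_nonorth hPe hPx (by rw [hex]; exact one_ne_zero)
  obtain ⟨g₂, hg₂, c₂, hc₂, h₂⟩ := hF.exists_move_nonorth hPx hPf
    (by rw [polar_comm, hfx]; exact one_ne_zero)
  refine ⟨g₂ * g₁, mul_mem hg₂ hg₁, c₁ * c₂, mul_ne_zero hc₁ hc₂, ?_⟩
  show g₂.1 (g₁.1 e) = _
  rw [h₁, map_smul, h₂, smul_smul]

end CfsgLib.OrthField
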