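import Cfsg.Agent.OrthField.Rigid
import Cfsg.Agent.OrthField.LongPairs
import Cfsg.Agent.OrthField.Burnside
import Cfsg.Agent.OrthField.Fusion
import Cfsg.Agent.OrthField.PairMaps

/-!
In degree at least five one pair of long root maps gives a non-semilinear element of the stabiliser of the line
fixing the middle, and with it every skew map is a long root map.
-/

set_option autoImplicit false
set_option linter.unusedSectionVars false
set_option linter.unusedVariables false
set_option linter.style.haveILetI false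

namespace CfsgLib.OrthField

open QuadraticMap CfsgLib.Forms CfsgLib.Quad Module CfsgLib.FieldMax

section field

variable {F : Type*} [Field F] [Finite F] {K : Type*} [Field K] [Finite K] [Algebra F K]

theorem skewPair_add (σ : K →ₐ[F] K) (s t : K) : skewPair σ (s + t) = skewPair σ s + skewPair σ t :=
  LinearMap.ext fun x => by
    rw [LinearMap.add_apply, skewPair_apply, skewPair_apply, skewPair_apply, map_add]; ring

theorem skewPair_smul (σ : K →ₐ[F] K) (a : F) (t : K) : skewPair σ (a • t) = a • skewPair σ t :=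
  LinearMap.ext fun x => by
    rw [LinearMap.smul_apply, skewPair_apply, skewPair_apply, map_smul, Algebra.smul_def, Algebra.smul_def,
      Algebra.smul_def]
    ring

theorem comp_ne_id {σ : K →ₐ[F] K} (hr : (finrank F K).Prime) (hr2 : finrank F K ≠ 2) (hσ : σ ≠ AlgHom.id F K) :
    σ.comp σ ≠ AlgHom.id F K := fun h =>
  hr2 (finrank_eq_two_of_sq hr hσ fun k => AlgHom.congr_fun h k)

/-- The twisted norm of a kernel vector of a pair is a scalar. -/
theorem pair_ker {σ : K →ₐ[F] K} (hr : (finrank F K).Prime) (hσ : σ ≠ AlgHom.id F K) {t w : K}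
    (h : skewPair σ t w = 0) : ∃ s : F, algebraMap F K s = t * σ w * w := by
  have hne : ainv σ ≠ AlgHom.id F K := fun h' => hσ (ainv_eq_id h')
  refine fixed_eq hr hne ?_
  rw [skewPair_apply, sub_eq_zero] at h
  rw [map_mul, map_mul, ainv_apply, h]
  ring

theorem pair_ker_line {σ : K →ₐ[F] K} (hr : (finrank F K).Prime) (hr2 : finrank F K ≠ 2)
    (hσ : σ ≠ AlgHom.id F K) {t k w : K} (ht : t * σ k * k = 1) (hw : skewPair σ t w = 0) :
    ∃ a : F, w = a • k := by
  obtain ⟨s, hs⟩ := pair_ker hr hσ hw
  have hk : k ≠ 0 := fun h => by rw [h, mul_zero] at ht; exact zero_ne_one ht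
  have hσk : σ k ≠ 0 := fun h => by rw [h, mul_zero, zero_mul] at ht; exact zero_ne_one ht
  have ht0 : t ≠ 0 := fun h => by rw [h, zero_mul, zero_mul] at ht; exact zero_ne_one ht
  by_cases hw0 : w = 0
  · exact ⟨0, by rw [hw0, zero_smul]⟩
  set y := w / k with hy
  have hy0 : y ≠ 0 := div_ne_zero hw0 hk
  have h1 : σ y * y = algebraMap F K s := by
    rw [hs, hy, map_div₀]
    field_simp
    linear_combination (-(σ w)) * ht
  have h2 : σ (σ y) = y := by
    have h3 := congrArg σ h1
    rw [map_mul, AlgHom.commutes, ← h1, mul_comm (σ (σ y))] at h3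
    exact mul_left_cancel₀ (fun h => hy0 (σ.toRingHom.injective (h.trans (map_zero σ).symm))) h3
  obtain ⟨a, ha⟩ := fixed_eq hr (comp_ne_id hr hr2 hσ) (k := y) h2
  exact ⟨a, by rw [Algebra.smul_def, ha, hy, div_mul_cancel₀ _ hk]⟩

/-- Trace orthogonals of a proper subspace. -/
theorem exists_trace_perp {S : Submodule F K} (hS : S ≠ ⊤) :
    ∃ w : K, w ≠ 0 ∧ ∀ s ∈ S, Algebra.trace F K (w * s) = 0 := by
  obtain ⟨φ, hφ, hle⟩ := Submodule.exists_le_ker_of_lt_top S (lt_top_iff_ne_top.2 hS)
  let e := LinearMap.BilinForm.toDual (Algebra.traceForm F K) (traceForm_nondegenerate F K)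
  refine ⟨e.symm φ, fun h => hφ (by rw [← e.apply_symm_apply φ, h, map_zero]), fun s hs => ?_⟩
  have h : e (e.symm φ) s = φ s := by rw [e.apply_symm_apply]
  exact h.trans (hle hs)

end field

variable {F : Type*} [Field F] [Finite F] {K : Type*} [Field K] [Finite K] [Algebra F K]
  {V : Type*} [AddCommGroup V] [Module F V] [Module K V] [IsScalarTower F K V] [Finite V]
  {Q : QuadraticForm F V} {P : QuadraticForm K V}

/-- An element of the subgroup fixing the middle and stabilising the line. -/
structure Levi (M : Subgroup (oGroup Q)) (P : QuadraticForm K V) (e f : V) (b : oGroup Q) : Prop where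
  mem : b ∈ M
  fix : ∀ y, polar P e y = 0 → polar P f y = 0 → b.1 y = y
  stab : Stab K e b

theorem Levi.inv {M : Subgroup (oGroup Q)} {e f : V} (he : e ≠ 0) {b : oGroup Q} (hb : Levi M P e f b) :
    Levi M P e f b⁻¹ :=
  ⟨inv_mem hb.mem, fun y h h' => by
    show b.1.symm y = y
    rw [LinearEquiv.symm_apply_eq, hb.fix y h h'], hb.stab.inv he⟩

theorem Levi.mul {M : Subgroup (oGroup Q)} {e f : V} {a b : oGroup Q} (ha : Levi M P e f a)
    (hb : Levi M P e f b) : Levi M P e f (a * b) :=
  ⟨mul_mem ha.mem hb.mem, fun y h h' => by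
    show a.1 (b.1 y) = y
    rw [hb.fix y h h', ha.fix y h h'], ha.stab.mul hb.stab⟩

/-- The action on the last coordinate. -/
noncomputable def gam (P : QuadraticForm K V) (e f : V) (b : oGroup Q) : K →ₗ[F] K where
  toFun t := polar P (b.1 (t • f)) e
  map_add' s t := by rw [add_smul, map_add, polar_add_left]
  map_smul' a t := by
    rw [RingHom.id_apply, smul_assoc, map_smul, ← algebraMap_smul K a (b.1 (t • f)), polar_smul_left,
      smul_eq_mul, ← Algebra.smul_def]

/-- The action on the line. -/
noncomputable def alph (P : QuadraticForm K V) (e f : V) (b : oGroup Q) : K →ₗ[F] K where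
  toFun t := polar P (b.1 (t • e)) f
  map_add' s t := by rw [add_smul, map_add, polar_add_left]
  map_smul' a t := by
    rw [RingHom.id_apply, smul_assoc, map_smul, ← algebraMap_smul K a (b.1 (t • e)), polar_smul_left,
      smul_eq_mul, ← Algebra.smul_def]

theorem gam_apply (e f : V) (b : oGroup Q) (t : K) : gam P e f b t = polar P (b.1 (t • f)) e := rfl

theorem alph_apply (e f : V) (b : oGroup Q) (t : K) : alph P e f b t = polar P (b.1 (t • e)) f := rfl

theorem long_fix_perp {e : V} {g : K →ₗ[F] K} {b : oGroup Q} (hb : IsLong P e g b) {x : V}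
    (hx : polar P e x = 0) : b.1 x = x := by
  rw [hb, polar_comm, hx, map_zero, zero_smul, add_zero]

variable (hF : Fld Q P)

include hF

theorem Fld.mid_zero {e f : V} (hfr : Frame P e f) {x : V}
    (h : ∀ y, polar P e y = 0 → polar P f y = 0 → polar P x y = 0) : mid P e f x = 0 := by
  refine hF.ndP.1 _ fun y => ?_
  show polar P _ y = 0
  have h2 := h _ (hfr.mid_e y) (hfr.mid_f y)
  rw [hfr.polar_eq, hfr.mid_of_perp (hfr.mid_e _) (hfr.mid_f _), polar_comm (⇑P) (mid P e f y) e, hfr.mid_e,
    polar_comm (⇑P) (mid P e f y) f, hfr.mid_f, mul_zero, mul_zero, zero_add, zero_add] at h2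
  rw [hfr.polar_eq, hfr.mid_of_perp (hfr.mid_e _) (hfr.mid_f _), polar_comm (⇑P) (mid P e f x) e, hfr.mid_e,
    polar_comm (⇑P) (mid P e f x) f, hfr.mid_f, zero_mul, zero_mul, zero_add, zero_add]
  exact h2

theorem Fld.stab_alph {e f : V} (hfr : Frame P e f) {b : oGroup Q} (hb : Stab K e b) (k : K) :
    b.1 (k • e) = alph P e f b k • e := by
  obtain ⟨k', hk'⟩ := hb k
  rw [alph_apply, hk', polar_smul_left, hfr.hef, smul_eq_mul, mul_one]

theorem Fld.gam_comp {e f : V} (hfr : Frame P e f) {a b : oGroup Q} (ha : Stab K e a) :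
    gam P e f (a * b) = (gam P e f a).comp (gam P e f b) := by
  refine LinearMap.ext fun t => ?_
  show polar P (a.1 (b.1 (t • f))) e = gam P e f a (polar P (b.1 (t • f)) e)
  rw [gam_apply]
  have h : polar P e (a.1 (b.1 (t • f) - polar P (b.1 (t • f)) e • f)) = 0 := (hF.stab_perp hfr.e_ne ha).1 (by
    rw [polar_sub_right, polar_smul_right, hfr.hef, smul_eq_mul, mul_one, polar_comm (⇑P) e, sub_self])
  rw [map_sub, polar_sub_right, sub_eq_zero] at h
  rw [polar_comm, h, polar_comm]

theorem Fld.levi_adj {e f : V} (hfr : Frame P e f) {b : oGroup Q} (hb : Stab K e b) (s t : K) :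
    Algebra.trace F K (alph P e f b s * gam P e f b t) = Algebra.trace F K (s * t) := by
  rw [gam_apply, polar_comm (⇑P) (b.1 _) e, ← hF.polar_smul_tr, ← hF.stab_alph hfr hb, polar_oGroup,
    hF.polar_smul_tr, polar_smul_right, hfr.hef, smul_eq_mul, mul_one]

variable {M : Subgroup (oGroup Q)} (hM : Over K M)

include hM

set_option maxHeartbeats 800000 in
/-- Semilinearity on the line would make a conjugate long root element preserve it. -/
theorem Fld.exists_nonsemi_stab (hr5 : 5 ≤ finrank F K) {e f : V} (hfr : Frame P e f) {σ : K →ₐ[F] K}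
    (hσ : σ ≠ AlgHom.id F K) (hpe : ∀ t, skewPair σ t ∈ longs M hfr.he)
    (hpf : ∀ t, skewPair σ t ∈ longs M hfr.hf) :
    ∃ b, Levi M P e f b ∧ ¬ ∃ (c : K) (ρ : K →ₐ[F] K), ∀ k : K, b.1 (k • e) = (c * ρ k) • e := by
  classical
  by_contra hno
  have LS : ∀ b, Levi M P e f b → ∃ (c : K) (ρ : K →ₐ[F] K), ∀ k : K, b.1 (k • e) = (c * ρ k) • e :=
    fun b hb => by by_contra h; exact hno ⟨b, hb, h⟩
  have hr := hF.prime
  have hr2 : finrank F K ≠ 2 := by omega
  haveI : Finite (oGroup Q) := Finite.of_injective (fun g : oGroup Q => (g.1 : V → V))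
    fun a b h => Subtype.ext (LinearEquiv.ext fun x => congrFun h x)
  haveI := Fintype.ofFinite F
  haveI := Fintype.ofFinite K
  have h2K := hF.two'
  -- a trace-singular element
  obtain ⟨k, -, hk0, hk⟩ := exists_singular_of_three (Q := LinearMap.BilinMap.toQuadraticMap (Algebra.traceForm F K))
    (⊤ : Submodule F K) (by rw [finrank_top]; omega)
  rw [LinearMap.BilinMap.toQuadraticMap_apply, Algebra.traceForm_apply] at hk
  have hσk : σ k ≠ 0 := fun h => hk0 (σ.toRingHom.injective (h.trans (map_zero σ).symm))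
  set t0 := (σ k * k)⁻¹ with ht0d
  have ht0 : t0 * σ k * k = 1 := by rw [mul_assoc, ht0d, inv_mul_cancel₀ (mul_ne_zero hσk hk0)]
  set g0 := skewPair σ t0 with hg0
  have hg0k : g0 k = 0 := by
    have h1 : t0 * σ k = k⁻¹ := by rw [ht0d]; field_simp
    rw [hg0, skewPair_apply, ← map_mul, h1]
    have h2 : t0 * k = (σ k)⁻¹ := by rw [ht0d]; field_simp
    rw [h2, map_inv₀, ainv_apply, sub_self]
  have hker : LinearMap.ker g0 = Submodule.span F {k} := by
    refine le_antisymm (fun w hw => ?_) ((Submodule.span_singleton_le_iff_mem _ _).2 hg0k)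
    obtain ⟨a, rfl⟩ := pair_ker_line hr hr2 hσ ht0 hw
    exact Submodule.smul_mem _ _ (Submodule.mem_span_singleton_self k)
  have hrange : finrank F (LinearMap.range g0) + 1 = finrank F K := by
    have h := g0.finrank_range_add_finrank_ker
    rwa [hker, finrank_span_singleton hk0] at h
  obtain ⟨a0, ha0⟩ : k ∈ LinearMap.range g0 := by
    set φ := (Algebra.traceForm F K) k
    have hle : LinearMap.range g0 ≤ LinearMap.ker φ := by
      rintro _ ⟨y, rfl⟩
      show Algebra.trace F K (k * g0 y) = 0
      have h := (skew_skewPair σ t0).isAdj k y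
      rw [← hg0, hg0k, zero_mul, map_zero, LinearMap.neg_apply, mul_neg, map_neg, zero_eq_neg] at h
      exact h
    have hφ : φ ≠ 0 := fun h => hk0 (eq_zero_of_trace (F := F) fun y => LinearMap.congr_fun h y)
    have h1 : finrank F (LinearMap.ker φ) + 1 ≤ finrank F K := by
      have : LinearMap.ker φ ≠ ⊤ := fun h => hφ (LinearMap.ker_eq_top.1 h)
      have := Submodule.finrank_lt this
      omega
    rw [Submodule.eq_of_le_of_finrank_le hle (by omega)]
    exact hk
  have ha0F : ∀ a : F, a0 ≠ a • k := fun a h => hk0 (by rw [← ha0, h, map_smul, hg0k, smul_zero])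
  -- the stabiliser of the middle and of two vectors of the line
  set G0 : Subgroup (oGroup Q) := M ⊓
    { carrier := {g | (∀ y, polar P e y = 0 → polar P f y = 0 → g.1 y = y) ∧ g.1 (k • e) = k • e ∧
        g.1 (a0 • e) = a0 • e}
      one_mem' := ⟨fun _ _ _ => rfl, rfl, rfl⟩
      mul_mem' := fun {a b} ha hb => ⟨fun y h h' => by
          show a.1 (b.1 y) = y
          rw [hb.1 y h h', ha.1 y h h'], by
          show a.1 (b.1 (k • e)) = k • e
          rw [hb.2.1, ha.2.1], by
          show a.1 (b.1 (a0 • e)) = a0 • e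
          rw [hb.2.2, ha.2.2]⟩
      inv_mem' := fun {a} ha => ⟨fun y h h' => by
          show a.1.symm y = y
          rw [LinearEquiv.symm_apply_eq]; exact (ha.1 y h h').symm, by
          show a.1.symm (k • e) = k • e
          rw [LinearEquiv.symm_apply_eq]; exact ha.2.1.symm, by
          show a.1.symm (a0 • e) = a0 • e
          rw [LinearEquiv.symm_apply_eq]; exact ha.2.2.symm⟩ } with hG0
  have hee : ∀ c : K, polar P e (c • e) = 0 := fun c => by rw [polar_smul_right, hfr.hee, smul_zero]
  have hlongG : ∀ {g : K →ₗ[F] K} {b : oGroup Q}, b ∈ M → IsLong P e g b → b ∈ G0 := fun {g b} hb hl =>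
    ⟨hb, fun y h _ => long_fix_perp hl h, long_fix_perp hl (hee k), long_fix_perp hl (hee a0)⟩
  let LG : Subgroup (oGroup Q) :=
    { carrier := {b | ∃ g, IsLong P e g b}
      one_mem' := ⟨0, fun x => by simp⟩
      mul_mem' := fun {a b} ha hb => by
        obtain ⟨g, hg⟩ := ha
        obtain ⟨g', hg'⟩ := hb
        exact ⟨g + g', hg.mul hfr.he hg'⟩
      inv_mem' := fun {a} ha => by
        obtain ⟨g, hg⟩ := ha
        exact ⟨-g, hg.inv hfr.he⟩ }
  have hstabA : ∀ b ∈ G0, Stab K e b → b ∈ LG := by
    intro b hb hbs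
    obtain ⟨c, ρ, hρ⟩ := LS b ⟨hb.1, hb.2.1, hbs⟩
    have h1 : c * ρ k = k := smul_left_injective K hfr.e_ne ((hρ k).symm.trans hb.2.2.1)
    have h2 : c * ρ a0 = a0 := smul_left_injective K hfr.e_ne ((hρ a0).symm.trans hb.2.2.2)
    have hρid : ρ = AlgHom.id F K := by
      by_contra hne
      obtain ⟨a, ha⟩ := fixed_eq hr hne (k := a0 / k) (by
        have hc : c ≠ 0 := fun h => hk0 (by rw [h, zero_mul] at h1; exact h1.symm)
        have hρk : ρ k ≠ 0 := fun h => hk0 (by rw [h, mul_zero] at h1; exact h1.symm)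
        rw [map_div₀, div_eq_div_iff hρk hk0]
        refine mul_left_cancel₀ hc ?_
        linear_combination k * h2 - a0 * h1)
      exact ha0F a (by rw [Algebra.smul_def, ha, div_mul_cancel₀ _ hk0])
    rw [hρid, AlgHom.id_apply] at h1
    have hc1 : c = 1 := mul_right_cancel₀ hk0 (h1.trans (one_mul k).symm)
    obtain ⟨g, hg⟩ := hF.long_fix hfr (b := b) fun x hx => by
      conv_lhs => rw [hfr.decomp x, polar_comm (⇑P) x e, hx, zero_smul, add_zero, map_add, hρ, hρid, hc1,
        AlgHom.id_apply, one_mul, hb.2.1 _ (hfr.mid_e x) (hfr.mid_f x)]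
      conv_rhs => rw [hfr.decomp x, polar_comm (⇑P) x e, hx, zero_smul, add_zero]
    exact ⟨g, hg⟩
  set A : Subgroup G0 := LG.subgroupOf G0 with hA
  have hAel : Cfsg.IsElementaryAbelian (ringChar F) A := by
    refine ⟨⟨⟨fun a b => ?_⟩⟩, fun a ha => ?_⟩
    · obtain ⟨g, hg⟩ := a.2
      obtain ⟨g', hg'⟩ := b.2
      refine Subtype.ext (Subtype.ext ?_)
      show (a.1 : oGroup Q) * b.1 = b.1 * a.1
      exact (hg.mul hfr.he hg').ext (add_comm g g' ▸ hg'.mul hfr.he hg)
    · obtain ⟨g, hg⟩ := ha
      refine Subtype.ext ?_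
      rw [SubmonoidClass.coe_pow]
      have h : ∀ n : ℕ, IsLong P e (n • g) ((a : oGroup Q) ^ n) := by
        intro n
        induction n with
        | zero => intro x; simp
        | succ n ih => rw [pow_succ, succ_nsmul]; exact ih.mul hfr.he hg
      refine (h _).ext (g := _) (b' := 1) fun x => ?_
      rw [← Nat.cast_smul_eq_nsmul F, ringChar.Nat.cast_ringChar, zero_smul]
      simp
  -- good parameters
  obtain ⟨ν, hν⟩ : ∃ ν : F, ¬ IsSquare ν := FiniteField.exists_nonsquare fun h => hF.p_ne_two h
  have hν0 : ν ≠ 0 := fun h => hν (h ▸ IsSquare.zero)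
  set W : Submodule F K := Submodule.span F (Set.range ![k, a0]) with hW
  have hWli : LinearIndependent F ![k, a0] :=
    (LinearIndependent.pair_iff' hk0).2 fun a ha => ha0F a ha.symm
  set E' : Submodule F K := LinearMap.BilinForm.orthogonal (Algebra.traceForm F K) W with hE'
  have hE'dim : finrank F E' = finrank F K - 2 := by
    rw [hE', LinearMap.BilinForm.finrank_orthogonal (traceForm_nondegenerate F K) W, hW,
      finrank_span_eq_card hWli, Fintype.card_fin]
  have hmemE : ∀ w, Algebra.trace F K (w * k) = 0 → Algebra.trace F K (w * a0) = 0 → w ∈ E' := by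
    intro w h1 h2
    rw [hE', LinearMap.BilinForm.mem_orthogonal_iff]
    intro n hn
    rw [hW] at hn
    obtain ⟨c, rfl⟩ := (Submodule.mem_span_range_iff_exists_fun F).1 hn
    show Algebra.trace F K (_ * w) = 0
    rw [Fin.sum_univ_two, Matrix.cons_val_zero, Matrix.cons_val_one, Matrix.cons_val_fin_one, add_mul, smul_mul_assoc,
      smul_mul_assoc, map_add, map_smul, map_smul, mul_comm k, mul_comm a0, h1, h2, smul_zero, smul_zero, add_zero]
  set B0 : Finset K := (Finset.univ : Finset (E' × Fin 2)).image fun x =>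
    (if x.2 = 0 then (1 : K) else algebraMap F K ν) / (σ (x.1 : K) * x.1) with hB0
  have hbad : ∀ t w, w ≠ 0 → w ∈ E' → skewPair σ t w = 0 → t ∈ B0 := by
    intro t w hw0 hwE hw
    obtain ⟨s, hs⟩ := pair_ker hr hσ hw
    have hσw : σ w ≠ 0 := fun h => hw0 (σ.toRingHom.injective (h.trans (map_zero σ).symm))
    rw [hB0, Finset.mem_image]
    by_cases hs0 : s = 0
    · refine ⟨(⟨0, zero_mem E'⟩, 0), Finset.mem_univ _, ?_⟩
      rw [hs0, map_zero, eq_comm, mul_eq_zero, mul_eq_zero] at hs
      have ht : t = 0 := (hs.resolve_right hw0).resolve_right hσw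
      simp [ht]
    have key : ∀ (ε : F) (i : Fin 2), (if i = 0 then (1 : K) else algebraMap F K ν) = algebraMap F K ε →
        IsSquare (s / ε) → ε ≠ 0 → ∃ a ∈ (Finset.univ : Finset (E' × Fin 2)),
          (if a.2 = 0 then (1 : K) else algebraMap F K ν) / (σ (a.1 : K) * a.1) = t := by
      intro ε i hi ⟨y, hy⟩ hε
      have hy0 : y ≠ 0 := fun h => by
        rw [h, mul_zero, div_eq_zero_iff] at hy; exact hs0 (hy.resolve_right hε)
      refine ⟨(⟨y⁻¹ • w, E'.smul_mem _ hwE⟩, i), Finset.mem_univ _, ?_⟩
      show (if i = 0 then (1 : K) else algebraMap F K ν) / (σ (y⁻¹ • w) * (y⁻¹ • w)) = t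
      rw [hi, map_smul, Algebra.smul_def, Algebra.smul_def, map_inv₀]
      have hyK : algebraMap F K y ≠ 0 := by simpa using hy0
      have h' : algebraMap F K s = algebraMap F K y * algebraMap F K y * algebraMap F K ε := by
        rw [← map_mul, ← map_mul, ← hy, div_mul_cancel₀ _ hε]
      field_simp
      linear_combination hs - h'
    by_cases hsq : IsSquare s
    · exact key 1 0 (by simp) (by rwa [div_one]) one_ne_zero
    · refine key ν 1 (by simp) ?_ hν0
      rw [div_eq_mul_inv]
      refine sq_of_nonsq hsq fun h => hν ?_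
      have := h.inv
      rwa [inv_inv] at this
  have hB0card : B0.card ≤ 2 * Fintype.card F ^ (finrank F K - 2) := by
    refine Finset.card_image_le.trans (le_of_eq ?_)
    rw [Finset.card_univ, Fintype.card_prod, Fintype.card_fin, Module.card_eq_pow_finrank (K := F) (V := E'), hE'dim,
      mul_comm]
  have hq3 : 3 ≤ Fintype.card F := by
    have h1 : 1 < Fintype.card F := Fintype.one_lt_card
    have := FiniteField.odd_card_of_char_ne_two (F := F) hF.p_ne_two
    omega
  have hKcard : Fintype.card K = Fintype.card F ^ (finrank F K - 2) * (Fintype.card F * Fintype.card F) := by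
    rw [← pow_two, ← pow_add, Nat.sub_add_cancel (by omega : 2 ≤ finrank F K)]
    exact Module.card_eq_pow_finrank
  set B1 : Finset K := (B0 ×ˢ (Finset.univ : Finset F)).image fun x => x.1 with hB1'
  obtain ⟨t1, ht1⟩ : ∃ t1, t1 ∉ B0 := by
    by_contra hc
    push Not at hc
    have h1 := Finset.card_le_card (fun x _ => hc x : (Finset.univ : Finset K) ⊆ B0)
    rw [Finset.card_univ, hKcard] at h1
    have hp : 0 < Fintype.card F ^ (finrank F K - 2) := pow_pos (by omega) _
    have h9 : 9 ≤ Fintype.card F * Fintype.card F := Nat.mul_le_mul hq3 hq3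
    nlinarith
  obtain ⟨t2, ht2⟩ : ∃ t2, t2 ∉ (B0 ×ˢ (Finset.univ : Finset F)).image fun x => x.1 - x.2 • t1 := by
    by_contra hc
    push Not at hc
    have h1 := Finset.card_le_card (fun x _ => hc x : (Finset.univ : Finset K) ⊆ _)
    have h2 := h1.trans Finset.card_image_le
    rw [Finset.card_univ, Finset.card_product, Finset.card_univ, hKcard] at h2
    have hp : 0 < Fintype.card F ^ (finrank F K - 2) := pow_pos (by omega) _
    have h3 : B0.card * Fintype.card F ≤ 2 * Fintype.card F ^ (finrank F K - 2) * Fintype.card F :=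
      Nat.mul_le_mul_right _ hB0card
    have h4 : 3 * (Fintype.card F ^ (finrank F K - 2) * Fintype.card F) ≤
        Fintype.card F * (Fintype.card F ^ (finrank F K - 2) * Fintype.card F) := Nat.mul_le_mul_right _ hq3
    nlinarith
  have hgood : ∀ a b : F, (a ≠ 0 ∨ b ≠ 0) → ∀ w, w ≠ 0 → w ∈ E' → skewPair σ (a • t1 + b • t2) w ≠ 0 := by
    intro a b hab w hw0 hwE hw
    by_cases hb : b = 0
    · rw [hb, zero_smul, add_zero, skewPair_smul, LinearMap.smul_apply, smul_eq_zero] at hw
      exact ht1 (hbad _ w hw0 hwE (hw.resolve_left (hab.resolve_right (fun h => h hb))))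
    · apply ht2
      have e2 : a • t1 + b • t2 = b • (t2 + (b⁻¹ * a) • t1) := by
        rw [smul_add, smul_smul, ← mul_assoc, mul_inv_cancel₀ hb, one_mul, add_comm]
      rw [e2, skewPair_smul, LinearMap.smul_apply, smul_eq_zero] at hw
      exact Finset.mem_image.2 ⟨(_, b⁻¹ * a),
        Finset.mem_product.2 ⟨hbad _ w hw0 hwE (hw.resolve_left hb), Finset.mem_univ _⟩, add_sub_cancel_right _ _⟩
  have hlin0 : ∀ a b : F, a • t1 + b • t2 = 0 → a = 0 ∧ b = 0 := by
    intro a b h
    by_contra hne
    have hab : a ≠ 0 ∨ b ≠ 0 := by tauto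
    obtain ⟨w, hwE, hw0⟩ := Submodule.exists_mem_ne_zero_of_ne_bot (p := E') (fun h' => by
      rw [h', finrank_bot] at hE'dim; omega)
    refine hgood a b hab w hw0 hwE ?_
    rw [h, skewPair_apply]; simp
  let EG : Subgroup (oGroup Q) :=
    { carrier := {x | ∃ a b : F, IsLong P e (skewPair σ (a • t1 + b • t2)) x}
      one_mem' := ⟨0, 0, fun x => by simp [skewPair_apply]⟩
      mul_mem' := fun {x y} hx hy => by
        obtain ⟨a, b, h⟩ := hx
        obtain ⟨a', b', h'⟩ := hy
        refine ⟨a + a', b + b', ?_⟩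
        rw [show (a + a') • t1 + (b + b') • t2 = (a • t1 + b • t2) + (a' • t1 + b' • t2) by module,
          skewPair_add]
        exact h.mul hfr.he h'
      inv_mem' := fun {x} hx => by
        obtain ⟨a, b, h⟩ := hx
        refine ⟨-a, -b, ?_⟩
        rw [show -a • t1 + -b • t2 = (-1 : F) • (a • t1 + b • t2) by module, skewPair_smul]
        convert h.inv hfr.he using 1
        exact LinearMap.ext fun y => by simp }
  have hAtop : A = ⊤ := by
    refine eq_top_of_selfNormalizing hF.p_prime hAel ?_ (E := EG.subgroupOf G0) ?_ ?_ ?_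
    · intro b hb
      refine hstabA _ b.2 fun c => ?_
      show ∃ k' : K, (b : oGroup Q).1 (c • e) = k' • e
      set x := (b : oGroup Q).1 (c • e) with hx
      refine ⟨polar P x f, ?_⟩
      have hxe : polar P x e = 0 := by
        by_contra hw
        obtain ⟨y, hy⟩ : ∃ y, skewPair σ y (polar P x e) ≠ 0 := by
          by_contra hc'
          push Not at hc'
          refine hw (σ.toRingHom.injective ?_)
          show σ _ = σ 0
          rw [map_zero]
          by_contra hσw
          have h1 := hc' 1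
          rw [skewPair_apply, map_one, one_mul, one_mul, sub_eq_zero] at h1
          have hall : ∀ y, ainv σ y = y := fun y => by
            have h2 := hc' y
            rw [skewPair_apply, ← h1, sub_eq_zero] at h2
            exact (mul_right_cancel₀ hσw h2).symm
          exact hσ (ainv_eq_id (AlgHom.ext hall))
        obtain ⟨u, huM, hu⟩ := hpe y
        obtain ⟨g', hg'⟩ := (Subgroup.mem_normalizer_iff''.1 hb ⟨u, hlongG huM hu⟩).1 ⟨_, hu⟩
        have h0 : u.1 x = x := by
          have h1 := long_fix_perp hg' (hee c)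
          change (b : oGroup Q).1.symm (u.1 ((b : oGroup Q).1 (c • e))) = c • e at h1
          rw [LinearEquiv.symm_apply_eq] at h1
          exact h1
        rw [hu, add_eq_left, smul_eq_zero] at h0
        exact hy (h0.resolve_right hfr.e_ne)
      have hmid : mid P e f x = 0 := hF.mid_zero hfr fun y hy hy' => by
        rw [polar_comm]
        refine hF.perp_line.1 fun c' => ?_
        have hey : polar P e (c' • y) = 0 := by rw [polar_smul_right, hy, smul_zero]
        have hfy : polar P f (c' • y) = 0 := by rw [polar_smul_right, hy', smul_zero]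
        rw [← b.2.2.1 _ hey hfy, hx, polar_oGroup, hF.polar_smul_tr, polar_smul_right, polar_comm (⇑P) y e,
          hy, smul_zero, mul_zero, map_zero]
      conv_lhs => rw [hfr.decomp x, hmid, hxe, zero_smul, add_zero, add_zero]
    · rintro x ⟨a, b, hx⟩
      exact ⟨_, hx⟩
    · choose u huM hu using fun y : F × F => hpe (y.1 • t1 + y.2 • t2)
      have hinj : Function.Injective (fun y : F × F =>
          (⟨⟨u y, hlongG (huM y) (hu y)⟩, ⟨y.1, y.2, hu y⟩⟩ : EG.subgroupOf G0)) := by
        intro y y' h
        have h' : u y = u y' := congrArg (fun z : EG.subgroupOf G0 => (z.1 : oGroup Q)) h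
        have h1 : ∀ c : K, skewPair σ (y.1 • t1 + y.2 • t2) c = skewPair σ (y'.1 • t1 + y'.2 • t2) c := by
          intro c
          have e1 := hu y (c • f)
          rw [h', hu y', add_right_inj, polar_smul_left, hfr.hfe, smul_eq_mul, mul_one] at e1
          exact (smul_left_injective K hfr.e_ne e1).symm
        have h2 : skewPair σ ((y.1 - y'.1) • t1 + (y.2 - y'.2) • t2) = 0 := LinearMap.ext fun c => by
          rw [show (y.1 - y'.1) • t1 + (y.2 - y'.2) • t2 =
            (y.1 • t1 + y.2 • t2) + (-1 : F) • (y'.1 • t1 + y'.2 • t2) by module, skewPair_add, skewPair_smul,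
            LinearMap.add_apply, LinearMap.smul_apply, h1, neg_one_smul, add_neg_cancel, LinearMap.zero_apply]
        obtain ⟨w, hwE, hw0⟩ := Submodule.exists_mem_ne_zero_of_ne_bot (p := E') (fun h' => by
          rw [h', finrank_bot] at hE'dim; omega)
        have h3 : ¬ (y.1 - y'.1 ≠ 0 ∨ y.2 - y'.2 ≠ 0) := fun hab =>
          hgood _ _ hab w hw0 hwE (by rw [h2, LinearMap.zero_apply])
        push Not at h3
        exact Prod.ext (sub_eq_zero.1 h3.1) (sub_eq_zero.1 h3.2)
      refine le_trans ?_ (Nat.card_le_card_of_injective _ hinj)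
      haveI := ringChar.charP F
      obtain ⟨n, hn0, hn⟩ := FiniteField.card F (ringChar F)
      rw [Nat.card_prod, Nat.card_eq_fintype_card, hn, pow_two]
      exact Nat.mul_le_mul (Nat.le_self_pow n.pos.ne' _) (Nat.le_self_pow n.pos.ne' _)
    · rintro x ⟨a, b, hx⟩ hx1 z hz
      change IsLong P e _ (x : oGroup Q) at hx
      have hab : a ≠ 0 ∨ b ≠ 0 := by
        by_contra hc
        push Not at hc
        apply hx1
        refine Subtype.ext (hx.ext (b' := 1) ?_)
        intro y
        rw [hc.1, hc.2]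
        simp [skewPair_apply]
      refine hstabA _ z.2 ?_
      set g1 := skewPair σ (a • t1 + b • t2) with hg1
      have hzx : ∀ y, (z : oGroup Q).1 ((x : oGroup Q).1 y) = (x : oGroup Q).1 ((z : oGroup Q).1 y) := fun y =>
        LinearEquiv.congr_fun (congrArg (fun w : G0 => ((w : oGroup Q)).1)
          (Subgroup.mem_centralizer_singleton_iff.1 hz)) y
      let S : Submodule F K :=
        { carrier := {c | ∃ c' : K, (z : oGroup Q).1 (c • e) = c' • e}
          zero_mem' := ⟨0, by simp⟩
          add_mem' := fun {c d} hc hd => by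
            obtain ⟨c', hc⟩ := hc
            obtain ⟨d', hd⟩ := hd
            exact ⟨c' + d', by rw [add_smul, map_add, hc, hd, add_smul]⟩
          smul_mem' := fun a c hc => by
            obtain ⟨c', hc⟩ := hc
            exact ⟨a • c', by rw [smul_assoc, map_smul, hc, smul_assoc]⟩ }
      have hS : S = ⊤ := by
        by_contra hne
        obtain ⟨w, hw0, hw⟩ := exists_trace_perp hne
        have hrange' : ∀ c, g1 c ∈ S := by
          intro c
          refine ⟨g1 (polar P ((z : oGroup Q).1 (c • f)) e), ?_⟩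
          have h := hzx (c • f)
          rw [hx, hx, map_add, polar_smul_left, hfr.hfe, smul_eq_mul, mul_one] at h
          exact add_left_cancel h
        refine hgood a b hab w hw0 (hmemE w (hw k ⟨k, z.2.2.2.1⟩) (hw a0 ⟨a0, z.2.2.2.2⟩)) ?_
        refine eq_zero_of_trace (F := F) fun y => ?_
        rw [← hg1, (skew_skewPair σ _).isAdj w y, LinearMap.neg_apply, mul_neg, map_neg, neg_eq_zero]
        exact hw _ (hrange' y)
      intro c
      have hcS : c ∈ S := by rw [hS]; exact Submodule.mem_top
      exact hcS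
  -- the conjugate long root element
  obtain ⟨l, hlM, hl⟩ := hpf t0
  obtain ⟨u, huM, hu⟩ := hpe t0
  have hconj : ∀ a : K, (l * u * l⁻¹).1 (a • e) = (a - g0 (g0 a)) • e - g0 (g0 (g0 a)) • f := by
    intro a
    have h1 : (l⁻¹).1 (a • e) = a • e - g0 a • f := by
      show l.1.symm (a • e) = _
      rw [LinearEquiv.symm_apply_eq, hl, polar_sub_left, polar_smul_left, polar_smul_left, hfr.hef, hfr.hff,
        smul_zero, sub_zero, smul_eq_mul, mul_one]
      module
    show l.1 (u.1 ((l⁻¹).1 (a • e))) = _
    rw [h1, hu, polar_sub_left, polar_smul_left, polar_smul_left, hfr.hee, hfr.hfe, smul_zero, smul_eq_mul,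
      mul_one, zero_sub, map_neg, hl, polar_add_left, polar_sub_left, polar_smul_left, polar_smul_left,
      polar_smul_left, hfr.hef, hfr.hff, smul_zero, sub_zero, smul_eq_mul, smul_eq_mul, mul_one, mul_one,
      map_add, map_neg, ← hg0]
    module
  have hh0 : l * u * l⁻¹ ∈ G0 := by
    refine ⟨M.mul_mem (M.mul_mem hlM huM) (M.inv_mem hlM), fun y h h' => ?_, ?_, ?_⟩
    · show l.1 (u.1 (l.1.symm y)) = y
      have hly : l.1.symm y = y := by rw [LinearEquiv.symm_apply_eq, long_fix_perp hl h']
      rw [hly, long_fix_perp hu h, long_fix_perp hl h']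
    · rw [hconj, hg0k, map_zero, map_zero, sub_zero, zero_smul, sub_zero]
    · rw [hconj, ha0, hg0k, map_zero, sub_zero, zero_smul, sub_zero]
  have hmem : (⟨_, hh0⟩ : G0) ∈ A := by rw [hAtop]; exact Subgroup.mem_top _
  obtain ⟨g', hg'⟩ := hmem
  have h3 : ∀ a, g0 (g0 (g0 a)) = 0 := by
    intro a
    have h := congrArg (fun x => polar P x e) (long_fix_perp hg' (hee a))
    change polar P ((l * u * l⁻¹).1 (a • e)) e = polar P (a • e) e at h
    rw [hconj, polar_sub_left, polar_smul_left, polar_smul_left, polar_smul_left, hfr.hee, hfr.hfe,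
      smul_zero, smul_zero, smul_eq_mul, mul_one, zero_sub, neg_eq_zero] at h
    exact h
  have hle : LinearMap.range (g0.comp g0) ≤ LinearMap.ker g0 := by
    rintro _ ⟨a, rfl⟩; exact h3 a
  have h4 := Submodule.finrank_mono hle
  rw [hker, finrank_span_singleton hk0] at h4
  have h5 := (g0.domRestrict (LinearMap.range g0)).finrank_range_add_finrank_ker
  have h6 : LinearMap.range (g0.domRestrict (LinearMap.range g0)) = LinearMap.range (g0.comp g0) := by
    rw [LinearMap.range_domRestrict, LinearMap.range_comp]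
  have h7 : finrank F (LinearMap.ker (g0.domRestrict (LinearMap.range g0))) ≤ finrank F (LinearMap.ker g0) := by
    rw [LinearMap.ker_domRestrict]
    rw [← Submodule.finrank_map_subtype_eq]
    exact Submodule.finrank_mono (Submodule.map_comap_le _ _)
  rw [hker, finrank_span_singleton hk0] at h7
  rw [h6] at h5
  omega

end CfsgLib.OrthField
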